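import Cfsg.Agent.H17.KnDef2

/-! Project KN, piece EEB: coordinates on the group `E` of order 128. -/

set_option autoImplicit false
set_option maxRecDepth 100000
set_option synthInstance.maxSize 2000

namespace Cfsg.Agent.H5.KnEeb

open Equiv Subgroup Cfsg.Agent.H63 Cfsg.Agent.H8.GD
open Cfsg.Agent.H11.A16 hiding z2
open Cfsg.Agent.H17.Kn

universe u

/-! ### The model -/

theorem all8 {q : (P → ZMod 2) → Prop}
    (h : ∀ a0 a1 a2 a3 a4 a5 a6 a7, q ![a0, a1, a2, a3, a4, a5, a6, a7]) (f : P → ZMod 2) : q f := by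
  have : f = ![f 0, f 1, f 2, f 3, f 4, f 5, f 6, f 7] := funext fun p => by fin_cases p <;> rfl
  rw [this]
  apply h

def cff (a : Fin 3) (f : P → ZMod 2) : ZMod 2 := ∑ p, if p.1.testBit a.1 then 0 else f p

theorem cff_x (f : P → ZMod 2) : ∑ p, f p = 0 → ∀ (a : Fin 3) (s : P),
    cff a (fun p => f (p ^^^ s)) = cff a f :=
  all8 (q := fun f => ∑ p, f p = 0 → ∀ (a : Fin 3) (s : P),
    cff a (fun p => f (p ^^^ s)) = cff a f) (by decide +kernel) f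

theorem cff_aff (f : P → ZMod 2) : (∀ p q r, f (p ^^^ q ^^^ r) = f p + f q + f r) ↔
    ∑ p, f p = 0 ∧ ∀ a, cff a f = 0 :=
  all8 (q := fun f => (∀ p q r, f (p ^^^ q ^^^ r) = f p + f q + f r) ↔
    ∑ p, f p = 0 ∧ ∀ a, cff a f = 0) (by decide +kernel) f

def d1 : N2 := dl 3 * dl 7
def d2 : N2 := dl 5 * dl 7
def d3' : N2 := dl 6 * dl 7
def KL : List N2 := [1, xe 2 3 * xe 3 2, xe 2 3, xe 1 3 * xe 3 1, xe 1 3, xe 1 3 * xe 2 1 * xe 3 1,
  xe 1 3 * xe 2 1]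

theorem KL_mem : ∀ k ∈ KL, k ∈ QK := by decide +kernel

theorem cff_tr (f : P → ZMod 2) : ∑ p, f p = 0 → (∀ a, cff a f = 0) ∨
    ∃ k ∈ KL, ∀ a, cf a (k * ⟨1, f⟩ * k⁻¹) = cf a d1 :=
  all8 (q := fun f => ∑ p, f p = 0 → (∀ a, cff a f = 0) ∨
    ∃ k ∈ KL, ∀ a, cf a (k * ⟨1, f⟩ * k⁻¹) = cf a d1) (by decide +kernel) f

theorem d_facts : d1 ∈ EE ∧ d2 ∈ EE ∧ d3' ∈ EE ∧ cf 0 d1 = 0 ∧ cf 1 d1 = 0 ∧ cf 2 d1 = 1 ∧
    cf 0 d2 = 0 ∧ cf 1 d2 = 1 ∧ cf 0 d3' = 1 ∧ cf 2 (d1 * d2) = 1 ∧ cf 2 (d1 * d3') = 1 ∧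
    cf 1 (d2 * d3') = 1 ∧ cf 2 (d1 * d2 * d3') = 1 ∧ z2 ∈ AP ∧ z2 * z2 = 1 := by decide +kernel

theorem cf_mul {u v : N2} (hu : u ∈ AE) (hv : v ∈ AE) (a : Fin 3) :
    cf a (u * v) = cf a u + cf a v := by
  have h := cff_x u.f hu.2 a (v.σ 0)
  have e : ∀ p, v.σ p = p ^^^ v.σ 0 := hv.1
  rw [add_comm]
  change cf a (u * v) = cff a v.f + cff a u.f
  rw [← h, cf, cff, cff, ← Finset.sum_add_distrib]
  refine Finset.sum_congr rfl fun p _ => ?_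
  split_ifs
  · rw [add_zero]
  · rw [N2.mul_f, ← e]

theorem cf_inv {u : N2} (hu : u ∈ AE) (a : Fin 3) : cf a u⁻¹ = cf a u := by
  have := cf_mul (inv_mem hu) hu a
  rw [inv_mul_cancel, show cf a 1 = 0 by simp [cf]] at this
  revert this
  generalize cf a u⁻¹ = s
  generalize cf a u = t
  revert s t
  decide

/-- the kernel of a coefficient -/
def KK (a : Fin 3) : Subgroup N2 where
  carrier := {u | u ∈ AE ∧ cf a u = 0}
  one_mem' := ⟨one_mem _, by simp [cf]⟩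
  mul_mem' := fun hu hv => ⟨mul_mem hu.1 hv.1, by rw [cf_mul hu.1 hv.1, hu.2, hv.2, add_zero]⟩
  inv_mem' := fun hu => ⟨inv_mem hu.1, by rw [cf_inv hu.1, hu.2]⟩

theorem z01 (s : ZMod 2) : s = 0 ∨ s = 1 := by revert s; decide

theorem step {u m : N2} (hu : u ∈ AE) (hm : m ∈ AE) {a : Fin 3} (h : cf a m = 1) :
    u ∈ KK a ∨ m⁻¹ * u ∈ KK a :=
  (z01 (cf a u)).imp (fun e => ⟨hu, e⟩) fun e => ⟨mul_mem (inv_mem hm) hu, by
    rw [cf_mul (inv_mem hm) hu, cf_inv hm, h, e]; rfl⟩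

variable (hB : Base.{u})
include hB

theorem QQ_iff {u : N2} : u ∈ QQ ↔ u ∈ AE ∧ ∀ a, cf a u = 0 :=
  ⟨fun h => ⟨hB.m2.le.2.2.1 h, ((cff_aff u.f).1 h.2.2).2⟩, fun h =>
    ⟨h.1.1, (hB.m2.le.2.2.2.2.2.2.1 h.1).1.1, (cff_aff u.f).2 ⟨h.1.2, h.2⟩⟩⟩

theorem EA : EE ≤ AE := hB.m2.le.2.2.2.2.2.1

theorem AP_of {u : N2} (hu : u ∈ EE) (h : ∀ a, cf a u = 0) : u ∈ AP :=
  ⟨((QQ_iff hB).2 ⟨EA hB hu, h⟩).2, hu.1⟩

theorem trans1 {e : N2} (he : e ∈ EE) : e ∈ AP ∨ ∃ k ∈ QK, (k * e * k⁻¹)⁻¹ * d1 ∈ AP := by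
  have e1 : e = ⟨1, e.f⟩ := N2.ext he.1 rfl
  refine (cff_tr e.f he.2).imp (AP_of hB he) fun ⟨k, hk, h⟩ => ⟨k, KL_mem k hk, ?_⟩
  rw [← e1] at h
  have m := (hB.m2.nrm k).2.1 e he
  refine AP_of hB (mul_mem (inv_mem m) d_facts.1) fun a => ?_
  rw [cf_mul (inv_mem (EA hB m)) (EA hB d_facts.1), cf_inv (EA hB m), h, z2add]

theorem qn {m u : N2} (hm : m ∈ QE) (hu : u ∈ QQ) : m * u * m⁻¹ ∈ QQ :=
  ((hB.m2.nrm m).2.2.2.2.1 hm).1 u hu

theorem EQ : EE ≤ QE := fun _ h => (hB.m2.le.2.2.2.2.2.2.1 (EA hB h)).1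

/-! ### The group -/

variable {G : Type u} [Group G] [Finite G] {J : N2 → G} {φ : G → Perm Ω} {E : Subgroup G}

omit hB [Finite G] in
/-- `g` is a lift of `e` -/
structure Lt (J : N2 → G) (E : Subgroup G) (g : G) (e : N2) : Prop where
  m : g ∈ E
  ee : e ∈ EE
  x : Ex J g e QQ

omit [Finite G] in
theorem Lt.mul {g g' : G} {e e' : N2} (h : Lt J E g e) (h' : Lt J E g' e') :
    Lt J E (g * g') (e * e') :=
  ⟨mul_mem h.m h'.m, mul_mem h.ee h'.ee, fun u hu => by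
    have := (h'.x u hu).trans (h.x _ (qn hB (EQ hB h'.ee) hu))
    rwa [show e * (e' * u * e'⁻¹) * e⁻¹ = e * e' * u * (e * e')⁻¹ by group] at this⟩

omit [Finite G] in
theorem Lt.inv {g : G} {e : N2} (h : Lt J E g e) : Lt J E g⁻¹ e⁻¹ :=
  ⟨inv_mem h.m, inv_mem h.ee, fun u hu => by
    have := (h.x _ (qn hB (EQ hB (inv_mem h.ee)) hu)).symm
    rwa [show e * (e⁻¹ * u * e⁻¹⁻¹) * e⁻¹ = u by group] at this⟩

variable (h : Eb J φ E)
include h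

omit [Finite G] in
theorem emQ : Em J QQ := h.em.mono hB.m2.le.2.1

omit [Finite G] in
theorem ltA {b : N2} (hb : b ∈ AP) : Lt J E (J b) b :=
  ⟨h.ap (mem_im hb), hB.m2.le.1 hb, fun _ hu => (emQ hB h).self (hB.m2.le.2.2.2.2.1 hb) hu⟩

theorem lt1 {g : G} (hg : Lt J E g 1) : g = 1 ∨ g = J z2 := by
  have kit := hB.kit J φ h.toKi
  have two : IsPGroup 2 (E ⊔ im J T0 : Subgroup G) := h.two.to_sup_of_normal_left'
    (h.em.two (hB.m1.two.to_le inf_le_right)) (im_le h.nT)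
  have c : ∀ u ∈ QQ, g * J u * g⁻¹ = J u := fun u hu => by simpa [R] using hg.x u hu
  have emA := h.em.mono AA_le_T0
  have gC : g ∈ C[im J AA] := mem_centralizer_iff.2 fun y hy => by
    obtain ⟨a, ha, rfl⟩ := emA.mem.1 hy
    exact (mul_inv_eq_iff_eq_mul.1 (c a (hB.m2.le.2.2.2.1 ha))).symm
  obtain ⟨a, ha, rfl⟩ := emA.mem.1
    (kit.cA2 _ two ((im_mono AA_le_T0).trans le_sup_right) g (mem_sup_left hg.m) gC)
  have aQ := hB.m2.le.2.2.2.1 ha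
  rcases hB.m3.cQQ a fun u hu => mul_inv_eq_iff_eq_mul.1 ((emQ hB h).inj _
    (mul_mem (mul_mem aQ hu) (inv_mem aQ)) _ hu (Eq.trans (Eq.symm ((emQ hB h).self aQ hu)) (c u hu)))
    with rfl | rfl
  exacts [Or.inl h.em.one, Or.inr rfl]

theorem ltAP {g : G} {b : N2} (hg : Lt J E g b) (hb : b ∈ AP) : ∃ b' ∈ AP, g = J b' := by
  have := lt1 hB h (g := (J b)⁻¹ * g) (by
    simpa using ((ltA hB h hb).inv hB).mul hB hg)
  have bQ := hB.m2.le.2.2.2.2.1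
  rcases this with e | e
  · exact ⟨b, hb, (inv_mul_eq_one.1 e).symm⟩
  · refine ⟨b * z2, mul_mem hb d_facts.2.2.2.2.2.2.2.2.2.2.2.2.2.1, ?_⟩
    rw [(emQ hB h).mul _ (bQ hb) _ (bQ d_facts.2.2.2.2.2.2.2.2.2.2.2.2.2.1), ← e,
      mul_inv_cancel_left]

omit [Finite G] in
theorem sqA {b : N2} (hb : b ∈ AP) : J b * J b = 1 := by
  have bQ := hB.m2.le.2.2.2.2.1 hb
  rw [← (emQ hB h).mul _ bQ _ bQ, hB.m2.ab.2.2.2.1 b hb.2, h.em.one]

theorem sq_eq {g g' : G} {e e' : N2} (hg : Lt J E g e) (hg' : Lt J E g' e') (hb : e⁻¹ * e' ∈ AP) :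
    g' * g' = g * g := by
  obtain ⟨b, m, eb⟩ := ltAP hB h ((hg.inv hB).mul hB hg') hb
  have c := hg.x b (hB.m2.le.2.2.2.2.1 m)
  rw [(hB.m2.ab.1 e hg.ee.1 b m.2).eq, mul_inv_cancel_right, R, mul_inv_eq_iff_eq_mul] at c
  rw [inv_mul_eq_iff_eq_mul.1 eb, mul_assoc, ← mul_assoc (J b), ← c, mul_assoc, sqA hB h m, mul_one]

theorem exK {k : N2} (hk : k ∈ QK) : ∃ y ∈ N[E], Ex J y k QQ := by
  have kit := hB.kit J φ h.toKi
  obtain ⟨y, yN, yφ, yE⟩ := h.rk k hk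
  refine ⟨y, yE, fun u hu => ?_⟩
  obtain ⟨a, ha, b, hb, rfl⟩ := hB.m2.pQQ u hu
  obtain ⟨nA, nP⟩ := (hB.m2.nrm k).2.2.2.1 hk
  have aQ := hB.m2.le.2.2.2.1
  have bQ := hB.m2.le.2.2.2.2.1
  have QT := hB.m2.le.2.1
  have r1 : R J y a (k * a * k⁻¹) := kit.onA y yN a ha _ (nA a ha) (by
    rw [yφ, map_mul, map_mul, map_inv])
  have bN := kit.le b (QT (bQ hb))
  have r2 : y * J b * y⁻¹ = J (k * b * k⁻¹) := kit.two E h.two _
    ((mem_normalizer_iff.1 yE _).1 (h.ap (mem_im hb))) (mul_mem (mul_mem yN bN) (inv_mem yN)) _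
    (QT (bQ (nP b hb))) (h.ap (mem_im (nP b hb))) (by
      rw [h.mul _ (mul_mem yN bN) _ (inv_mem yN), h.mul _ yN _ bN, kit.inv _ yN, yφ,
        h.res b (QT (bQ hb)), map_mul, map_mul, map_inv])
  rw [R, (emQ hB h).mul _ (aQ ha) _ (bQ hb), ← conj_mul, ← conj_mul,
    (emQ hB h).mul _ (aQ (nA a ha)) _ (bQ (nP b hb)), r1, r2]

theorem sq_d1 {g g1 : G} {e : N2} (hg : Lt J E g e) (h1 : Lt J E g1 d1) (he : e ∉ AP) :
    g * g = 1 ↔ g1 * g1 = 1 := by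
  obtain ⟨k, hk, m⟩ := (trans1 hB hg.ee).resolve_left he
  obtain ⟨y, yE, yx⟩ := exK hB h hk
  have kE := hB.m2.le.2.2.2.2.2.2.2.2.2.1 hk
  have l : Lt J E (y * g * y⁻¹) (k * e * k⁻¹) :=
    ⟨(mem_normalizer_iff.1 yE _).1 hg.m, (hB.m2.nrm k).2.1 e hg.ee, fun u hu => by
      have u1 := qn hB (inv_mem kE) hu
      have := (((yx _ u1).symm.trans (hg.x _ u1)).trans (yx _ (qn hB (EQ hB hg.ee) u1)))
      rwa [show k * (k⁻¹ * u * k⁻¹⁻¹) * k⁻¹ = u by group, ← mul_assoc,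
        show k * (e * (k⁻¹ * u * k⁻¹⁻¹) * e⁻¹) * k⁻¹ = k * e * k⁻¹ * u * (k * e * k⁻¹)⁻¹ by group]
        at this⟩
  rw [sq_eq hB h l h1 m, conj_mul, mul_inv_eq_one, mul_eq_left]

omit hB h [Finite G] in
theorem flip {a b z : G} (zz : z * z = 1) (ha : a * a = z) (hb : b * b = z)
    (hab : a * b * (a * b) = z) : b * a = a * b * z := by
  have : a * (b * a) * b = a * (a * b * z) * b := by
    calc a * (b * a) * b = z := by rw [← hab]; group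
      _ = z * (z * z) := by rw [zz, mul_one]
      _ = a * a * (b * b * (b * b)) := by rw [ha, hb]
      _ = a * (a * b * (b * b)) * b := by group
      _ = _ := by rw [hb]
  exact mul_left_cancel (mul_right_cancel this)

theorem exp2 {g : G} (hg : g ∈ E) : g * g = 1 := by
  obtain ⟨e, he, hx⟩ := h.act g hg
  have l : Lt J E g e := ⟨hg, he, hx⟩
  by_contra hc
  have ne : e ∉ AP := fun m => hc (by
    obtain ⟨b, hb, rfl⟩ := ltAP hB h l m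
    exact sqA hB h hb)
  obtain ⟨m1, m2, m3, -, -, c1, -, c2, c3, c12, c13, c23, c123, zA, zz⟩ := d_facts
  obtain ⟨a, ha, xa⟩ := h.onto _ m1
  obtain ⟨b, hb, xb⟩ := h.onto _ m2
  obtain ⟨c, hc', xc⟩ := h.onto _ m3
  have la : Lt J E a d1 := ⟨ha, m1, xa⟩
  have lb : Lt J E b d2 := ⟨hb, m2, xb⟩
  have lc : Lt J E c d3' := ⟨hc', m3, xc⟩
  have key : ∀ g' e', Lt J E g' e' → ∀ i, cf i e' = 1 → g' * g' = J z2 := fun g' e' l' i ci => by
    have n : e' ∉ AP := fun m => by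
      rw [((QQ_iff hB).1 (hB.m2.le.2.2.2.2.1 m)).2 i] at ci
      exact absurd ci (by decide)
    have := l'.mul hB l'
    rw [hB.m2.ab.2.2.2.1 e' l'.ee.1] at this
    exact (lt1 hB h this).resolve_left fun k =>
      hc ((sq_d1 hB h l la ne).2 ((sq_d1 hB h l' la n).1 k))
  have Z := sqA hB h zA
  have sa := key _ _ la 2 c1
  have sb := key _ _ lb 1 c2
  have sc := key _ _ lc 0 c3
  have sab := key _ _ (la.mul hB lb) 2 c12
  have f1 := flip Z sa sc (key _ _ (la.mul hB lc) 2 c13)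
  have f2 := flip Z sb sc (key _ _ (lb.mul hB lc) 1 c23)
  have s3 := key _ _ ((la.mul hB lb).mul hB lc) 2 c123
  generalize J z2 = z at Z sa sb sc sab f1 f2 s3
  have zb : z * b = b * z := by rw [← sb, mul_assoc]
  have zc : z * c = c * z := by rw [← sc, mul_assoc]
  have f3 : c * (a * b) = a * b * c := by
    rw [← mul_assoc, f1, mul_assoc, zb, ← mul_assoc, mul_assoc a, f2, ← mul_assoc, mul_assoc, Z,
      mul_one, mul_assoc]
  have : z = 1 := by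
    calc z = a * b * (c * (a * b)) * c := by rw [← s3]; group
      _ = a * b * (a * b) * (c * c) := by rw [f3]; group
      _ = 1 := by rw [sab, sc, Z]
  exact hc ((sq_d1 hB h l la ne).2 (sa.trans this))

omit hB h [Finite G] in
/-- coordinates on `X` -/
structure Iv (J : N2 → G) (E : Subgroup G) (J' : N2 → G) (X : Subgroup N2) : Prop where
  le : QQ ≤ X
  em : Em J' X
  eq : ∀ u ∈ QQ, J' u = J u
  lt : ∀ e ∈ X, e ∈ EE → Lt J E (J' e) e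

theorem ext1 {J' : N2 → G} {X Y : Subgroup N2} {m : N2} (i : Iv J E J' X) (XA : X ≤ AE)
    (XY : X ≤ Y) (mE : m ∈ EE) (mY : m ∈ Y) (mX : m ∉ X) (idx : ∀ u ∈ Y, u ∈ X ∨ m⁻¹ * u ∈ X) :
    ∃ J'', Iv J E J'' Y := by
  obtain ⟨g, hg, gx⟩ := h.onto m mE
  have aQ := hB.m2.le.2.2.2.1
  have ab : ∀ a ∈ E, ∀ b ∈ E, a * b = b * a := fun a ha b hb => by
    rw [← inv_eq_of_mul_eq_one_right (exp2 hB h (mul_mem ha hb)), mul_inv_rev,
      inv_eq_of_mul_eq_one_right (exp2 hB h ha), inv_eq_of_mul_eq_one_right (exp2 hB h hb)]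
  obtain ⟨J'', e1, e2, e3⟩ := hB.gen.ext J' X Y m g i.em XY mY mX idx (fun u hu => by
      obtain ⟨a, ha, e, he, rfl⟩ := hB.m2.pAE u (XA hu)
      have aX := i.le (aQ ha)
      have eX : e ∈ X := (mul_mem_cancel_left aX).1 hu
      have q := qn hB (EQ hB mE) (aQ ha)
      rw [R, ← conj_mul (b := m), (hB.m2.ab.1 m mE.1 e he.1).eq, mul_inv_cancel_right, i.em.mul _ aX _ eX,
        i.em.mul _ (i.le q) _ eX, ← conj_mul, ab g hg _ (i.lt e eX he).m, mul_inv_cancel_right,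
        i.eq _ (aQ ha), i.eq _ q, gx a (aQ ha)])
    (by rw [exp2 hB h hg, hB.m2.ab.2.2.2.1 m mE.1, i.em.one]) (fun k => by
      obtain ⟨u, hu, rfl⟩ := i.em.mem.1 k
      have : ∀ q ∈ QQ, Commute (m⁻¹ * u) q := fun q hq => by
        have q1 := qn hB (EQ hB mE) hq
        have := i.em.self hu (i.le hq)
        rw [R, i.eq q hq, gx q hq, ← i.eq _ q1] at this
        have := i.em.inj _ (i.le q1) _ (mul_mem (mul_mem hu (i.le hq)) (inv_mem hu)) this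
        calc m⁻¹ * u * q = m⁻¹ * (u * q * u⁻¹) * u := by group
          _ = _ := by rw [← this]; group
      rcases hB.m3.cQQ _ this with e | e
      · exact mX (inv_mul_eq_one.1 e ▸ hu)
      · have zX := i.le (hB.m2.le.2.2.2.2.1 d_facts.2.2.2.2.2.2.2.2.2.2.2.2.2.1)
        rw [← e] at zX
        exact mX (inv_mem_iff.1 ((mul_mem_cancel_right hu).1 zX)))
  refine ⟨J'', i.le.trans XY, e1, fun u hu => by rw [e2 u (i.le hu), i.eq u hu], fun e he eE => ?_⟩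
  rcases idx e he with k | k
  · rw [e2 e k]
    exact i.lt e k eE
  · have := Lt.mul hB ⟨hg, mE, gx⟩ (i.lt _ k (mul_mem (inv_mem mE) eE))
    rwa [← e2 _ k, ← e3, ← e1.mul _ mY _ (XY k), mul_inv_cancel_left] at this

omit h in
theorem eeb : EebStmt.{u} := by
  intro G _ _ J φ E h
  classical
  obtain ⟨m1, m2, m3, c01, c11, c21, c02, c12, c03, -, -, -, -, zA, -⟩ := d_facts
  have n01 : (1 : ZMod 2) ≠ 0 := by decide
  have i0 : Iv J E J QQ := ⟨le_rfl, emQ hB h, fun _ _ => rfl, fun e he eE => ltA hB h ⟨he.2, eE.1⟩⟩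
  obtain ⟨J1, i1⟩ := ext1 hB h i0 (Y := KK 0 ⊓ KK 1) hB.m2.le.2.2.1
    (fun u hu => ⟨⟨((QQ_iff hB).1 hu).1, ((QQ_iff hB).1 hu).2 0⟩,
      ((QQ_iff hB).1 hu).1, ((QQ_iff hB).1 hu).2 1⟩) m1 ⟨⟨EA hB m1, c01⟩, EA hB m1, c11⟩
    (fun k => n01 (c21.symm.trans (((QQ_iff hB).1 k).2 2))) fun u hu => by
      have q : ∀ v ∈ KK 0 ⊓ KK 1, v ∈ KK 2 → v ∈ QQ := fun v a b => (QQ_iff hB).2 ⟨b.1, fun i => by
        fin_cases i
        exacts [a.1.2, a.2.2, b.2]⟩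
      have dm : d1 ∈ KK 0 ⊓ KK 1 := ⟨⟨EA hB m1, c01⟩, EA hB m1, c11⟩
      exact (step hu.1.1 (EA hB m1) c21).imp (q _ hu) (q _ (mul_mem (inv_mem dm) hu))
  obtain ⟨J2, i2⟩ := ext1 hB h i1 (Y := KK 0) (fun _ k => k.1.1) inf_le_left m2 ⟨EA hB m2, c02⟩
    (fun k => n01 (c12.symm.trans k.2.2)) fun u hu => (step hu.1 (EA hB m2) c12).imp
      (fun k => ⟨hu, k⟩) fun k => ⟨(KK 0).mul_mem ((KK 0).inv_mem ⟨EA hB m2, c02⟩) hu, k⟩
  obtain ⟨J3, i3⟩ := ext1 hB h i2 (Y := AE) (fun _ k => k.1) (fun _ k => k.1) m3 (EA hB m3)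
    (fun k => n01 (c03.symm.trans k.2)) fun u hu => step hu (EA hB m3) c03
  let J' : N2 → G := fun u => if u ∈ T0 then J u else J3 u
  have eT : ∀ u ∈ T0, J' u = J u := fun u hu => if_pos hu
  have eA : ∀ u ∈ AE, J' u = J3 u := fun u hu => by
    by_cases k : u ∈ T0
    · rw [eT u k, i3.eq u ⟨hu.1, k.1⟩]
    · exact if_neg k
  have QT := hB.m2.le.2.1
  have eE : im J' EE = E := by
    refine le_antisymm (im_le fun e he => ?_) fun g hg => ?_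
    · rw [eA e (EA hB he)]
      exact (i3.lt e (EA hB he) he).m
    · obtain ⟨e, he, x⟩ := h.act g hg
      obtain ⟨b, hb, k⟩ := ltAP hB h (((i3.lt e (EA hB he) he).inv hB).mul hB ⟨hg, he, x⟩)
        (by rw [inv_mul_cancel]; exact one_mem _)
      rw [inv_mul_eq_iff_eq_mul.1 k, ← eA e (EA hB he), ← eT b (QT (hB.m2.le.2.2.2.2.1 hb))]
      exact mul_mem (mem_im he) (mem_im (hB.m2.le.1 hb))
  have eN : NA J' = NA J := by rw [NA, im_congr fun u hu => eT u (AA_le_T0 hu)]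
  have ex : ∀ g, ∀ m ∈ QE, Ex J g m QQ → Ex J' g m QQ := fun g m hm x u hu => by
    rw [R, eT u (QT hu), eT _ (QT (qn hB hm hu))]
    exact x u hu
  refine ⟨J', ⟨h.toKi.congr eT, fun g hg => ?_, fun e he => ?_⟩, i3.em.congr eA, fun t ht => ?_, ?_⟩
  · rw [im_congr fun u hu => eT u (QT hu)] at hg
    obtain ⟨m, hm, x⟩ := h.nq g hg
    exact ⟨m, hm, ex g m hm x⟩
  · obtain ⟨g, x⟩ := h.ee e he
    exact ⟨g, ex g e (EQ hB he) x⟩
  · rw [eE, eT t ht]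
    exact h.nT t ht
  · rw [eE, eN]
    exact h.rk

end Cfsg.Agent.H5.KnEeb
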