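import Cfsg.Agent.H19.S93Kit
import Cfsg.Agent.H28.S95A
import Cfsg.Agent.H67.S95Red1
import Cfsg.Agent.H24.S95Rs

/-! Project S93Q: the reduction `RedA` for odd central covers. -/

set_option autoImplicit false
open scoped Pointwise commutatorElement
open Subgroup

namespace Cfsg.Agent.H5.S93QRedA
open Cfsg.Agent.H8 Cfsg.Agent.H23.D2 Cfsg.Agent.H46.S95 Cfsg.Agent.H19.S93Q

universe u

local notation "C[" A "]" => Subgroup.centralizer (SetLike.coe A)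
local notation "N[" A "]" => Subgroup.normalizer (SetLike.coe A)

variable {Γ Δ : Type} [Group Γ] [Group Δ] {G : Type u} [Group G] {p : Δ →* Γ} {φ : Δ →* G}

theorem cj_ne (hi : Function.Injective φ) {a : Δ} (a1 : a ≠ 1) (g : G) :
    g * φ a * g⁻¹ ≠ 1 := fun e => a1 (hi (by
  rw [map_one]
  calc φ a = g⁻¹ * (g * φ a * g⁻¹) * g := by group
    _ = 1 := by rw [e]; group))

theorem cj_sq {a : Δ} (aa : a * a = 1) (g : G) : g * φ a * g⁻¹ * (g * φ a * g⁻¹) = 1 := by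
  rw [conj_mul, ← map_mul, aa, map_one, mul_one, mul_inv_cancel]

theorem halfQ [Finite G] (hi : Function.Injective φ) (hs : IsStandardSubgroup φ.range) {g : G}
    {a : Δ} (aa : a * a = 1) (a1 : a ≠ 1) (ha : g * φ a * g⁻¹ ∈ C[φ.range]) {k : G}
    (hk : k ∈ C[φ.range]) : g * k * g⁻¹ ∈ N[φ.range] :=
  H28.S95A.tight hs ha (cj_ne hi a1 g) (cj_sq aa g) (by
    rw [conj_mul, conj_mul, mem_C_range.1 hk a])

/-- the centre of `A` centralises the conjugate -/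
theorem cenQ (odd : H19.S93Q.OddStmt.{u}) [Finite G] (hv : Cv p) (hi : Function.Injective φ)
    (hs : IsStandardSubgroup φ.range) {z b : Γ} {Λ Z : Subgroup Γ} (rd : RD z b Λ Z) {g : G}
    {a : Δ} (aa : a * a = 1) (a1 : a ≠ 1) (ba : IsConj b (p a))
    (ha : g * φ a * g⁻¹ ∈ C[φ.range]) (hK : ∀ k ∈ C[φ.range], g⁻¹ * k * g ∈ N[φ.range])
    {c : Δ} (hc : p c = 1) : g⁻¹ * φ c * g ∈ C[φ.range] := by
  have := hv.base.fin
  let ψ : Δ →* G := (MulAut.conj g⁻¹).toMonoidHom.comp φ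
  have e : ∀ l, ψ l = g⁻¹ * φ l * g := fun l => by simp [ψ]
  refine odd Γ Δ G p φ hv hi z b Λ Z rd.rc (IsPGroup.of_card (n := 2) rd.card) a aa ba
    (p.ker.map ψ) (hv.odd.of_dvd_nat (card_map_dvd _ _)) ?_ ?_ (fun l hl => mem_N_of ?_)
    ⟨c, hc, e c⟩
  · rintro _ ⟨x, hx, rfl⟩
    rw [e]
    exact hK _ (hv.to_C hx)
  · rintro _ ⟨x, -, rfl⟩
    rw [e]
    calc g⁻¹ * φ x * g * φ a = g⁻¹ * (φ x * (g * φ a * g⁻¹)) * g := by group
      _ = _ := by rw [mem_C_range.1 ha x]; group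
  · rintro _ ⟨x, hx, rfl⟩
    have hl' : l ∈ Cz a := commutator_le.2 (fun u hu v hv =>
      mul_mem (mul_mem (mul_mem hu hv) (inv_mem hu)) (inv_mem hv)) hl
    obtain ⟨α, hα⟩ := exists_aut hi (h := g * φ l * g⁻¹)
      (H28.S95A.tight hs ha (cj_ne hi a1 g) (cj_sq aa g) (by
        rw [conj_mul, conj_mul, ← map_mul, mem_Cz.1 hl', map_mul]))
    refine ⟨α x, hv.ker_aut α hx, ?_⟩
    rw [e, e, hα]
    group

theorem finQ (quo : H19.S93Q.QuoStmt.{u}) (std : H19.S93Q.StdStmt.{u}) [Finite G] (hv : Cv p)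
    (rf : RF Γ) (hi : Function.Injective φ) (hs : IsStandardSubgroup φ.range) {g : G}
    (hg : g ∉ N[φ.range]) (gg : g * g ∈ N[φ.range])
    (hK : ∀ k ∈ C[φ.range], g⁻¹ * k * g ∈ N[φ.range])
    (hZ : ∀ c, p c = 1 → g⁻¹ * φ c * g ∈ C[φ.range]) : ¬ 4 ∣ Nat.card (JJ φ g) := fun h4 => by
  let W : Subgroup G := MulAut.conj g • C[φ.range] ⊓ C[φ.range]
  have oW : Odd (Nat.card W) := (red_data hs hg).1
  have gW : g ∈ N[W] := mem_N_of fun x hx => ⟨conj_mem_conj.2 hx.2, by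
    have := C_conj gg (mem_conj.1 hx.1)
    simpa [mul_assoc] using this⟩
  have KW : C[φ.range] ≤ N[W] := fun k hk => mem_N_of fun x hx =>
    ⟨mem_conj.2 (by
      have := C_conj (hK k hk) (mem_conj.1 hx.1)
      simpa [mul_assoc] using this), norm_conj (le_normalizer hk) hx.2⟩
  have JW : JJ φ g ≤ N[W] := fun y hy => by
    have := mul_mem (mul_mem gW (KW (mem_conj.1 hy.1))) (inv_mem gW)
    simpa [mul_assoc] using this
  obtain ⟨H, _, _, π, ψ, q⟩ := quo Γ Δ G p φ hv hi W inf_le_right oW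
    fun c hc => ⟨mem_conj.2 (hZ c hc), hv.to_C hc⟩
  refine H28.S95A.redA H67.S95Red1.red1 (H24.S95.redS H28.S95A.redL) Γ H ψ hv.base rf q.inj
    (std Γ Δ G p φ hv W H π ψ q hs KW) (π ⟨g, gW⟩) (fun k => hg ((q.norm _).1 k)) ?_
  let f : JJ φ g →* H := π.comp (inclusion JW)
  have ok : Odd (Nat.card f.ker) := by
    rw [← card_map_of_injective (JJ φ g).subtype_injective]
    refine oW.of_dvd_nat (card_dvd_of_le ?_)
    rintro _ ⟨x, hx, rfl⟩
    exact (q.ker _).1 hx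
  rw [← f.ker.card_mul_index, index_ker] at h4
  refine ((Nat.Coprime.pow_left 2 (Nat.coprime_two_left.2 ok)).dvd_of_dvd_mul_left
    h4).trans (card_dvd_of_le ?_)
  rintro _ ⟨y, rfl⟩
  refine ⟨mem_conj.2 ?_, (q.norm _).2 y.2.2⟩
  change (π _)⁻¹ * π _ * π _ ∈ _
  rw [← map_inv, ← map_mul, ← map_mul]
  exact (q.cent _).2 (mem_conj.1 y.2.1)

theorem redA (quo : H19.S93Q.QuoStmt.{u}) (std : H19.S93Q.StdStmt.{u})
    (red1 : H19.S93Q.Red1Stmt.{u}) (odd : H19.S93Q.OddStmt.{u}) : H19.S93Q.RedAStmt.{u} := by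
  intro Γ Δ _ _ G _ _ p φ hv rf hi hs g hg h4
  obtain ⟨z, b, Λ, Z, rd, -⟩ := id rf
  obtain ⟨a, aa, a1, ba, ha⟩ := red1 Γ Δ G p φ hv hi hs z b Λ Z rd g hg h4
  have ha' : g⁻¹ * φ a * g⁻¹⁻¹ ∈ C[φ.range] := by rw [inv_inv]; exact mem_conj.1 ha
  have hK : ∀ k ∈ C[φ.range], g⁻¹ * k * g ∈ N[φ.range] := fun k hk => by
    have := halfQ hi hs aa a1 ha' hk
    rwa [inv_inv] at this
  obtain ⟨a', aa', a1', ba', hb⟩ := red1 Γ Δ G p φ hv hi hs z b Λ Z rd g⁻¹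
    (fun k => hg (inv_mem_iff.1 k)) (by
      have : MulAut.conj g⁻¹ • C[φ.range] ≤ N[φ.range] := fun x hx => by
        have := hK _ (mem_conj.1 hx)
        simpa [mul_assoc] using this
      rw [JJ, inf_eq_left.2 this, card_conj, ← card_conj _ g]
      exact h4.trans (card_dvd_of_le inf_le_left))
  rw [mem_conj, inv_inv] at hb
  obtain ⟨c, hc⟩ := isConj_iff.1 (ba.symm.trans ba')
  obtain ⟨x, rfl⟩ := hv.surj c
  have ex : x * a * x⁻¹ = a' := hv.inv_eq (by rw [conj_mul, aa]; simp) aa' (by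
    rw [map_mul, map_mul, map_inv, hc])
  have xN : φ x ∈ N[φ.range] := le_normalizer ⟨x, rfl⟩
  have e1 : g * φ x * g ∈ N[φ.range] :=
    H10.Std.norm_of_conj_mem hs (ord_of_sq (cj_sq aa g⁻¹) (cj_ne hi a1 g⁻¹)) ha' (by
      rw [← ex, map_mul, map_mul, map_inv] at hb
      convert hb using 1
      group)
  have e2 : JJ φ (g * φ x) = JJ φ g := by
    have : φ x ∈ N[C[φ.range]] := hs.2.2.2.le xN
    rw [JJ, JJ, ← conj_smul_conj_smul, mem_N_iff.1 this]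
  have hK' : ∀ k ∈ C[φ.range], (g * φ x)⁻¹ * k * (g * φ x) ∈ N[φ.range] := fun k hk => by
    have := mul_mem (mul_mem (inv_mem xN) (hK k hk)) xN
    simpa [mul_assoc] using this
  refine finQ quo std hv rf hi hs (g := g * φ x) (fun k => hg ?_) ?_ hK'
    (fun c hc => cenQ odd hv hi hs rd aa a1 ba ?_ hK' hc) (e2 ▸ h4)
  · simpa using mul_mem k (inv_mem xN)
  · rw [← mul_assoc]
    exact mul_mem e1 xN
  · rw [← ex, map_mul, map_mul, map_inv] at hb
    convert hb using 1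
    group

end Cfsg.Agent.H5.S93QRedA
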