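import Cfsg.Agent.H96.D4Defs

/-! Automizers of the subgroup `E` of the Sylow subgroup of `³D₄(q)`. -/

set_option autoImplicit false
set_option linter.unusedSectionVars false

namespace Cfsg.Agent.H5.D4E

open Cfsg.Agent.H97 Cfsg.Agent.H96.VB Cfsg.Agent.H96.CP Cfsg.Agent.H96.DF Subgroup
open scoped commutatorElement

universe u

theorem ext_pow_of {G : Type u} [Group G] {P : Subgroup G} {γ : MulAut P} {g : G} (hg : g ∈ P)
    (h : ext γ (g⁻¹ * ext γ g) = g⁻¹ * ext γ g) (n : ℕ) :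
    ext (γ ^ n) g = g * (g⁻¹ * ext γ g) ^ n := by
  have hc : g⁻¹ * ext γ g ∈ P := mul_mem (inv_mem hg) (ext_mem γ hg)
  generalize e : g⁻¹ * ext γ g = c at h hc
  have h1 : ext γ g = g * c := by rw [← e, mul_inv_cancel_left]
  have h2 : ∀ k : ℕ, ext γ (c ^ k) = c ^ k := fun k => by
    induction k with
    | zero => simpa using ext_map_one γ
    | succ k ih => rw [pow_succ, ext_map_mul γ (pow_mem hc k) hc, ih, h]
  induction n with
  | zero => simp
  | succ n ih => rw [pow_succ', ext_mul, ih, ext_map_mul γ hg (pow_mem hc n), h1, h2, pow_succ', mul_assoc]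

theorem ext_pow_card {G : Type u} [Group G] {P X Y : Subgroup G} {γ : MulAut P} (hY : Y ≤ P)
    (h1 : ∀ y ∈ Y, y⁻¹ * ext γ y ∈ X) (h2 : ∀ x ∈ X, ext γ x = x) :
    ∀ y ∈ Y, ext (γ ^ Nat.card G) y = y := fun y hy => by
  rw [ext_pow_of (hY hy) (h2 _ (h1 y hy)), pow_card_eq_one', mul_one]

variable {F K : Type u} [Field F] [Field K] [Algebra F K] {C : Tri F K} [Finite K] {p : ℕ}
  [Fact p.Prime] [CharP F p]

variable (C) in
/-- coordinates on `W` -/
def w (q : F × F) : H96.DF.U C := xw C q.2 q.1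

theorem w_W (q : F × F) : w C q ∈ H96.DF.W C := ⟨rfl, rfl, rfl, rfl⟩

theorem W_Y : H96.DF.W C ≤ H96.DF.Y C := fun _ h => ⟨h.1, h.2.1, h.2.2.1⟩

theorem Y_E : H96.DF.Y C ≤ H96.DF.E C := fun _ h => h.2.1

theorem W_E : H96.DF.W C ≤ H96.DF.E C := W_Y.trans Y_E

theorem w_E (q : F × F) : w C q ∈ H96.DF.E C := W_E (w_W q)

theorem exists_w {g : H96.DF.U C} (h : g ∈ H96.DF.W C) : ∃ q, g = w C q :=
  ⟨(g.z, g.a), H96.DF.U.ext h.1 h.2.1 h.2.2.1 h.2.2.2 rfl rfl⟩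

theorem w_inj {q r : F × F} (h : w C q = w C r) : q = r :=
  Prod.ext (congrArg H96.DF.U.z h) (congrArg H96.DF.U.a h)

theorem conj_w (s : H96.DF.U C) (q : F × F) : s * w C q * s⁻¹ = w C (q.1 + -s.u * q.2, q.2) := by
  rw [mul_inv_eq_iff_eq_mul]
  simp only [w, xw]
  d4e

theorem cen_W {g v : H96.DF.U C} (hg : g ∈ H96.DF.E C) (hv : v ∈ H96.DF.W C) : g * v * g⁻¹ = v := by
  obtain ⟨q, rfl⟩ := exists_w hv
  rw [conj_w, mem_E.1 hg]
  simp

/-- conjugation -/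
def cA (s : H96.DF.U C) : MulAut (H96.DF.E C) := MulAut.conjNormal s

theorem ext_cA (s : H96.DF.U C) {x : H96.DF.U C} (hx : x ∈ H96.DF.E C) : ext (cA s) x = s * x * s⁻¹ := by
  rw [ext_apply _ hx]; rfl

/-- the action on `W` -/
def Act (α : MulAut (H96.DF.E C)) (f : F × F → F × F) : Prop := ∀ q, ext α (w C q) = w C (f q)

variable {α β : MulAut (H96.DF.E C)} {f g k : F × F → F × F} {A : Subgroup (MulAut (H96.DF.E C))}

theorem Act.mul (h : Act α f) (h' : Act β g) (e : ∀ q, f (g q) = k q) : Act (α * β) k :=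
  fun q => by rw [ext_mul, h', h, e]

theorem act_cj {s : H96.DF.U C} (h : Cj α s) : Act α fun q => (q.1 + -s.u * q.2, q.2) := fun q => by
  rw [h _ (w_E q), conj_w]

theorem cj_cA (s : H96.DF.U C) : Cj (cA s) s := fun _ hx => ext_cA s hx

theorem act_xu (t : F) : Act (cA (xu C (-t))) fun q => (q.1 + t * q.2, q.2) := by
  simpa [xu] using act_cj (cj_cA (xu C (-t)))

theorem Act.conj (H : ChS C) (h : Act α f) (h' : Act β g) (e : ∀ q, f (g q) = k (f q)) :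
    Act (α * β * α⁻¹) k := fun q => by
  obtain ⟨r, hr⟩ := exists_w (H.ew.2 α⁻¹ _ (w_E q) (w_W q))
  have h1 : f r = q := w_inj (C := C) (by rw [← h, ← hr, ext_ext_inv])
  rw [ext_mul, ext_mul, hr, h', h, e, h1]

theorem act_id : Act α id ↔ ∀ v ∈ H96.DF.W C, ext α v = v :=
  ⟨fun h v hv => by obtain ⟨q, rfl⟩ := exists_w hv; exact h q, fun h q => h _ (w_W q)⟩

theorem tr_cj {s : H96.DF.U C} (h : Cj α s) : TrY α := fun y hy => by
  have : y⁻¹ * ext α y = ⁅y⁻¹, s⁆ := by rw [h _ (Y_E hy), commutatorElement_def]; group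
  obtain ⟨h1, h2, h3⟩ := mem_Y.1 (inv_mem hy)
  rw [this]
  exact ⟨comm_t _ _, comm_u _ _, by simp only [comm_y, h1, h2]; simp,
    by simp only [comm_x, h1, h2, h3]; simp⟩

theorem tr_mul (H : ChS C) (h : TrY α) (h' : TrY β) : TrY (α * β) := fun y hy => by
  have h1 := H.ey.2 β y (Y_E hy) hy
  have : y⁻¹ * ext (α * β) y = y⁻¹ * ext β y * ((ext β y)⁻¹ * ext α (ext β y)) := by
    rw [ext_mul]; group
  rw [this]
  exact mul_mem (h' y hy) (h _ h1)

theorem tr_inv (H : ChS C) (h : TrY α) : TrY α⁻¹ := fun y hy => by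
  have := inv_mem (h _ (H.ey.2 α⁻¹ y (Y_E hy) hy))
  rwa [ext_ext_inv, mul_inv_rev, inv_inv] at this

theorem tr_conj (H : ChS C) (α : MulAut (H96.DF.E C)) (h : TrY β) : TrY (α * β * α⁻¹) := fun y hy => by
  have h1 := H.ey.2 α⁻¹ y (Y_E hy) hy
  have h2 := h _ h1
  have h3 := H.ew.2 α _ (W_E h2) h2
  rwa [ext_map_mul α (inv_mem (Y_E h1)) (ext_mem β (Y_E h1)), ext_map_inv α (Y_E h1), ext_ext_inv,
    ← ext_mul, ← ext_mul] at h3

theorem cen_Y {g : H96.DF.U C} (hg : g ∈ H96.DF.E C) (h : ∀ y ∈ H96.DF.Y C, g * y = y * g) : g ∈ H96.DF.Y C := by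
  have h1 : ∀ x, ⁅g, xx C x⁆ = 1 := fun x =>
    commutatorElement_eq_one_iff_mul_comm.2 (h _ ⟨rfl, rfl, rfl⟩)
  have hu : g.u = 0 := hg
  refine ⟨C.T_nd fun x => ?_, hu, C.T_nd fun x => ?_⟩
  · have := comm_a g (xx C x)
    rw [h1] at this
    simpa [xx] using this.symm
  · have := comm_z_E (g := g) (h := xx C x) hu rfl
    rw [h1] at this
    simpa [xx] using this.symm

theorem cA_mem (hA : H96.CP.LA p (H96.DF.E C) A) (s : H96.DF.U C) : cA s ∈ A := hA.cj _ s (cj_cA s)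

theorem kerE (H : ChS C) (hA : H96.CP.LA p (H96.DF.E C) A) : KerE A := fun α hα ht h => by
  let M : Subgroup (MulAut (H96.DF.E C)) :=
    { carrier := {β | β ∈ A ∧ TrY β ∧ ∃ t : F, Act β fun q => (q.1 + t * q.2, q.2)}
      one_mem' := ⟨one_mem _, fun y _ => by simp, 0, fun q => by simp⟩
      mul_mem' := by
        rintro a b ⟨h1, h2, t, h3⟩ ⟨h4, h5, s, h6⟩
        exact ⟨mul_mem h1 h4, tr_mul H h2 h5, t + s,
          h3.mul h6 fun q => Prod.ext (by simp only; ring) rfl⟩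
      inv_mem' := by
        rintro a ⟨h1, h2, t, h3⟩
        refine ⟨inv_mem h1, tr_inv H h2, -t, fun q => ?_⟩
        have := congrArg (ext a⁻¹) (h3 (q.1 + -t * q.2, q.2))
        rw [ext_inv_ext] at this
        simpa using this.symm }
  have hM : IsPGroup p M := by
    rintro ⟨β, hβ⟩
    obtain ⟨n, hn⟩ := IsPGroup.iff_card.1 (H96.DF.U.isPGroup (C := C) p)
    have h1 : ∀ v ∈ H96.DF.W C, ext (β ^ Nat.card (H96.DF.U C)) v = v := by
      obtain ⟨-, -, t, h3⟩ := hβ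
      refine ext_pow_card (X := H96.DF.Z C) W_E (fun v hv => ?_) fun v hv => ?_
      · obtain ⟨q, rfl⟩ := exists_w hv
        rw [h3]
        simp [mem_Z, w, xw]
      · obtain ⟨q, rfl⟩ := exists_w (show v ∈ H96.DF.W C from ⟨hv.1, hv.2.1, hv.2.2.1, hv.2.2.2.1⟩)
        have : q.2 = 0 := hv.2.2.2.2
        rw [h3]
        simp [this, w]
    have h2 := ext_pow_card Y_E (pow_mem hβ (Nat.card (H96.DF.U C))).2.1 h1
    generalize hγ : (β ^ Nat.card (H96.DF.U C)) ^ Nat.card (H96.DF.U C) = γ at h2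
    have h3 := ext_pow_card (X := H96.DF.Y C) (γ := γ) le_rfl (fun g hg => by
      refine cen_Y (mul_mem (inv_mem hg) (ext_mem γ hg)) fun y hy => ?_
      have h4 := h2 _ (nY.conj_mem y hy g)
      rw [ext_map_mul γ (mul_mem hg (Y_E hy)) (inv_mem hg), ext_map_mul γ hg (Y_E hy),
        ext_map_inv γ hg, h2 y hy] at h4
      calc g⁻¹ * ext γ g * y = g⁻¹ * (ext γ g * y * (ext γ g)⁻¹) * ext γ g := by group
        _ = y * (g⁻¹ * ext γ g) := by rw [h4]; group) h2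
    refine ⟨n + n + n, Subtype.ext (MulEquiv.ext fun x => Subtype.ext ?_)⟩
    have h5 := h3 x x.2
    rw [← hγ, hn, ← pow_mul, ← pow_mul, ← pow_add, ← pow_add, ext_apply _ x.2, ← add_assoc] at h5
    exact h5
  obtain ⟨s, hs⟩ := hA.syl M (fun _ h => h.1) hM
    (fun β s hβ => ⟨hA.cj β s hβ, tr_cj hβ, _, act_cj hβ⟩) α
    ⟨hα, ht, 0, fun q => by simpa using h _ (w_W q)⟩
  refine ⟨s, ?_, hs⟩
  have h2 := act_cj hs (0, 1)
  rw [h _ (w_W _)] at h2
  simpa [mem_E] using congrArg Prod.fst (w_inj h2)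

theorem nm_of (H : ChS C) (hA : H96.CP.LA p (H96.DF.E C) A) (hα : α ∈ A) {φ : RingAut F} {a b d : F}
    (hd : d ≠ 0) (h : Act α fun q => (a * φ q.1 + b * φ q.2, d * φ q.2)) : Nm α := fun s => by
  have h1 : Act (α * cA s * α⁻¹) fun q => (q.1 + a * φ (-s.u) / d * q.2, q.2) :=
    h.conj H (act_cj (cj_cA s)) fun q => by
      simp only [map_add, map_mul, Prod.mk.injEq, and_true]
      field_simp
      ring
  generalize a * φ (-s.u) / d = t at h1
  have h2 : Act (cA (xu C (- -t)) * (α * cA s * α⁻¹)) id :=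
    (act_xu _).mul h1 fun q => Prod.ext (by simp only [id]; ring) rfl
  obtain ⟨e, -, he⟩ := kerE H hA _ (mul_mem (cA_mem hA _)
    (mul_mem (mul_mem hα (cA_mem hA s)) (inv_mem hα)))
    (tr_mul H (tr_cj (cj_cA _)) (tr_conj H α (tr_cj (cj_cA s)))) (act_id.1 h2)
  refine ⟨(xu C (- -t))⁻¹ * e, fun x hx => ?_⟩
  have h3 := he _ (ext_mem α hx)
  have h4 : s * x * s⁻¹ ∈ H96.DF.E C := nE.conj_mem x hx s
  rw [ext_mul, ext_mul, ext_mul, ext_inv_ext, ext_cA _ hx, ext_cA _ (ext_mem α h4)] at h3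
  calc _ = (xu C (- -t))⁻¹ * (e * ext α x * e⁻¹) * xu C (- -t) := by
        rw [← h3]; group
    _ = _ := by group

theorem cases (H : ChS C) (H1 : AE1Stmt C) (hA : H96.CP.LA p (H96.DF.E C) A) (hα : α ∈ A) :
    Nm α ∨ ∃ (t : F) (φ : RingAut F) (b c d : F), b ≠ 0 ∧ c ≠ 0 ∧
      Act (cA (xu C (-t)) * α) fun q => (b * φ q.2, c * φ q.1 + d * φ q.2) := by
  obtain ⟨φ, d, c, b, a, h1, h2⟩ := H1 α
  have h3 : Act α fun q => (a * φ q.1 + b * φ q.2, c * φ q.1 + d * φ q.2) := fun q => by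
    rw [w, h2, w, add_comm, add_comm (b * _)]
  by_cases hc : c = 0
  · subst hc
    exact .inl (nm_of H hA hα (d := d) (fun e => h1 (by simp [e])) (by simpa using h3))
  refine .inr ⟨-(a / c), φ, b - a / c * d, c, d, fun e => h1 ?_, hc, (act_xu _).mul h3 fun q =>
    Prod.ext ?_ rfl⟩
  · field_simp at e
    linear_combination -e
  · simp only
    field_simp
    ring

theorem wb_w (q : F × F) : wb (w C q) = w C (q.2, -q.1) := by simp [wb, w, xw]

theorem tor_w (c : Fˣ) (q : F × F) : tor C (hb c) (w C q) = w C (c * q.1, (c : F)⁻¹ * q.2) := by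
  have c0 := c.ne_zero
  have h : C.N (((hb c : Kˣ × Fˣ).1 : Kˣ) : K) = (c : F)⁻¹ ^ 3 := by
    rw [← C.N_alg]; simp [hb]
  have h2 : (((hb c : Kˣ × Fˣ).2 : Fˣ) : F) = (c : F) ^ 2 := by simp [hb]
  simp only [tor_apply, tmap, w, xw, h, h2, mul_zero, smul_zero]
  congr 1 <;> field_simp

/-- **AE2** -/
theorem ae2 (H : ChS C) (H1 : AE1Stmt C) : AEStmt C p := fun A hA => by
  refine ⟨kerE H hA, fun n hn sw α hα => (cases H H1 hA hα).imp_right ?_, ?_⟩
  · rintro ⟨t, φ, b, c, d, hb, -, h⟩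
    refine ⟨cA (xu C (-t)), xu C (-t), cj_cA _, ?_⟩
    have h1 : Act n fun q => (q.2, -q.1) := fun q => by rw [sw.2 _ (w_W q), wb_w]
    rw [mul_assoc]
    exact nm_of H hA (mul_mem hn (mul_mem (cA_mem hA _) hα)) (neg_ne_zero.2 hb)
      (h1.mul h fun _ => Prod.ext rfl (neg_mul _ _).symm)
  rintro ⟨α, hα, hN⟩
  obtain ⟨t, φ, b, c, d, hb, hc, h⟩ := (cases H H1 hA hα).resolve_left hN
  have hm := mul_mem (cA_mem hA (xu C (-t))) hα
  have tc : ∀ s : H96.DF.U C, TrY (cA s) := fun s => tr_cj (cj_cA s)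
  have key : ∀ s : F, ∃ γ ∈ A, TrY γ ∧ Act γ fun q => (q.1, q.2 + s * q.1) := fun s =>
    ⟨_, mul_mem (mul_mem hm (cA_mem hA _)) (inv_mem hm), tr_conj H _ (tc _),
      h.conj H (act_xu (φ.symm (s * b / c))) fun q => by
        simp only [map_add, map_mul, RingEquiv.apply_symm_apply, Prod.mk.injEq, true_and]
        field_simp
        ring⟩
  obtain ⟨n, hn, tn, an⟩ : ∃ n ∈ A, TrY n ∧ Act n fun q => (q.2, -q.1) := by
    obtain ⟨γ, h1, h0, h2⟩ := key (-1)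
    refine ⟨_, mul_mem (cA_mem hA _) (mul_mem h1 (cA_mem hA _)),
      tr_mul H (tc _) (tr_mul H h0 (tc _)),
      (act_xu 1).mul (h2.mul (act_xu 1) fun _ => rfl) fun q => Prod.ext ?_ ?_⟩ <;>
      (simp only; ring)
  refine ⟨⟨n, hn, tn, fun v hv => by obtain ⟨q, rfl⟩ := exists_w hv; rw [an, wb_w]⟩, fun c => ?_⟩
  obtain ⟨γ, h1, h0, h2⟩ := key (-(c : F)⁻¹)
  have h3 := mul_mem (cA_mem hA (xu C (-c))) (mul_mem h1 (mul_mem (cA_mem hA (xu C (-c)))
    (mul_mem hn (mul_mem hn hn))))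
  have c0 := c.ne_zero
  have h4 : Act (cA (xu C (-c)) * (γ * (cA (xu C (-c)) * (n * (n * n)))))
      fun q => (c * q.1, (c : F)⁻¹ * q.2) :=
    (act_xu _).mul (h2.mul ((act_xu _).mul (an.mul (an.mul an fun _ => rfl) fun _ => rfl)
      fun _ => rfl) fun _ => rfl) fun q => Prod.ext
      (by simp only; field_simp; ring) (by simp only; field_simp; ring)
  exact ⟨_, h3, nm_of H hA h3 (φ := 1) (a := c) (b := 0) (inv_ne_zero c0) (by simpa using h4),
    tr_mul H (tc _) (tr_mul H h0 (tr_mul H (tc _) (tr_mul H tn (tr_mul H tn tn)))),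
    fun v hv => by obtain ⟨q, rfl⟩ := exists_w hv; rw [h4, tor_w]⟩

end Cfsg.Agent.H5.D4E
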