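import Cfsg.Agent.H34.FrDefs
import Cfsg.Agent.H52.Quasisimple
import Cfsg.Agent.H80.SchurHopf

/-!
Recognition of groups generated by elements satisfying the relations of a frame.
-/

set_option autoImplicit false

namespace Cfsg.Agent.H5.FRc

open Cfsg.Agent.H78 Cfsg.Agent.H80 Cfsg.Agent.H26 Cfsg.Agent.H26.PForm Subgroup
open Cfsg.Agent.H78.Frame Cfsg.Agent.H34 Cfsg.Agent.H34.FR
open scoped commutatorElement

universe u v

section core

variable {F V : Type v} [Field F] [AddCommGroup V] [Module F V] {P : PForm F V} {n : ℕ}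
  {Fr : Frame P n} {J : Type u} [Group J] {xs : BI n → BI n → F → J} {xl : BI n → V → F → J}

theorem lp_zero {ν : F} (h : ν ∈ P.Λ) : LP Fr 0 ν := ⟨zero_mem _, P.Λ.sub_mem h P.h_zero⟩

theorem lp_smul {w : V} {ν : F} (h : LP Fr w ν) (a : BI n) (c : F) :
    LP Fr (-c • w) (c * P.σ c * ν) := by
  have := (h.ev a).smul_right (-c)
  rw [map_neg, neg_mul_neg] at this
  exact LP.of_ev (Submodule.smul_mem _ _ h.1) this

theorem xs_zero' (h : FRel Fr xs xl) {a b : BI n} (hab : a.1 ≠ b.1) : xs a b 0 = 1 := by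
  have := h.add a b hab 0 0
  rw [add_zero] at this
  exact mul_eq_left.1 this.symm

theorem xl_zero' (h : FRel Fr xs xl) (a : BI n) : xl a 0 0 = 1 := by
  have := h.mul a 0 0 0 0 (lp_zero (zero_mem _)) (lp_zero (zero_mem _))
  rw [add_zero, add_zero, P.f_zero_left, add_zero] at this
  exact mul_eq_left.1 this

/-- The root subgroups. -/
def Y (h : FRel Fr xs xl) (a b : BI n) : Subgroup J where
  carrier := {g | (a.1 ≠ b.1 ∧ ∃ t, g = xs a b t) ∨ (a = b ∧ ∃ w ν, LP Fr w ν ∧ g = xl a w ν) ∨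
    (b = ng a ∧ g = 1)}
  one_mem' := by
    by_cases h1 : a.1 = b.1
    · by_cases h2 : a = b
      · exact Or.inr (Or.inl ⟨h2, 0, 0, lp_zero (zero_mem _), (xl_zero' h a).symm⟩)
      · refine Or.inr (Or.inr ⟨?_, rfl⟩)
        by_contra h3
        exact fst_ne_iff.2 ⟨h2, h3⟩ h1
    · exact Or.inl ⟨h1, 0, (xs_zero' h h1).symm⟩
  mul_mem' := by
    rintro _ _ (⟨h1, s, rfl⟩ | ⟨h1, w, ν, h2, rfl⟩ | ⟨h1, rfl⟩)
      (⟨h3, t, rfl⟩ | ⟨h3, w', ν', h4, rfl⟩ | ⟨h3, rfl⟩)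
    · exact Or.inl ⟨h1, _, (h.add a b h1 s t).symm⟩
    · exact absurd h3 (fst_ne_iff.1 h1).1
    · exact absurd h3 (fst_ne_iff.1 h1).2
    · exact absurd h1 (fst_ne_iff.1 h3).1
    · exact Or.inr (Or.inl ⟨h1, _, _, LP.of_ev (add_mem h2.1 h4.1) ((h2.ev a).add (h4.ev a)),
        h.mul a _ _ _ _ h2 h4⟩)
    · exact absurd (h1.trans h3) (ne_ng a)
    · exact absurd h1 (fst_ne_iff.1 h3).2
    · exact absurd (h3.trans h1) (ne_ng a)
    · exact Or.inr (Or.inr ⟨h1, mul_one _⟩)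
  inv_mem' := by
    rintro _ (⟨h1, s, rfl⟩ | ⟨h1, w, ν, h2, rfl⟩ | ⟨h1, rfl⟩)
    · refine Or.inl ⟨h1, -s, inv_eq_of_mul_eq_one_right ?_⟩
      rw [← h.add a b h1, add_neg_cancel, xs_zero' h h1]
    · have h3 : LP Fr (-w) (P.ε * P.σ ν) := LP.of_ev (neg_mem h2.1) (h2.ev a).neg
      refine Or.inr (Or.inl ⟨h1, _, _, h3, inv_eq_of_mul_eq_one_right ?_⟩)
      rw [h.mul a _ _ _ _ h2 h3, add_neg_cancel, f_neg_left, (h2.ev a).f_self, add_neg_cancel,
        xl_zero' h]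
    · exact Or.inr (Or.inr ⟨h1, inv_one⟩)

variable (h : FRel Fr xs xl)

theorem memS {a b : BI n} (hab : a.1 ≠ b.1) {g : J} : g ∈ Y h a b ↔ ∃ t, g = xs a b t :=
  ⟨fun hg => hg.elim And.right fun hg => hg.elim (fun e => absurd e.1 (fst_ne_iff.1 hab).1)
    fun e => absurd e.1 (fst_ne_iff.1 hab).2, fun hg => Or.inl ⟨hab, hg⟩⟩

theorem memL {a : BI n} {g : J} : g ∈ Y h a a ↔ ∃ w ν, LP Fr w ν ∧ g = xl a w ν :=
  ⟨fun hg => hg.elim (fun e => absurd rfl e.1) fun hg => hg.elim And.right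
    fun e => absurd e.1 (ne_ng a), fun hg => Or.inr (Or.inl ⟨rfl, hg⟩)⟩

theorem Y_symm (a b : BI n) : Y h a b = Y h b a := by
  have key : ∀ a b, Y h a b ≤ Y h b a := by
    rintro a b _ (⟨h1, s, rfl⟩ | ⟨rfl, hg⟩ | ⟨rfl, rfl⟩)
    · exact Or.inl ⟨h1.symm, _, h.swap a b h1 s⟩
    · exact Or.inr (Or.inl ⟨rfl, hg⟩)
    · exact one_mem _
  exact le_antisymm (key a b) (key b a)

theorem bc_Y : BCSys True (Y h) := by
  refine ⟨Y_symm h, fun e => absurd trivial e, fun a b c e hab he h1 h2 h3 h4 x hx y hy => ?_,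
    fun a c hac x hx y hy => ?_, fun a b e hab hae he x hx y hy => ?_, fun a b hab x hx y hy => ?_⟩
  · obtain ⟨s, rfl⟩ := (memS h hab).1 hx
    rcases hy with ⟨h5, t, rfl⟩ | ⟨rfl, w, ν, h5, rfl⟩ | ⟨h5, -⟩
    · exact h.c2s a b c e hab h5 h1 h2 h3 h4 s t
    · exact h.c2l a b c hab h1 h2 s w ν h5
    · exact absurd h5 he
  · obtain ⟨v, ν, h1, rfl⟩ := (memL h).1 hx
    obtain ⟨w, μ, h2, rfl⟩ := (memL h).1 hy
    rw [h.c3 a c hac v ν w μ h1 h2, Y_symm]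
    exact (memS h hac.symm).2 ⟨_, rfl⟩
  · obtain ⟨s, rfl⟩ := (memS h hab).1 hx
    rw [Y_symm] at hy
    obtain ⟨t, rfl⟩ := (memS h (b := ng a) hae.symm).1 hy
    by_cases h1 : b.1 = e.1
    · obtain rfl : b = e := by
        by_contra h2
        exact fst_ne_iff.2 ⟨h2, he⟩ h1
      rw [h.c4' a b hab]
      refine (memL h).2 ⟨_, _, lp_zero ?_, rfl⟩
      have := P.Λ_ge (P.σ (P.f (Fr.e (ng a)) (Fr.e a) * s * t))
      rwa [P.σσ] at this
    · rw [h.c4 a b e hab hae h1, Y_symm]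
      exact (memS h (Ne.symm h1)).2 ⟨_, rfl⟩
  · rw [Y_symm] at hx
    obtain ⟨s, rfl⟩ := (memS h hab.symm).1 hx
    obtain ⟨w, ν, h1, rfl⟩ := (memL h).1 hy
    have := h.c5 (ng a) b hab s w ν h1
    rw [ng_ng] at this
    rw [this]
    exact mul_mem (mem_sup_left ((memS h (b := ng a) hab.symm).2 ⟨_, rfl⟩))
      (mem_sup_right ((memL h).2 ⟨_, _, lp_smul h1 a _, rfl⟩))

theorem long_ne (ok : FrOK Fr) : True → ∀ a, Fr.X a a ≠ ⊥ := fun _ a e => by
  obtain ⟨w, ν, h1, h2⟩ := ok.long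
  have := eT_mem_XL h1.1 (h1.ev a)
  rw [e, mem_bot] at this
  exact h2 (eE_eq_one h1.1 (h1.ev a) (Subtype.ext this)).2

theorem nd : ¬ True → ∀ a, Fr.X a a = ⊥ := fun e => absurd trivial e

theorem gen2 (ok : FrOK Fr) (r : Rt n True) :
    (rdE ok.aniso (Or.inl trivial) nd (long_ne ok)).Gen2 r := by
  have hX := bcx ok.aniso nd (long_ne ok)
  have key : ∀ i j : BI n, ∀ hij : i.1 ≠ j.1, ∀ r : Rt n True, ∀ A : Set (Rt n True),
      (∀ t, t ∈ A ↔ (bcSys (Or.inl trivial)).Btw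
        (rt j (ng i) ⟨(fst_ne_iff.1 (show j.1 ≠ (ng i).1 from hij.symm)).2, fun _ => trivial⟩)
        (rt i i ⟨ne_ng i, fun _ => trivial⟩) t ∧ t ≠ r) → ∀ a b h, rt a b h ≠ r →
      (∀ θ : BI n → ℤ, (∀ c, θ (ng c) = -θ c) → 0 < θ j + θ (ng i) → 0 < θ i + θ i →
        0 < θ a + θ b) → ∀ x ∈ XE Fr a b,
        x ∈ rootU (rdE ok.aniso (Or.inl trivial) nd (long_ne ok)).X A :=
    fun i j hij r A hA a b h h1 h2 x hx => mem_rootU ((hA _).2 ⟨bc_btw h2, h1⟩) hx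
  have ne : ∀ i j : BI n, ∀ hij : i.1 ≠ j.1, rt i i ⟨ne_ng i, fun _ => trivial⟩ ≠
      (bcSys (Or.inl trivial)).neg
      (rt j (ng i) ⟨(fst_ne_iff.1 (show j.1 ≠ (ng i).1 from hij.symm)).2, fun _ => trivial⟩) := by
    intro i j hij e
    rw [bc_neg, rt_eq_iff] at e
    rcases e with ⟨e, -⟩ | ⟨-, e⟩ <;> exact hij (congrArg Prod.fst e :)
  obtain ⟨i, j, hr, rfl⟩ := r.exists_rt
  by_cases hij : i = j
  · subst hij
    obtain ⟨k, hk⟩ : ∃ k : BI n, k.1 ≠ i.1 := by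
      have : Nontrivial (Fin n) := Fin.nontrivial_iff_two_le.2 ok.two
      obtain ⟨k, hk⟩ := exists_ne i.1
      exact ⟨(k, false), hk⟩
    have hk' := fst_ne_iff.1 hk
    refine ⟨_, _, ne k i hk, bc_btw fun θ h1 h2 h3 => by rw [h1] at h2; omega, fun z hz => ?_⟩
    obtain ⟨x, hx, x1⟩ := hX.ne i (ng k) hk.symm
    obtain ⟨b, hb, hu⟩ := hX.l1 k i hk x hx x1 z hz
    have m1 := key k i hk (rt i i hr) _ (fun _ => Iff.rfl) i (ng k)
      ⟨(fst_ne_iff.1 (show i.1 ≠ (ng k).1 from hk.symm)).2, fun _ => trivial⟩ (fun e => by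
      rcases rt_eq_iff.1 e with ⟨-, e⟩ | ⟨-, e⟩ <;> exact hk (congrArg Prod.fst e :))
      (fun _ _ h _ => h) x hx
    have m2 := key k i hk (rt i i hr) _ (fun _ => Iff.rfl) k k ⟨ne_ng k, fun _ => trivial⟩ (fun e => by
      rcases rt_eq_iff.1 e with ⟨-, e⟩ | ⟨-, e⟩ <;> exact hk'.1 e) (fun _ _ _ h => h) b hb
    have m3 := key k i hk (rt i i hr) _ (fun _ => Iff.rfl) k i ⟨hk'.2, fun _ => trivial⟩ (fun e => by
      rcases rt_eq_iff.1 e with ⟨e, -⟩ | ⟨e, -⟩ <;> exact hk'.1 e)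
      (fun θ h1 h2 h3 => by rw [h1] at h2; omega) _ hu
    rw [show z = (⁅x, b⁆ * z⁻¹)⁻¹ * (x * b * x⁻¹ * b⁻¹) by rw [commutatorElement_def]; group]
    exact mul_mem (inv_mem m3) (mul_mem (mul_mem (mul_mem m1 m2) (inv_mem m1)) (inv_mem m2))
  · have hk : i.1 ≠ j.1 := fst_ne_iff.2 ⟨hij, hr.1⟩
    refine ⟨_, _, ne i j hk, bc_btw fun θ h1 h2 h3 => by rw [h1] at h2; omega, fun z hz => ?_⟩
    obtain ⟨x, hx, b, hb, hu⟩ := hX.l3 trivial i j hk z hz
    have m1 := key i j hk (rt i j hr) _ (fun _ => Iff.rfl) j (ng i)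
      ⟨(fst_ne_iff.1 (show j.1 ≠ (ng i).1 from hk.symm)).2, fun _ => trivial⟩ (fun e => by
      rcases rt_eq_iff.1 e with ⟨e, -⟩ | ⟨-, e⟩
      exacts [hij e.symm, ng_ne i e]) (fun _ _ h _ => h) x hx
    have m2 := key i j hk (rt i j hr) _ (fun _ => Iff.rfl) i i ⟨ne_ng i, fun _ => trivial⟩ (fun e => by
      rcases rt_eq_iff.1 e with ⟨-, e⟩ | ⟨e, -⟩ <;> exact hij e) (fun _ _ _ h => h) b hb
    have m3 := key i j hk (rt i j hr) _ (fun _ => Iff.rfl) j j ⟨ne_ng j, fun _ => trivial⟩ (fun e => by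
      rcases rt_eq_iff.1 e with ⟨e, -⟩ | ⟨-, e⟩ <;> exact hij e.symm)
      (fun θ h1 h2 h3 => by rw [h1] at h2; omega) _ hu
    rw [show z = (x * b * x⁻¹ * b⁻¹) * (z⁻¹ * ⁅x, b⁆)⁻¹ by rw [commutatorElement_def]; group]
    exact mul_mem (mul_mem (mul_mem (mul_mem m1 m2) (inv_mem m1)) (inv_mem m2)) (inv_mem m3)

include h in
theorem core [Finite F] [FiniteDimensional F V] (ok : FrOK Fr) (h34 : 3 ≤ n ∨ 4 ≤ Nat.card F)
    (gen : Gen Fr xs xl = ⊤) (π : J →* P.E) (hs : ∀ a b, a.1 ≠ b.1 → ∀ t, π (xs a b t) = xE Fr a b t)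
    (hl : ∀ a w ν, LP Fr w ν → π (xl a w ν) = eE P (Fr.e a) w ν) :
    IsCentralExt π ∧ Group.IsPerfect J := by
  have hY := bc_Y h
  have hL : (rdE ok.aniso (Or.inl trivial) nd (long_ne ok)).Lifts π hY.X := by
    refine ⟨fun r => ?_, fun r s => hY.comm_all _⟩
    obtain ⟨a, b, hr, rfl⟩ := r.exists_rt
    rw [rdE_X, hY.X_rt]
    by_cases hab : a = b
    · subst hab
      refine ⟨fun y hy => ?_, fun y hy e => ?_, fun x hx => ?_⟩
      · obtain ⟨w, ν, h1, rfl⟩ := (memL h).1 hy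
        rw [hl a w ν h1]
        exact eE_mem h1.1 (h1.ev a)
      · obtain ⟨w, ν, h1, rfl⟩ := (memL h).1 hy
        rw [hl a w ν h1] at e
        obtain ⟨rfl, rfl⟩ := eE_eq_one h1.1 (h1.ev a) e
        exact xl_zero' h a
      · obtain ⟨w, ν, h1, h2, rfl⟩ := mem_XEL.1 hx
        exact ⟨_, (memL h).2 ⟨w, ν, LP.of_ev h1 h2, rfl⟩, hl a w ν (LP.of_ev h1 h2)⟩
    · have hk : a.1 ≠ b.1 := fst_ne_iff.2 ⟨hab, hr.1⟩
      refine ⟨fun y hy => ?_, fun y hy e => ?_, fun x hx => ?_⟩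
      · obtain ⟨t, rfl⟩ := (memS h hk).1 hy
        rw [hs a b hk]
        exact xE_mem hr.1 t
      · obtain ⟨t, rfl⟩ := (memS h hk).1 hy
        rw [hs a b hk, xE_eq_one hk] at e
        rw [e, xs_zero' h hk]
      · obtain ⟨t, rfl⟩ := (mem_XES hk x).1 hx
        exact ⟨_, (memS h hk).2 ⟨t, rfl⟩, hs a b hk t⟩
  have hgen : rootU hY.X Set.univ = ⊤ := by
    rw [eq_top_iff, ← gen]
    exact Gen_le (fun a b hab t => mem_rootU (Set.mem_univ
        (rt a b ⟨(fst_ne_iff.1 hab).2, fun _ => trivial⟩)) ((memS h hab).2 ⟨t, rfl⟩))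
      fun a w ν h1 => mem_rootU (Set.mem_univ (rt a a ⟨ne_ng a, fun _ => trivial⟩))
        ((memL h).2 ⟨w, ν, h1, rfl⟩)
  have hsurj : Function.Surjective π := fun g => by
    obtain ⟨v, -, e⟩ := exists_lift_rootU π (fun r _ => (hL.lift r).surj)
      (rdE_gen ok.aniso (Or.inl trivial) nd (long_ne ok) (by have := ok.two; omega) ▸ mem_top g)
    exact ⟨v, e⟩
  refine ⟨⟨hsurj, hL.ker_le_center bc_Phi (fun i => gen2 ok _) hgen⟩, ?_⟩
  have cm : ∀ x y : J, ⁅x, y⁆ ∈ commutator J := fun x y =>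
    commutator_mem_commutator (mem_top _) (mem_top _)
  have k1 : ∀ a b, a.1 ≠ b.1 → ∀ t, xs a b t ∈ commutator J := by
    intro a b hab t
    rcases h34 with h3 | h4
    · obtain ⟨k, h1, h2⟩ := Fin.exists_ne_and_ne_of_two_lt a.1 b.1 (by omega)
      have := h.c4 (k, false) b a h2 h1 hab.symm (P.f (Fr.e (ng (k, false))) (Fr.e (k, false)))⁻¹ t
      rw [mul_inv_cancel₀ (Fr.pair' _), one_mul] at this
      exact this ▸ cm _ _
    · obtain ⟨c, c0, c1⟩ : ∃ c : F, c ≠ 0 ∧ c * c - 1 ≠ 0 := by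
        by_contra! H
        have := Fintype.ofFinite F
        classical
        have : (Finset.univ : Finset F) ⊆ {0, 1, -1} := fun c _ => by
          by_cases c0 : c = 0
          · simp [c0]
          · rcases mul_self_eq_one_iff.1 (sub_eq_zero.1 (H c c0)) with e | e <;> simp [e]
        have := (Finset.card_le_card this).trans Finset.card_le_three
        rw [Finset.card_univ, ← Nat.card_eq_fintype_card] at this
        omega
      obtain ⟨g, hg⟩ := hsurj (hE Fr a b c)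
      have e := hL.conj_eq_of_N bc_Phi (fun i => gen2 ok _) (g := g) (hgen ▸ mem_top g) (l := [])
        (by rw [RD.nw_nil, inv_one, mul_one, hg]; exact hE_mem hab c0)
        (r := rt a b ⟨(fst_ne_iff.1 hab).2, fun _ => trivial⟩)
        (s := rt a b ⟨(fst_ne_iff.1 hab).2, fun _ => trivial⟩)
        ((memS h hab).2 ⟨t / (c * c - 1), rfl⟩) ((memS h hab).2 ⟨c * c * (t / (c * c - 1)), rfl⟩)
        (by rw [hg, hs a b hab, hs a b hab,
          Sc.conj_xE hab (sc_hE_left hab c0) (sc_hE_right hab c0), P.σσ])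
      have e2 : xs a b t = ⁅g, xs a b (t / (c * c - 1))⁆ := by
        rw [commutatorElement_def, e, eq_mul_inv_iff_mul_eq, ← h.add a b hab]
        congr 1
        linear_combination -(mul_div_cancel₀ t c1)
      exact e2 ▸ cm _ _
  rw [Group.isPerfect_def, eq_top_iff, ← gen]
  refine Gen_le k1 fun b w ν h1 => ?_
  obtain ⟨a, ha⟩ : ∃ k : BI n, k.1 ≠ b.1 := by
    have : Nontrivial (Fin n) := Fin.nontrivial_iff_two_le.2 ok.two
    obtain ⟨k, hk⟩ := exists_ne b.1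
    exact ⟨(k, false), hk⟩
  have := h.c5 a b ha (-(P.f (Fr.e (ng a)) (Fr.e a))⁻¹) w ν h1
  rw [neg_mul, inv_mul_cancel₀ (Fr.pair' _), neg_neg, one_smul, map_neg, map_one, neg_mul_neg,
    one_mul, one_mul, ← inv_mul_eq_iff_eq_mul] at this
  exact this ▸ mul_mem (inv_mem (k1 b a ha.symm _)) (cm _ _)

end core

section fibre

variable {F V : Type v} [Field F] [AddCommGroup V] [Module F V] {P : PForm F V} {n : ℕ}
  {Fr : Frame P n} {G : Type u} [Group G] {xs : BI n → BI n → F → G} {xl : BI n → V → F → G}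

theorem rel_prod (h : FRel Fr xs xl) : FRel Fr (fun a b t => (xE Fr a b t, xs a b t))
    fun a w ν => (eE P (Fr.e a) w ν, xl a w ν) :=
  have m := fRel_model Fr
  ⟨fun a b h1 s t => Prod.ext (m.add a b h1 s t) (h.add a b h1 s t),
    fun a b h1 t => Prod.ext (m.swap a b h1 t) (h.swap a b h1 t),
    fun a w ν w' ν' h1 h2 => Prod.ext (m.mul a w ν w' ν' h1 h2) (h.mul a w ν w' ν' h1 h2),
    fun a b c e h1 h2 h3 h4 h5 h6 s t =>
      Prod.ext (m.c2s a b c e h1 h2 h3 h4 h5 h6 s t) (h.c2s a b c e h1 h2 h3 h4 h5 h6 s t),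
    fun a b c h1 h2 h3 s w ν h4 =>
      Prod.ext (m.c2l a b c h1 h2 h3 s w ν h4) (h.c2l a b c h1 h2 h3 s w ν h4),
    fun a c h1 v ν w μ h2 h3 => Prod.ext (m.c3 a c h1 v ν w μ h2 h3) (h.c3 a c h1 v ν w μ h2 h3),
    fun a b c h1 h2 h3 s t => Prod.ext (m.c4 a b c h1 h2 h3 s t) (h.c4 a b c h1 h2 h3 s t),
    fun a b h1 s t => Prod.ext (m.c4' a b h1 s t) (h.c4' a b h1 s t),
    fun a b h1 s w ν h2 => Prod.ext (m.c5 a b h1 s w ν h2) (h.c5 a b h1 s w ν h2)⟩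

open Classical in
/-- The root elements as elements of the generated subgroup. -/
noncomputable def xs' (Fr : Frame P n) (xs : BI n → BI n → F → G) (xl : BI n → V → F → G)
    (a b : BI n) (t : F) : Gen Fr xs xl := if h : a.1 ≠ b.1 then ⟨xs a b t, xs_mem_Gen h t⟩ else 1

open Classical in
/-- The root elements as elements of the generated subgroup. -/
noncomputable def xl' (Fr : Frame P n) (xs : BI n → BI n → F → G) (xl : BI n → V → F → G)
    (a : BI n) (w : V) (ν : F) : Gen Fr xs xl :=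
  if h : LP Fr w ν then ⟨xl a w ν, xl_mem_Gen a h⟩ else 1

theorem coe_xs' {a b : BI n} (h : a.1 ≠ b.1) (t : F) : (xs' Fr xs xl a b t : G) = xs a b t := by
  rw [xs', dif_pos h]

theorem coe_xl' (a : BI n) {w : V} {ν : F} (h : LP Fr w ν) :
    (xl' Fr xs xl a w ν : G) = xl a w ν := by
  rw [xl', dif_pos h]

theorem coe_comm {H : Subgroup G} (x y : H) : ((⁅x, y⁆ : H) : G) = ⁅(x : G), (y : G)⁆ := rfl

theorem rel_sub (h : FRel Fr xs xl) : FRel Fr (xs' Fr xs xl) (xl' Fr xs xl) := by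
  refine ⟨fun a b h1 s t => Subtype.ext ?_, fun a b h1 t => Subtype.ext ?_,
    fun a w ν w' ν' h1 h2 => Subtype.ext ?_, fun a b c e h1 h2 h3 h4 h5 h6 s t => Subtype.ext ?_,
    fun a b c h1 h2 h3 s w ν h4 => Subtype.ext ?_, fun a c h1 v ν w μ h2 h3 => Subtype.ext ?_,
    fun a b c h1 h2 h3 s t => Subtype.ext ?_, fun a b h1 s t => Subtype.ext ?_,
    fun a b h1 s w ν h2 => Subtype.ext ?_⟩
  · simp only [coe_mul, coe_xs' h1]; exact h.add a b h1 s t
  · simp only [coe_xs' h1, coe_xs' h1.symm]; exact h.swap a b h1 t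
  · rw [coe_mul, coe_xl' a h1, coe_xl' a h2,
      coe_xl' a (LP.of_ev (add_mem h1.1 h2.1) ((h1.ev a).add (h2.ev a)))]
    exact h.mul a w ν w' ν' h1 h2
  · simp only [coe_mul, coe_xs' h1, coe_xs' h2]; exact h.c2s a b c e h1 h2 h3 h4 h5 h6 s t
  · simp only [coe_mul, coe_xs' h1, coe_xl' c h4]; exact h.c2l a b c h1 h2 h3 s w ν h4
  · rw [coe_comm, coe_xl' a h2, coe_xl' c h3, coe_xs' h1.symm]; exact h.c3 a c h1 v ν w μ h2 h3
  · rw [coe_comm, coe_xs' h1, coe_xs' (b := ng a) h2.symm, coe_xs' h3.symm]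
    exact h.c4 a b c h1 h2 h3 s t
  · rw [coe_comm, coe_xs' h1, coe_xs' (b := ng a) h1.symm, coe_xl' b (lp_zero ?_)]
    · exact h.c4' a b h1 s t
    · have := P.Λ_ge (P.σ (P.f (Fr.e (ng a)) (Fr.e a) * s * t))
      rwa [P.σσ] at this
  · rw [coe_comm, coe_mul, coe_xs' (b := ng a) h1.symm, coe_xl' a h2, coe_xs' h1.symm,
      coe_xl' b (lp_smul h2 a _)]
    exact h.c5 a b h1 s w ν h2

theorem gen_sub : Gen Fr (xs' Fr xs xl) (xl' Fr xs xl) = ⊤ := by
  refine map_injective (Gen Fr xs xl).subtype_injective (le_antisymm (map_mono le_top) ?_)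
  rw [← MonoidHom.range_eq_map, range_subtype]
  exact Gen_le (fun a b h t => ⟨_, xs_mem_Gen h t, coe_xs' h t⟩)
    fun a w ν h => ⟨_, xl_mem_Gen a h, coe_xl' a h⟩

/-- The fibre product. -/
theorem fibre [Finite F] [FiniteDimensional F V] (h : FRel Fr xs xl) (ok : FrOK Fr)
    (h34 : 3 ≤ n ∨ 4 ≤ Nat.card F) : ∃ (J : Subgroup (P.E × G)) (π : J →* P.E) (ρ : J →* G),
      IsCentralExt π ∧ Group.IsPerfect J ∧ ρ.range = Gen Fr xs xl ∧
      (∀ a b, a.1 ≠ b.1 → ∀ t, ∃ g, π g = xE Fr a b t ∧ ρ g = xs a b t) ∧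
      ∀ a w ν, LP Fr w ν → ∃ g, π g = eE P (Fr.e a) w ν ∧ ρ g = xl a w ν := by
  have hp := rel_prod h
  obtain ⟨h1, h2⟩ := core (rel_sub hp) ok h34 gen_sub ((MonoidHom.fst _ _).comp (Subgroup.subtype _))
    (fun a b hab t => congrArg Prod.fst (coe_xs' hab t))
    (fun a w ν hw => congrArg Prod.fst (coe_xl' a hw))
  refine ⟨_, _, (MonoidHom.snd _ _).comp (Subgroup.subtype _), h1, h2, le_antisymm ?_ ?_,
    fun a b hab t => ⟨⟨_, xs_mem_Gen hab t⟩, rfl, rfl⟩, fun a w ν hw => ⟨⟨_, xl_mem_Gen a hw⟩, rfl, rfl⟩⟩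
  · rw [MonoidHom.range_comp, range_subtype, map_le_iff_le_comap]
    exact Gen_le (fun a b hab t => xs_mem_Gen hab t) fun a w ν hw => xl_mem_Gen a hw
  · exact Gen_le (fun a b hab t => ⟨⟨_, xs_mem_Gen hab t⟩, rfl⟩)
      fun a w ν hw => ⟨⟨_, xl_mem_Gen a hw⟩, rfl⟩

end fibre

theorem frHom : FrHomStmt.{u, v} := by
  intro F V _ _ _ _ _ P n Fr G _ _ xs xl ok h34 hM h
  obtain ⟨J, π, ρ, h1, h2, h3, h4, h5⟩ := fibre h ok h34
  have : Group.IsPerfect P.E := Group.IsPerfect.ofSurjective h1.surj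
  obtain ⟨η, hη⟩ := exists_lift_of_perfect_of_trivial hM (MonoidHom.id _) h1
  have hi : Function.Injective π := (MonoidHom.ker_eq_bot_iff π).1
    (ker_eq_bot_of_section (isStemExtension_of_perfect h1) η hη)
  have e : ∀ g, η (π g) = g := fun g => hi (DFunLike.congr_fun hη (π g))
  refine ⟨ρ.comp η, fun a b hab t => ?_, fun a w ν hw => ?_, ?_⟩
  · obtain ⟨g, e1, e2⟩ := h4 a b hab t
    rw [← e1, MonoidHom.comp_apply, e, e2]
  · obtain ⟨g, e1, e2⟩ := h5 a w ν hw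
    rw [← e1, MonoidHom.comp_apply, e, e2]
  · rw [MonoidHom.range_comp, MonoidHom.range_eq_top.2 fun g => ⟨_, e g⟩, ← MonoidHom.range_eq_map,
      h3]

theorem frRec : FrRecStmt.{u, v} := by
  intro F V _ _ _ _ _ P n Fr G _ xs xl ok h34 hQ h hne
  obtain ⟨J, π, ρ, h1, h2, h3, h4, h5⟩ := fibre h ok h34
  have hJ : IsQuasisimple J := by
    rw [← H52.isQuasisimple_top_iff]
    refine H52.isQuasisimple_of_map π (Group.isPerfect_def.1 h2) ?_ ?_
    · rw [top_inf_eq, commutator_eq_bot_iff_le_centralizer, coe_top, centralizer_univ]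
      exact h1.central
    · rwa [map_top_of_surjective _ h1.surj, H52.isQuasisimple_top_iff]
  let ρ' : J →* Gen Fr xs xl := ρ.codRestrict _ fun g => h3 ▸ ⟨g, rfl⟩
  have hρ : Function.Surjective ρ' := by
    rintro ⟨g, hg⟩
    rw [← h3] at hg
    obtain ⟨k, rfl⟩ := hg
    exact ⟨k, rfl⟩
  have : Nontrivial (Gen Fr xs xl) := (nontrivial_iff_ne_bot _).2 hne
  have hG := H52.IsQuasisimple.of_surjective hJ ρ' hρ
  have hk : ρ'.ker ≤ center J := by
    refine (H52.IsQuasisimple.normal_eq_top_or_le_center hJ _).resolve_left fun e => ?_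
    obtain ⟨g, hg⟩ := exists_ne (1 : Gen Fr xs xl)
    obtain ⟨k, rfl⟩ := hρ g
    exact hg (show k ∈ ρ'.ker from e ▸ mem_top k)
  have cπ : ∀ g ∈ center J, π g ∈ center P.E := fun g hg => mem_center_iff.2 fun y => by
    obtain ⟨k, rfl⟩ := h1.surj y
    rw [← map_mul, ← map_mul, mem_center_iff.1 hg]
  let f := ρ'.liftOfSurjective hρ ⟨(QuotientGroup.mk' (center P.E)).comp π, fun g hg =>
    (QuotientGroup.eq_one_iff _).2 (cπ g (hk hg))⟩
  have hf : ∀ g, f (ρ' g) = QuotientGroup.mk (π g) := fun g =>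
    MonoidHom.liftOfRightInverse_comp_apply _ _ _ _ g
  have fs : Function.Surjective f := fun y => by
    obtain ⟨y, rfl⟩ := QuotientGroup.mk_surjective y
    obtain ⟨k, rfl⟩ := h1.surj y
    exact ⟨_, hf k⟩
  refine ⟨hG, f, fs, le_antisymm ?_ ?_, fun a b hab t => ?_, fun a w ν hw => ?_⟩
  · refine (H52.IsQuasisimple.normal_eq_top_or_le_center hG _).resolve_left fun e => ?_
    have := hQ.2.toNontrivial
    obtain ⟨g, hg⟩ := exists_ne (1 : P.E ⧸ center P.E)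
    obtain ⟨k, rfl⟩ := fs g
    exact hg (show k ∈ f.ker from e ▸ mem_top k)
  · intro g hg
    have := hQ.2
    have hc : f g ∈ center (P.E ⧸ center P.E) := mem_center_iff.2 fun y => by
      obtain ⟨k, rfl⟩ := fs y
      rw [← map_mul, ← map_mul, mem_center_iff.1 hg]
    rcases Normal.eq_bot_or_eq_top (inferInstance : (center (P.E ⧸ center P.E)).Normal) with e | e
    · rwa [e] at hc
    · exact absurd ⟨⟨fun x y => (mem_center_iff.1 (e ▸ mem_top y) x)⟩⟩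
        (H52.IsQuasisimple.not_isMulCommutative_quotient hQ)
  · obtain ⟨g, e1, e2⟩ := h4 a b hab t
    rw [← e1, ← hf]
    exact congrArg f (Subtype.ext e2.symm)
  · obtain ⟨g, e1, e2⟩ := h5 a w ν hw
    rw [← e1, ← hf]
    exact congrArg f (Subtype.ext e2.symm)

end Cfsg.Agent.H5.FRc
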