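import Cfsg.Agent.H63.A8Defs

/-!
Project A8S, piece HN: normal forms in `4³ : (2 × D₈)`.
-/

set_option autoImplicit false
set_option maxRecDepth 10000

namespace Cfsg.Agent.H5.A8N

open Cfsg Cfsg.Agent.H63 Cfsg.Agent.H63.A8 Subgroup

universe u

variable {G : Type u} [Group G]

/-- the parametrization -/
def ph (s0 s1 s2 : G) (a : V4) : G := s0 ^ a.1.val * s1 ^ a.2.1.val * s2 ^ a.2.2.val

theorem pw_add {s : G} (h : s ^ 4 = 1) (a b : ZMod 4) : s ^ (a + b).val = s ^ a.val * s ^ b.val := by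
  rw [← pow_add, ZMod.val_add]
  exact (pow_eq_pow_mod _ h).symm

theorem ph_add {s0 s1 s2 : G} (h0 : s0 ^ 4 = 1) (h1 : s1 ^ 4 = 1) (h2 : s2 ^ 4 = 1)
    (c01 : Commute s0 s1) (c02 : Commute s0 s2) (c12 : Commute s1 s2) (a b : V4) :
    ph s0 s1 s2 (a + b) = ph s0 s1 s2 a * ph s0 s1 s2 b := by
  simp only [ph, Prod.fst_add, Prod.snd_add, pw_add h0, pw_add h1, pw_add h2]
  have e1 := (c01.pow_pow b.1.val a.2.1.val).eq
  have e2 := (c02.pow_pow b.1.val a.2.2.val).eq
  have e3 := (c12.pow_pow b.2.1.val a.2.2.val).eq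
  generalize s0 ^ a.1.val = a0 at *
  generalize s0 ^ b.1.val = b0 at *
  generalize s1 ^ a.2.1.val = a1 at *
  generalize s1 ^ b.2.1.val = b1 at *
  generalize s2 ^ a.2.2.val = a2 at *
  generalize s2 ^ b.2.2.val = b2 at *
  calc a0 * b0 * (a1 * b1) * (a2 * b2) = a0 * (b0 * a1) * (b1 * a2) * b2 := by group
    _ = a0 * a1 * (b0 * a2) * b1 * b2 := by rw [e1, e3]; group
    _ = _ := by rw [e2]; group

section
variable {φ : V4 → G} (add : ∀ a b, φ (a + b) = φ a * φ b)
include add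

theorem f_zero : φ 0 = 1 := by
  have := add 0 0
  rw [add_zero] at this
  exact (mul_eq_left.1 this.symm)

theorem f_neg (a : V4) : φ (-a) = (φ a)⁻¹ :=
  eq_inv_of_mul_eq_one_left (by rw [← add, neg_add_cancel, f_zero add])

theorem f_smul (n : ℕ) (a : V4) : φ (n • a) = φ a ^ n := by
  induction n with
  | zero => rw [zero_smul, pow_zero, f_zero add]
  | succ n ih => rw [succ_nsmul, add, ih, pow_succ]

theorem f_comm (a b : V4) : Commute (φ a) (φ b) := by
  show _ * _ = _ * _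
  rw [← add, ← add, add_comm]

theorem f_lin (a p q r : V4) : φ (a.1.val • p + a.2.1.val • q + a.2.2.val • r) =
    φ p ^ a.1.val * φ q ^ a.2.1.val * φ r ^ a.2.2.val := by
  rw [add, add, f_smul add, f_smul add, f_smul add]

theorem f_conj {g : G} {M : V4 → V4} (p q r : V4) (h0 : g * φ (1, 0, 0) * g⁻¹ = φ p)
    (h1 : g * φ (0, 1, 0) * g⁻¹ = φ q) (h2 : g * φ (0, 0, 1) * g⁻¹ = φ r)
    (hM : ∀ a, M a = a.1.val • p + a.2.1.val • q + a.2.2.val • r) (a : V4) :
    g * φ a * g⁻¹ = φ (M a) := by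
  have e : ∀ a : V4, a = a.1.val • ((1, 0, 0) : V4) + a.2.1.val • ((0, 1, 0) : V4) +
      a.2.2.val • ((0, 0, 1) : V4) := by decide
  rw [hM, f_lin add, ← h0, ← h1, ← h2, conj_pow, conj_pow, conj_pow]
  conv_lhs => rw [e a, f_lin add]
  group

end

theorem word {ι : Alt →* G} {s s' : G} {l m : Alt} {i j : ℕ} (e : l * sg ^ i = sg ^ j * m)
    (h : ι m * s * (ι m)⁻¹ = s') : ι l * sI ι s i * (ι l)⁻¹ = sI ι s' j := by
  have e' := congrArg ι e
  rw [map_mul, map_mul, map_pow, map_pow] at e'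
  rw [sI, sI, ← h]
  calc ι l * (ι sg ^ i * s * (ι sg ^ i)⁻¹) * (ι l)⁻¹
      = (ι l * ι sg ^ i) * s * (ι l * ι sg ^ i)⁻¹ := by group
    _ = _ := by rw [e']; group

theorem sI_inv (ι : Alt →* G) (s : G) (i : ℕ) : sI ι s⁻¹ i = (sI ι s i)⁻¹ := by
  rw [sI, sI]; group

theorem sI_succ (ι : Alt →* G) (s : G) (i : ℕ) :
    ι sg * sI ι s i * (ι sg)⁻¹ = sI ι s (i + 1) := by
  rw [sI, sI, pow_succ']; group

theorem cj_mul {a b s s' s'' : G} (h1 : b * s * b⁻¹ = s') (h2 : a * s' * a⁻¹ = s'') :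
    a * b * s * (a * b)⁻¹ = s'' := by
  rw [← h2, ← h1]; group

theorem dd_mul : ∀ k l, ∃ m, dd k * dd l = dd m := by decide +kernel

theorem dd_inv : ∀ k, ∃ m, dd k * dd m = 1 := by decide +kernel

theorem dd_cen : ∀ k l, dd k * (dd l)⁻¹ * z = z * (dd k * (dd l)⁻¹) →
    dd k * (dd l)⁻¹ * x2 = x2 * (dd k * (dd l)⁻¹) → dd k * (dd l)⁻¹ * y = y * (dd k * (dd l)⁻¹) →
    k = l := by decide +kernel

theorem r_one : ∀ a : V4, z ^ a.1.val * x2 ^ a.2.1.val * y ^ a.2.2.val = 1 → a + a = 0 := by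
  decide +kernel

theorem hn : HNStmt.{u} := by
  intro _ G _ _ ι π t h _ s hs
  have z1 : ι z ≠ 1 := fun e => absurd (h.inj (e.trans (map_one ι).symm)) (by decide +kernel)
  have sq : ∀ i, sI ι s i * sI ι s i = ι (sg ^ i * z * (sg ^ i)⁻¹) := by
    intro i
    rw [map_mul, map_mul, map_inv, map_pow, ← hs.sq, sI]; group
  have s4 : s ^ 4 = 1 := by
    rw [show s ^ 4 = (s * s) * (s * s) by simp only [pow_succ, pow_zero, one_mul, mul_assoc], hs.sq,
      ← map_mul, show z * z = 1 by decide +kernel, map_one]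
  have si4 : ∀ i, sI ι s i ^ 4 = 1 := fun i => by rw [sI, conj_pow, s4]; group
  have s0 : sI ι s 0 = s := by simp [sI]
  have c12 : Commute (sI ι s 1) (sI ι s 2) := by
    have := hs.c1.eq
    have a1 : sI ι s 1 = ι sg * s * (ι sg)⁻¹ := by rw [← sI_succ ι s 0, s0]
    have a2 : sI ι s 2 = ι sg * sI ι s 1 * (ι sg)⁻¹ := (sI_succ ι s 1).symm
    show _ * _ = _ * _
    rw [a2]
    generalize sI ι s 1 = u at *
    calc u * (ι sg * u * (ι sg)⁻¹) = ι sg * s * (ι sg)⁻¹ * (ι sg * u * (ι sg)⁻¹) := by rw [← a1]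
      _ = ι sg * (s * u) * (ι sg)⁻¹ := by group
      _ = ι sg * u * (ι sg)⁻¹ * (ι sg * s * (ι sg)⁻¹) := by rw [this]; group
      _ = _ := by rw [← a1]
  obtain ⟨φ, add, e0, e1, e2, e3⟩ : ∃ φ : V4 → G, (∀ a b, φ (a + b) = φ a * φ b) ∧ φ (1, 0, 0) = s ∧
      φ (0, 1, 0) = sI ι s 1 ∧ φ (0, 0, 1) = sI ι s 2 ∧ φ (1, 3, 2) = sI ι s 3 := by
    refine ⟨ph s (sI ι s 1) (sI ι s 2), ph_add s4 (si4 1) (si4 2) hs.c1 hs.c2 c12, ?_, ?_, ?_, ?_⟩
    · show s ^ 1 * sI ι s 1 ^ 0 * sI ι s 2 ^ 0 = s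
      simp
    · show s ^ 0 * sI ι s 1 ^ 1 * sI ι s 2 ^ 0 = _
      simp
    · show s ^ 0 * sI ι s 1 ^ 0 * sI ι s 2 ^ 1 = _
      simp
    · show s ^ 1 * sI ι s 1 ^ 3 * sI ι s 2 ^ 2 = _
      rw [hs.s3, pow_one]
  have r0 : φ (2, 0, 0) = ι z := by
    rw [show ((2, 0, 0) : V4) = (1, 0, 0) + (1, 0, 0) by decide, add, e0, hs.sq]
  have r1 : φ (0, 2, 0) = ι x2 := by
    rw [show ((0, 2, 0) : V4) = (0, 1, 0) + (0, 1, 0) by decide, add, e1, sq]
    exact congrArg ι (by decide +kernel)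
  have r2 : φ (0, 0, 2) = ι y := by
    rw [show ((0, 0, 2) : V4) = (0, 0, 1) + (0, 0, 1) by decide, add, e2, sq]
    exact congrArg ι (by decide +kernel)
  have inj : ∀ a, φ a = 1 → a = 0 := by
    have k1 : ∀ a, φ (a + a) = 1 → a + a = 0 := by
      intro a ha
      have e : ∀ a : V4, a + a = a.1.val • ((2, 0, 0) : V4) + a.2.1.val • ((0, 2, 0) : V4) +
          a.2.2.val • ((0, 0, 2) : V4) := by decide
      rw [e, f_lin add, r0, r1, r2, ← map_pow, ← map_pow, ← map_pow, ← map_mul, ← map_mul] at ha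
      exact r_one a (h.inj (ha.trans (map_one ι).symm))
    intro a ha
    have k2 := k1 a (by rw [add, ha, mul_one])
    obtain ⟨b, rfl⟩ := (by decide : ∀ a : V4, a + a = 0 → ∃ b, a = b + b) a k2
    exact k1 b ha
  have ti : ∀ i, t * sI ι s i * t⁻¹ = (sI ι s i)⁻¹ := by
    intro i
    have e := ((h.tc sg).pow_left i).eq
    rw [← sI_inv, sI, sI, ← hs.ts]
    calc t * (ι sg ^ i * s * (ι sg ^ i)⁻¹) * t⁻¹ = (t * ι sg ^ i) * s * (t * ι sg ^ i)⁻¹ := by group
      _ = _ := by rw [← e]; group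
  have mt : ∀ a, t * φ a * t⁻¹ = φ (-a) :=
    f_conj add (-(1, 0, 0)) (-(0, 1, 0)) (-(0, 0, 1)) (by rw [f_neg add, e0, hs.ts])
      (by rw [f_neg add, e1, ti]) (by rw [f_neg add, e2, ti]) (by decide)
  have ms : ∀ a, ι sg * φ a * (ι sg)⁻¹ = φ (Ms a) :=
    f_conj add (0, 1, 0) (0, 0, 1) (1, 3, 2) (by rw [e0, e1, ← sI_succ ι s 0, s0])
      (by rw [e1, e2, sI_succ]) (by rw [e2, e3, sI_succ]) (by decide)
  have e4 : φ (2, 3, 3) = sI ι s 4 := by
    rw [← sI_succ ι s 3, ← e3, ms]; rfl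
  have e6 : φ (1, 2, 1) = sI ι s 6 := by
    rw [← sI_succ ι s 5, ← sI_succ ι s 4, ← e4, ms, ms]; rfl
  have fw : ι w2 * s * (ι w2)⁻¹ = s := by rw [← hs.cw.eq, mul_inv_cancel_right]
  have fr : ι rho * s * (ι rho)⁻¹ = s := by rw [← hs.cr.eq, mul_inv_cancel_right]
  have fw' : ι w2 * s⁻¹ * (ι w2)⁻¹ = s⁻¹ := by rw [← conj_inv, fw]
  have fc := hs.cs
  have mc : ∀ a, ι c * φ a * (ι c)⁻¹ = φ (Mc a) := by
    refine f_conj add (-(1, 0, 0)) (0, 1, 0) (2, 3, 3) (by rw [f_neg add, e0, fc]) ?_ ?_ (by decide)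
    · rw [e1]
      exact word (m := rho * (w2 * (rho * rho))) (by decide +kernel) (by
        simp only [map_mul]; exact cj_mul (cj_mul (cj_mul fr fr) fw) fr)
    · rw [e2, e4]
      exact word (m := w2 * rho) (by decide +kernel) (by simp only [map_mul]; exact cj_mul fr fw)
  have mb : ∀ a, ι b13 * φ a * (ι b13)⁻¹ = φ (Mb a) := by
    refine f_conj add (1, 0, 0) (1, 3, 2) (-(0, 0, 1)) ?_ ?_ ?_ (by decide)
    · rw [e0, show b13 = rho * (w2 * (rho * rho)) by decide +kernel]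
      simp only [map_mul]; exact cj_mul (cj_mul (cj_mul fr fr) fw) fr
    · rw [e1, e3]
      exact word (m := w2 * rho) (by decide +kernel) (by simp only [map_mul]; exact cj_mul fr fw)
    · have fr' : ι rho * s⁻¹ * (ι rho)⁻¹ = s⁻¹ := by rw [← conj_inv, fr]
      rw [f_neg add, e2, ← sI_inv]
      exact word (m := w2 * (rho * (w2 * c))) (by decide +kernel) (by
        simp only [map_mul]; exact cj_mul (cj_mul (cj_mul fc fw') fr') fw')
  have mw : ∀ a, ι w2 * φ a * (ι w2)⁻¹ = φ (Mw a) := by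
    refine f_conj add (1, 0, 0) (-(0, 1, 0)) (-(1, 2, 1)) (by rw [e0, fw]) ?_ ?_ (by decide)
    · rw [f_neg add, e1, ← sI_inv]
      exact word (m := w2 * (c * (rho * w2))) (by decide +kernel) (by
        simp only [map_mul]; exact cj_mul (cj_mul (cj_mul fw fr) fc) fw')
    · rw [f_neg add, e2, e6, ← sI_inv]
      exact word (m := c * (rho * w2)) (by decide +kernel) (by
        simp only [map_mul]; exact cj_mul (cj_mul fw fr) fc)
  have nd : ∀ k a, ∃ b, ι (dd k) * φ a * (ι (dd k))⁻¹ = φ b := by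
    have pw : ∀ g : G, (∀ a, ∃ b, g * φ a * g⁻¹ = φ b) → ∀ (n : ℕ) a,
        ∃ b, g ^ n * φ a * (g ^ n)⁻¹ = φ b := by
      intro g hg n
      induction n with
      | zero => exact fun a => ⟨a, by simp⟩
      | succ n ih =>
        intro a
        obtain ⟨b, hb⟩ := hg a
        obtain ⟨b', hb'⟩ := ih b
        exact ⟨b', by rw [pow_succ]; exact cj_mul hb hb'⟩
    intro k a
    obtain ⟨a1, h1⟩ := pw _ (fun a => ⟨_, mw a⟩) (k.1 / 4) a
    obtain ⟨a2, h2⟩ := pw _ (fun a => ⟨_, mb a⟩) (k.1 / 2 % 2) a1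
    obtain ⟨a3, h3⟩ := pw _ (fun a => ⟨_, mc a⟩) (k.1 % 2) a2
    refine ⟨a3, ?_⟩
    rw [dd, map_mul, map_mul, map_pow, map_pow, map_pow]
    exact cj_mul h1 (cj_mul h2 h3)
  have d0 : dd 0 = 1 := by decide +kernel
  have memS : ∀ g, g ∈ SS ι φ ↔ ∃ a k, g = φ a * ι (dd k) := by
    intro g
    constructor
    · intro hg
      induction hg using closure_induction with
      | mem x hx =>
        rcases hx with ⟨a, rfl⟩ | rfl | rfl
        · exact ⟨a, 0, by rw [d0, map_one, mul_one]⟩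
        · exact ⟨0, 1, by rw [f_zero add, one_mul]; exact congrArg ι (by decide +kernel)⟩
        · exact ⟨0, 2, by rw [f_zero add, one_mul]; exact congrArg ι (by decide +kernel)⟩
      | one => exact ⟨0, 0, by rw [d0, map_one, mul_one, f_zero add]⟩
      | mul x y _ _ hx hy =>
        obtain ⟨a, k, rfl⟩ := hx
        obtain ⟨b, l, rfl⟩ := hy
        obtain ⟨b', hb⟩ := nd k b
        obtain ⟨m, hm⟩ := dd_mul k l
        exact ⟨a + b', m, by rw [add, ← hb, ← hm, map_mul]; group⟩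
      | inv x _ hx =>
        obtain ⟨a, k, rfl⟩ := hx
        obtain ⟨m, hm⟩ := dd_inv k
        obtain ⟨b', hb⟩ := nd m (-a)
        refine ⟨b', m, ?_⟩
        rw [← hb, f_neg add, ← inv_eq_of_mul_eq_one_right hm, map_inv]; group
    · rintro ⟨a, k, rfl⟩
      have m1 : ι c ∈ SS ι φ := subset_closure (Or.inr (Or.inl rfl))
      have m2 : ι b13 ∈ SS ι φ := subset_closure (Or.inr (Or.inr rfl))
      have m3 : ι w2 ∈ SS ι φ := by
        rw [show w2 = c * b13 * (c * b13) by decide +kernel, map_mul, map_mul]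
        exact mul_mem (mul_mem m1 m2) (mul_mem m1 m2)
      refine mul_mem (subset_closure (Or.inl ⟨a, rfl⟩)) ?_
      rw [dd, map_mul, map_mul, map_pow, map_pow, map_pow]
      exact mul_mem (mul_mem (pow_mem m1 _) (pow_mem m2 _)) (pow_mem m3 _)
  have cen : ∀ k l, (∀ a, Commute (ι (dd k * (dd l)⁻¹)) (φ (a + a))) → k = l := by
    intro k l hc
    have h0 := (hc (1, 0, 0)).eq
    have h1 := (hc (0, 1, 0)).eq
    have h2 := (hc (0, 0, 1)).eq
    rw [show ((1, 0, 0) : V4) + (1, 0, 0) = (2, 0, 0) by decide, r0, ← map_mul, ← map_mul] at h0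
    rw [show ((0, 1, 0) : V4) + (0, 1, 0) = (0, 2, 0) by decide, r1, ← map_mul, ← map_mul] at h1
    rw [show ((0, 0, 1) : V4) + (0, 0, 1) = (0, 0, 2) by decide, r2, ← map_mul, ← map_mul] at h2
    exact dd_cen k l (h.inj h0) (h.inj h1) (h.inj h2)
  have tS : t ∉ SS ι φ := by
    intro ht
    obtain ⟨a, k, e⟩ := (memS t).1 ht
    have k0 : k = 0 := by
      refine cen k 0 fun b => ?_
      have e' : ι (dd k * (dd 0)⁻¹) = (φ a)⁻¹ * t := by
        rw [d0, inv_one, mul_one, e, inv_mul_cancel_left]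
      rw [e']
      refine (f_comm add a _).inv_left.mul_left ?_
      have := mt (b + b)
      rw [(by decide : ∀ b : V4, -(b + b) = b + b) b, mul_inv_eq_iff_eq_mul] at this
      exact this
    rw [k0, d0, map_one, mul_one] at e
    have := hs.ts
    rw [e, ← e0, (f_comm add a _).eq, mul_inv_cancel_right, e0] at this
    exact z1 (by rw [← hs.sq]; exact mul_eq_one_iff_eq_inv.2 this)
  have tn : ∀ g ∈ SS ι φ, t * g * t⁻¹ ∈ SS ι φ := by
    intro g hg
    obtain ⟨a, k, rfl⟩ := (memS g).1 hg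
    refine (memS _).2 ⟨-a, k, ?_⟩
    rw [← mt]
    calc t * (φ a * ι (dd k)) * t⁻¹ = t * φ a * t⁻¹ * ((t * ι (dd k)) * t⁻¹) := by group
      _ = _ := by rw [← (h.tc _).eq, mul_inv_cancel_right]
  have ti' : t⁻¹ = t := inv_eq_of_mul_eq_one_right h.t2
  have memT : ∀ g, g ∈ SS ι φ ⊔ zpowers t ↔ g ∈ SS ι φ ∨ g * t ∈ SS ι φ := by
    intro g
    constructor
    · intro hg
      let K : Subgroup G :=
        { carrier := {g | g ∈ SS ι φ ∨ g * t ∈ SS ι φ}
          one_mem' := Or.inl (one_mem _)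
          mul_mem' := by
            rintro a b (ha | ha) (hb | hb)
            · exact Or.inl (mul_mem ha hb)
            · exact Or.inr (by rw [mul_assoc]; exact mul_mem ha hb)
            · refine Or.inr ?_
              have := mul_mem ha (tn b hb)
              rwa [ti', show a * t * (t * b * t) = a * (t * t) * b * t by group, h.t2,
                mul_one] at this
            · refine Or.inl ?_
              have := mul_mem ha (tn _ hb)
              rwa [show a * t * (t * (b * t) * t⁻¹) = a * (t * t) * b by group, h.t2,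
                mul_one] at this
          inv_mem' := by
            rintro a (ha | ha)
            · exact Or.inl (inv_mem ha)
            · refine Or.inr ?_
              have := tn _ (inv_mem ha)
              rwa [show t * (a * t)⁻¹ * t⁻¹ = a⁻¹ * t⁻¹ by group, ti'] at this }
      have hK : SS ι φ ⊔ zpowers t ≤ K := sup_le (fun _ hx => Or.inl hx)
        (zpowers_le.2 (Or.inr (by rw [h.t2]; exact one_mem _)))
      exact hK hg
    · rintro (hg | hg)
      · exact mem_sup_left hg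
      · have := mul_mem (mem_sup_left hg : g * t ∈ SS ι φ ⊔ zpowers t)
          (mem_sup_right (mem_zpowers t))
        rwa [mul_assoc, h.t2, mul_one] at this
  have cardS : Nat.card (SS ι φ) = 512 := by
    have : Nat.card (V4 × Fin 8) = Nat.card (SS ι φ) := by
      refine Nat.card_eq_of_bijective
        (fun p => ⟨φ p.1 * ι (dd p.2), (memS _).2 ⟨_, _, rfl⟩⟩) ⟨?_, ?_⟩
      · rintro ⟨a, k⟩ ⟨b, l⟩ e
        have e' : φ a * ι (dd k) = φ b * ι (dd l) := congrArg Subtype.val e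
        have kl : k = l := by
          refine cen k l fun d => ?_
          have : ι (dd k * (dd l)⁻¹) = (φ a)⁻¹ * φ b := by
            rw [map_mul, map_inv]
            calc ι (dd k) * (ι (dd l))⁻¹ = (φ a)⁻¹ * (φ a * ι (dd k)) * (ι (dd l))⁻¹ := by group
              _ = _ := by rw [e']; group
          rw [this]
          exact (f_comm add a _).inv_left.mul_left (f_comm add b _)
        subst kl
        have := inj (a + -b) (by rw [add, f_neg add, mul_right_cancel e', mul_inv_cancel])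
        rw [add_neg_eq_zero.1 this]
      · rintro ⟨g, hg⟩
        obtain ⟨a, k, rfl⟩ := (memS g).1 hg
        exact ⟨(a, k), rfl⟩
    rw [← this]
    simp
  have cardT : Nat.card ↥(SS ι φ ⊔ zpowers t) = 1024 := by
    have hi : (SS ι φ).relIndex (SS ι φ ⊔ zpowers t) = 2 := by
      refine relIndex_eq_two_iff.2 ⟨t, mem_sup_right (mem_zpowers t), fun b hb => ?_⟩
      rcases (memT b).1 hb with e | e
      · exact Or.inr ⟨e, fun e' => tS (by simpa using mul_mem (inv_mem e) e')⟩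
      · exact Or.inl ⟨e, fun e' => tS (by simpa using mul_mem (inv_mem e') e)⟩
    have := ((SS ι φ).subgroupOf (SS ι φ ⊔ zpowers t)).card_mul_index
    rw [Nat.card_congr (subgroupOfEquivOfLe le_sup_left).toEquiv, cardS] at this
    rw [← this]
    exact congrArg (512 * ·) hi
  exact ⟨φ, add, inj, e0 ▸ hs.toHS0, r0, r1, r2, mt, ms, mc, mb, mw, memS, memT, tS, cardS, cardT⟩

end Cfsg.Agent.H5.A8N
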