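import Cfsg.Agent.H78.G40A

/-! Project L40G (row S3140): the data for the transfer. -/

set_option autoImplicit false

namespace Cfsg.Agent.H5.G40Env

open Subgroup Cfsg.Agent.H83 Cfsg.Agent.H46.L40 Cfsg.Agent.H78.G40
open Cfsg.Agent.H46.S94 (Cx AS Inn)

universe u

local notation "C[" A "]" => Subgroup.centralizer (SetLike.coe A)

variable {G : Type u} [Group G] {X : Type} [Group X]

theorem sq_of_conj {t y : G} (ht : t * t = 1) (h : IsConj t y) : y * y = 1 := by
  obtain ⟨g, rfl⟩ := isConj_iff.1 h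
  calc g * t * g⁻¹ * (g * t * g⁻¹) = g * (t * t) * g⁻¹ := by group
    _ = 1 := by rw [ht]; group

theorem key [Finite G] {ψ : X →* G} (inj : Function.Injective ψ) {y : G} (hy : y * y = 1)
    (h1 : ∀ P ≤ Cz y, IsPGroup 2 P → Nat.card P ≤ 64)
    (h2 : ∀ (p q : G) (k : ℕ), (k = 5 ∨ k = 7) → p * y = y * p → q * y = y * q → p * p = 1 →
      q ^ 3 = 1 → (p * q) ^ k = 1 → p = 1)
    {α : MulAut X} (ha : ∀ x, y * ψ x * y⁻¹ = ψ (α x)) {n : ℕ} (hc : Cert n α)
    (hn : n = 128 ∨ (n = 64 ∧ y ∉ ψ.range)) : False := by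
  have fix : ∀ x, α x = x → ψ x * y = y * ψ x := fun x hx => by
    have := ha x
    rw [hx] at this
    calc ψ x * y = y * ψ x * y⁻¹ * y := by rw [this]
      _ = y * ψ x := by group
  rcases hc with ⟨P, hP, hcard, hfix⟩ | ⟨p, q, k, hk, p1, pp, q3, pq, ap, aq⟩
  · have hle : P.map ψ ≤ Cz y := by
      rintro _ ⟨x, hx, rfl⟩
      exact mem_centralizer_singleton_iff.2 (fix x (hfix x hx))
    have hP' : IsPGroup 2 (P.map ψ) := hP.map ψ
    have hc' : Nat.card (P.map ψ) = Nat.card P := card_map_of_injective inj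
    rcases hn with rfl | ⟨rfl, hyR⟩
    · have := h1 _ hle hP'
      omega
    · have hz : IsPGroup 2 (zpowers y) := by
        rintro ⟨_, k, rfl⟩
        refine ⟨1, Subtype.ext ?_⟩
        change (y ^ k) ^ 2 ^ 1 = 1
        rw [pow_one, ← zpow_natCast, ← zpow_mul, mul_comm, zpow_mul, zpow_natCast, pow_two, hy,
          one_zpow]
      have hN : P.map ψ ≤ normalizer (zpowers y : Set G) := by
        refine le_trans ?_ (centralizer_le_normalizer _)
        intro g hg
        rw [mem_centralizer_iff]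
        rintro _ ⟨k, rfl⟩
        exact ((show Commute g y from mem_centralizer_singleton_iff.1 (hle hg)).zpow_right k).eq.symm
      have hQ : IsPGroup 2 (P.map ψ ⊔ zpowers y : Subgroup G) :=
        IsPGroup.to_sup_of_normal_right' hP' hz hN
      have hQle : P.map ψ ⊔ zpowers y ≤ Cz y := sup_le hle (by
        rw [zpowers_le]; exact mem_centralizer_singleton_iff.2 rfl)
      have h64 := h1 _ hQle hQ
      have heq : P.map ψ = P.map ψ ⊔ zpowers y :=
        eq_of_le_of_card_ge le_sup_left (by omega)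
      have : y ∈ P.map ψ := heq ▸ mem_sup_right (mem_zpowers y)
      obtain ⟨x, -, rfl⟩ := this
      exact hyR ⟨x, rfl⟩
  · have := h2 (ψ p) (ψ q) k hk (fix p ap) (fix q aq) (by rw [← map_mul, pp, map_one])
      (by rw [← map_pow, q3, map_one]) (by rw [← map_mul, ← map_pow, pq, map_one])
    exact p1 (inj (by rw [this, map_one]))

theorem env : EnvS.{u} := by
  intro kit hOdd hNc X _ e σ τ θ act mo cls nc0F hθ G _ _ d ψ tie
  obtain ⟨odd, tN, γN, OC, RX, as, -⟩ := hOdd G d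
  have NC := hNc kit G d.φ d.t d.O d.cx
  have tt := d.cx.tt
  have ti : d.t⁻¹ = d.t := inv_eq_of_mul_eq_one_right tt
  have mR : ∀ {r}, r ∈ d.R → ∃ x, ψ x = r := fun hr => by rw [← tie.rg] at hr; exact hr
  have Rm : ∀ x, ψ x ∈ d.R := fun x => by rw [← tie.rg]; exact ⟨x, rfl⟩
  have φR : ∀ m, d.φ m ∈ d.R := fun m => tie.he m ▸ Rm _
  have zr : d.R ⊓ C[d.R] = ⊥ := by
    rw [eq_bot_iff]
    rintro r ⟨hr, hc⟩
    obtain ⟨x, rfl⟩ := mR hr
    have hx : x ∈ center X := mem_center_iff.2 fun g => tie.inj (by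
      rw [map_mul, map_mul]; exact hc _ (Rm g))
    have := mo.simple
    rcases (inferInstance : (center X).Normal).eq_bot_or_eq_top with h | h
    · rw [h, mem_bot] at hx
      rw [hx, map_one]; exact one_mem _
    · exact absurd ⟨⟨fun a b => (mem_center_iff.1 (h ▸ mem_top b : b ∈ center X) a)⟩⟩ mo.nc
  have hcls : ∀ r ∈ d.R, r * d.t * (r * d.t) = 1 → ∃ y ∈ d.R, r * d.t = y * d.t * y⁻¹ := by
    intro r hr h
    obtain ⟨x, rfl⟩ := mR hr
    obtain ⟨y, rfl⟩ := cls x (tie.inj (by rw [map_mul, ← tie.ht, map_one, ← h]; group))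
    refine ⟨ψ y, Rm y, ?_⟩
    rw [map_mul, map_inv, ← tie.ht, mul_inv_rev, mul_inv_rev, ti]
    calc ψ y * (d.t * ((ψ y)⁻¹ * d.t)) * d.t = ψ y * d.t * (ψ y)⁻¹ * (d.t * d.t) := by group
      _ = _ := by rw [tt, mul_one]
  have nc0 : ∀ r ∈ d.R, ¬ IsConj d.t r := by
    intro r hr h
    obtain ⟨x, rfl⟩ := mR hr
    have hs := sq_of_conj tt h
    have x1 : x ≠ 1 := by
      rintro rfl
      rw [map_one, isConj_one_left] at h
      exact d.cx.t1 h
    rcases nc0F x (tie.inj (by rw [map_mul, hs, map_one])) x1 with h' | h'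
    · have h2 : IsConj (ψ (e z0)) (ψ x) := ψ.map_isConj h'
      rw [tie.he] at h2
      exact d.nz (h.trans h2.symm)
    · exact key tie.inj hs (NC _ h).1 (NC _ h).2 (α := MulAut.conj x)
        (fun w => by simp [MulAut.conj_apply]) h' (Or.inl rfl)
  have nR : ∀ y, IsConj d.t y → y ∉ ψ.range := fun y h hy => nc0 y (tie.rg ▸ hy) h
  rcases hθ with ⟨j, hj⟩ | ⟨n1, n2⟩
  · refine ⟨1, as, RX, d.cov, tt, d.cx.t1, one_mul _, by simp, tN, one_mem _, odd, zr, ?_, hcls,
      nc0, Or.inl rfl⟩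
    intro c hc
    obtain ⟨m, o, ho, h⟩ := d.gam.cov c hc
    rcases tie.hg with hg | hg
    · rw [hg] at h
      exact ⟨d.φ m, φR m, o, OC ho, h⟩
    · have hc0 : (ψ j)⁻¹ * d.γ ∈ C[d.R] := by
        rw [mem_centralizer_iff]
        intro r hr
        obtain ⟨x, rfl⟩ := mR hr
        have := hg x
        rw [hj, MulAut.conj_apply, map_mul, map_mul, map_inv] at this
        calc ψ x * ((ψ j)⁻¹ * d.γ) = (ψ j)⁻¹ * (ψ j * ψ x * (ψ j)⁻¹) * d.γ := by group
          _ = _ := by rw [← this]; group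
      have hoj : ψ j * o = o * ψ j := OC ho _ (Rm j)
      have e1 : d.φ m * o * d.γ = d.φ m * ψ j * (o * ((ψ j)⁻¹ * d.γ)) := by
        calc d.φ m * o * d.γ = d.φ m * (o * ψ j) * ((ψ j)⁻¹ * d.γ) := by group
          _ = _ := by rw [← hoj]; group
      rcases h with h | h | h | h
      · exact ⟨d.φ m, φR m, o, OC ho, Or.inl h⟩
      · exact ⟨d.φ m, φR m, o, OC ho, Or.inr (Or.inl h)⟩
      · exact ⟨_, mul_mem (φR m) (Rm j), _, mul_mem (OC ho) hc0, Or.inl (h.trans e1)⟩
      · refine ⟨_, mul_mem (φR m) (Rm j), _, mul_mem (OC ho) hc0, Or.inr (Or.inl ?_)⟩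
        rw [h, ← e1, mul_assoc _ d.t, ← d.gam.gt, ← mul_assoc]
  · refine ⟨d.γ, as, RX, d.cov, tt, d.cx.t1, d.gam.gg, d.gam.gt, tN, γN, odd, zr, ?_, hcls,
      nc0, ?_⟩
    · intro c hc
      obtain ⟨m, o, ho, h⟩ := d.gam.cov c hc
      exact ⟨d.φ m, φR m, o, OC ho, h⟩
    · rcases tie.hg with hg | hg
      · exact Or.inl hg
      refine Or.inr fun r hr => ?_
      obtain ⟨x, rfl⟩ := mR hr
      have gi : d.γ⁻¹ = d.γ := inv_eq_of_mul_eq_one_right d.gam.gg
      refine ⟨fun h => ?_, fun h => ?_⟩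
      · have hs := sq_of_conj tt h
        refine key tie.inj hs (NC _ h).1 (NC _ h).2 (α := MulAut.conj x * θ) (fun w => ?_)
          (n1 x (tie.inj ?_)) (Or.inr ⟨rfl, nR _ h⟩)
        · rw [MulAut.mul_apply, MulAut.conj_apply, map_mul, map_mul, map_inv, ← hg]; group
        · rw [map_mul, ← hg, gi, map_one, ← hs]; group
      · have hs := sq_of_conj tt h
        have ha : ∀ w, d.γ * d.t * ψ w * (d.γ * d.t)⁻¹ = ψ ((θ * τ) w) := fun w => by
          rw [MulAut.mul_apply, ← hg, ← tie.ht, mul_inv_rev, ti]; group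
        have hi : (d.γ * d.t)⁻¹ = d.γ * d.t := by rw [mul_inv_rev, ti, gi, d.gam.gt]
        refine key tie.inj hs (NC _ h).1 (NC _ h).2 (α := MulAut.conj x * (θ * τ)) (fun w => ?_)
          (n2 x (tie.inj ?_)) (Or.inr ⟨rfl, nR _ h⟩)
        · rw [MulAut.mul_apply, MulAut.conj_apply, map_mul, map_mul, map_inv, ← ha]; group
        · rw [map_mul, ← ha, hi, map_one, ← hs]; group

end Cfsg.Agent.H5.G40Env
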