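import Cfsg.Agent.H78.G40B

/-! Project L40G (row S3140): centralisers in the symplectic model. -/

set_option autoImplicit false

namespace Cfsg.Agent.H5.G40F2c

open Subgroup Matrix Cfsg.Agent.H46.L40 Cfsg.Agent.H78.G40

local notation "C[" A "]" => Subgroup.centralizer (SetLike.coe A)

abbrev M2 := Matrix (Fin 2) (Fin 2) (ZMod 3)
abbrev M6 := Matrix (Fin 3 ⊕ Fin 3) (Fin 3 ⊕ Fin 3) (ZMod 3)
abbrev L2 := SpecialLinearGroup (Fin 2) (ZMod 3)

/-- block matrices on the three planes -/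
def pm (h : Fin 3 → M2) : M6 :=
  fromBlocks (diagonal fun i => h i 0 0) (diagonal fun i => h i 0 1) (diagonal fun i => h i 1 0)
    (diagonal fun i => h i 1 1)

theorem pm_mul (h k : Fin 3 → M2) : pm (h * k) = pm h * pm k := by
  simp [pm, fromBlocks_multiply, mul_apply, Fin.sum_univ_two]

theorem pm_t (h : Fin 3 → M2) : (pm h)ᵀ = pm fun i => (h i)ᵀ := by
  simp [pm, fromBlocks_transpose]

theorem pm_neg (h : Fin 3 → M2) : pm (-h) = -pm h := by
  simp [pm, fromBlocks_neg, diagonal_neg]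

theorem pm_inj {h k : Fin 3 → M2} (e : pm h = pm k) : h = k := by
  obtain ⟨e1, e2, e3, e4⟩ := fromBlocks_inj.1 e
  funext i
  ext a b
  fin_cases a <;> fin_cases b
  exacts [congrFun (diagonal_injective e1) i, congrFun (diagonal_injective e2) i,
    congrFun (diagonal_injective e3) i, congrFun (diagonal_injective e4) i]

theorem pm_J : J (Fin 3) (ZMod 3) = pm fun _ => !![0, -1; 1, 0] := by decide +kernel

theorem sp2 (x : M2) : x * !![0, -1; 1, 0] * xᵀ = !![0, -1; 1, 0] ↔ x.det = 1 := by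
  rw [eta_fin_two x]
  generalize x 0 0 = a, x 0 1 = b, x 1 0 = c, x 1 1 = d
  revert a b c d
  decide +kernel

theorem pm_mem (h : Fin 3 → M2) : pm h ∈ Sp6 ↔ ∀ i, (h i).det = 1 := by
  change pm h * J (Fin 3) (ZMod 3) * (pm h)ᵀ = J (Fin 3) (ZMod 3) ↔ _
  rw [pm_J, pm_t, ← pm_mul, ← pm_mul]
  exact ⟨fun e i => (sp2 _).1 (congrFun (pm_inj e) i),
    fun e => congrArg pm (funext fun i => (sp2 _).2 (e i))⟩

/-- the subgroup `SL₂(3)³` -/
def Ph : (Fin 3 → L2) →* Sp6 where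
  toFun h := ⟨pm fun i => (h i).1, (pm_mem _).2 fun i => (h i).2⟩
  map_one' := by decide +kernel
  map_mul' h k := Subtype.ext (pm_mul (fun i => (h i).1) fun i => (k i).1)

theorem Ph_inj : Function.Injective Ph := fun _ _ e =>
  funext fun i => Subtype.ext (congrFun (pm_inj (congrArg Subtype.val e)) i)

theorem lift_comm (g s : Sp6) (hs : s.1.trace ≠ -s.1.trace) (h : mk2 s * mk2 g = mk2 g * mk2 s) :
    s.1 * g.1 = g.1 * s.1 := by
  rw [← map_mul, ← map_mul, mk2_eq] at h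
  refine h.resolve_right fun h => hs ?_
  have k : g.1 * (g⁻¹).1 = 1 := congrArg Subtype.val (mul_inv_cancel g)
  have k' : (g⁻¹).1 * g.1 = 1 := congrArg Subtype.val (inv_mul_cancel g)
  have h' : s.1 * g.1 = -(g.1 * s.1) := h
  calc s.1.trace = (s.1 * g.1 * (g⁻¹).1).trace := by rw [mul_assoc, k, mul_one]
    _ = _ := by rw [h', neg_mul, trace_neg, trace_mul_cycle, k', one_mul]

theorem struct (g : Sp6) (hz : e2 z0 * mk2 g = mk2 g * e2 z0) (ha : e2 a0 * mk2 g = mk2 g * e2 a0) :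
    ∃ h, g = Ph h := by
  have h1 := lift_comm g (E2 z0) (by decide +kernel) hz
  have h2 := lift_comm g (E2 a0) (by decide +kernel) ha
  have ez : (E2 z0).1 = diagonal (Sum.elim ![2, 2, 1] ![2, 2, 1]) := by decide +kernel
  have ea : (E2 a0).1 = diagonal (Sum.elim ![1, 2, 2] ![1, 2, 2]) := by decide +kernel
  rw [ez] at h1
  rw [ea] at h2
  have key : ∀ i j : Fin 3, i ≠ j → ∀ x : ZMod 3,
      (![2, 2, 1] : Fin 3 → ZMod 3) i * x = x * (![2, 2, 1] : Fin 3 → ZMod 3) j →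
      (![1, 2, 2] : Fin 3 → ZMod 3) i * x = x * (![1, 2, 2] : Fin 3 → ZMod 3) j → x = 0 := by
    decide +kernel
  have e : g.1 = pm fun i => !![g.1 (.inl i) (.inl i), g.1 (.inl i) (.inr i);
      g.1 (.inr i) (.inl i), g.1 (.inr i) (.inr i)] := by
    ext x y
    have k1 := congrFun (congrFun h1 x) y
    have k2 := congrFun (congrFun h2 x) y
    rw [diagonal_mul, mul_diagonal] at k1 k2
    rcases x with i | i <;> rcases y with j | j <;> by_cases hij : i = j
    all_goals first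
      | (subst hij; simp [pm])
      | (rw [key i j hij _ k1 k2]; simp [pm, hij])
  have hd := (pm_mem _).1 (e ▸ g.2)
  exact ⟨fun i => ⟨_, hd i⟩, Subtype.ext e⟩

def P2 : L2 := ⟨!![0, 1; 2, 0], by decide⟩
def Q2 : L2 := ⟨!![1, 1; 1, 2], by decide⟩

theorem forall_L2 {p : L2 → Prop}
    (h : ∀ a b c d : ZMod 3, ∀ e : det !![a, b; c, d] = 1, p ⟨_, e⟩) (x : L2) : p x := by
  obtain ⟨x, hx⟩ := x
  have e := eta_fin_two x
  have := h (x 0 0) (x 0 1) (x 1 0) (x 1 1) (e ▸ hx)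
  exact (Subtype.ext e.symm : (⟨_, e ▸ hx⟩ : L2) = ⟨x, hx⟩) ▸ this

theorem pw12 (x : L2) : x ^ 12 = 1 := by
  revert x
  refine forall_L2 ?_
  decide +kernel

theorem q8 (x : L2) (h : x ^ 4 = 1) : ∃ a b : ℕ, x = P2 ^ a * Q2 ^ b := by
  have : ∀ x : L2, x ^ 4 = 1 → ¬ ∀ k : Fin 8, x * 1 ≠ P2 ^ (k.1 / 2) * Q2 ^ (k.1 % 2) := by
    refine forall_L2 ?_
    decide +kernel
  by_contra hc
  exact this x h fun k e => hc ⟨_, _, (mul_one x).symm.trans e⟩

theorem cen8 (x : L2) : P2 * x = x * P2 → Q2 * x = x * Q2 → x * x = 1 := by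
  revert x
  refine forall_L2 ?_
  decide +kernel

theorem ne_neg (x : L2) : x.1 ≠ -x.1 := by
  revert x
  refine forall_L2 ?_
  decide +kernel

theorem p_eq (i : Fin 3) : dd2.p i = mk2 (Ph (Pi.mulSingle i P2)) :=
  congrArg mk2 (Subtype.ext (by
    change bl i 0 1 2 0 = _
    revert i; decide +kernel))

theorem q_eq (i : Fin 3) : dd2.q i = mk2 (Ph (Pi.mulSingle i Q2)) :=
  congrArg mk2 (Subtype.ext (by
    change bl i 1 1 1 2 = _
    revert i; decide +kernel))

theorem p_mem (i : Fin 3) : dd2.p i ∈ As dd2 := subset_closure (Or.inl ⟨i, rfl⟩)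
theorem q_mem (i : Fin 3) : dd2.q i ∈ As dd2 := subset_closure (Or.inr ⟨i, rfl⟩)

theorem comm_single (h : Fin 3 → L2) (i : Fin 3) (s : L2)
    (e : mk2 (Ph (Pi.mulSingle i s)) * mk2 (Ph h) = mk2 (Ph h) * mk2 (Ph (Pi.mulSingle i s))) :
    s * h i = h i * s := by
  rw [← map_mul, ← map_mul, ← map_mul, ← map_mul, mk2_eq] at e
  rcases e with e | e
  · simpa using congrFun (Ph_inj (Subtype.ext e)) i
  · have e' : pm (fun j => ((Pi.mulSingle i s * h : Fin 3 → L2) j).1) =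
        -pm fun j => ((h * Pi.mulSingle i s : Fin 3 → L2) j).1 := e
    rw [← pm_neg] at e'
    obtain ⟨j, hj⟩ := exists_ne i
    have := congrFun (pm_inj e') j
    simp only [Pi.mul_apply, Pi.neg_apply, Pi.mulSingle_eq_of_ne hj, one_mul, mul_one] at this
    exact absurd this (ne_neg _)

theorem f2c : F2cS := by
  refine ⟨fun y hy ⟨n, hn⟩ => ?_, fun y hy => ?_⟩
  · obtain ⟨g, rfl⟩ := QuotientGroup.mk'_surjective _ y
    obtain ⟨h, rfl⟩ := struct g
      (hy _ ⟨z0, subset_closure (Or.inl rfl), rfl⟩) (hy _ ⟨a0, subset_closure (Or.inr rfl), rfl⟩)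
    have h1 : h ^ 2 ^ (n + 1) = 1 := by
      apply Ph_inj
      rw [← map_pow, ← map_one mk2, mk2_eq] at hn
      rw [map_pow, map_one, pow_succ, pow_mul, pow_two]
      apply Subtype.ext
      change (Ph h ^ 2 ^ n).1 * (Ph h ^ 2 ^ n).1 = 1
      rcases hn with hn | hn <;> rw [hn] <;> simp
    have h4 : ∀ i, h i ^ 4 = 1 := fun i => by
      have a1 : orderOf (h i) ∣ 2 ^ (n + 1) := orderOf_dvd_of_pow_eq_one (congrFun h1 i)
      have a2 : orderOf (h i) ∣ 3 * 4 := orderOf_dvd_of_pow_eq_one (pw12 _)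
      exact orderOf_dvd_iff_pow_eq_one.1
        ((((by norm_num : Nat.Coprime 2 3).pow_left (n + 1)).coprime_dvd_left a1).dvd_of_dvd_mul_left
          a2)
    have hs : ∀ i, mk2 (Ph (Pi.mulSingle i (h i))) ∈ As dd2 := fun i => by
      obtain ⟨a, b, e⟩ := q8 _ (h4 i)
      rw [e, Pi.mulSingle_mul, Pi.mulSingle_pow, Pi.mulSingle_pow, map_mul, map_mul, map_pow,
        map_pow, map_pow, map_pow, ← p_eq, ← q_eq]
      exact mul_mem (pow_mem (p_mem i) _) (pow_mem (q_mem i) _)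
    have e : h = Pi.mulSingle 0 (h 0) * Pi.mulSingle 1 (h 1) * Pi.mulSingle 2 (h 2) := by
      funext i
      fin_cases i <;> simp
    rw [e, map_mul, map_mul, map_mul, map_mul]
    exact mul_mem (mul_mem (hs 0) (hs 1)) (hs 2)
  · obtain ⟨g, rfl⟩ := QuotientGroup.mk'_surjective _ y
    have hz : e2 z0 = dd2.p 0 * dd2.p 0 * (dd2.p 1 * dd2.p 1) := by
      rw [p_eq, p_eq, ← map_mul, ← map_mul, ← map_mul]
      exact congrArg mk2 (by decide +kernel)
    have ha : e2 a0 = dd2.p 1 * dd2.p 1 * (dd2.p 2 * dd2.p 2) := by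
      rw [p_eq, p_eq, ← map_mul, ← map_mul, ← map_mul]
      exact congrArg mk2 (by decide +kernel)
    obtain ⟨h, rfl⟩ := struct g
      (hy _ (hz ▸ mul_mem (mul_mem (p_mem 0) (p_mem 0)) (mul_mem (p_mem 1) (p_mem 1))))
      (hy _ (ha ▸ mul_mem (mul_mem (p_mem 1) (p_mem 1)) (mul_mem (p_mem 2) (p_mem 2))))
    have h2 : h * h = 1 := funext fun i =>
      cen8 _ (comm_single h i _ (p_eq i ▸ hy _ (p_mem i))) (comm_single h i _ (q_eq i ▸ hy _ (q_mem i)))
    exact ⟨1, by rw [pow_one, pow_two, ← map_mul, ← map_mul, h2, map_one, map_one]⟩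

theorem eqns_G40F2c : True := by
  have := @pm.eq_1
  trivial

end Cfsg.Agent.H5.G40F2c
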