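import Cfsg.Agent.H40.L3K2

/-! Project L33: the end game for a second conjugate of `F` of kind `ε`. -/

set_option autoImplicit false
set_option linter.unusedSectionVars false

noncomputable section

namespace Cfsg.Agent.H5.L3E

open Subgroup Cfsg.Agent.H83 Cfsg.Agent.H40.L3

universe u

variable {G : Type u} [Group G] [Finite G]

theorem le_two_mul {H K : Subgroup G} (h : ∀ a ∈ K, ∀ b ∈ K, a ∉ H → b ∉ H → a⁻¹ * b ∈ H) :
    Nat.card K ≤ 2 * Nat.card (K ⊓ H : Subgroup G) := by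
  by_cases hle : K ≤ H
  · rw [inf_eq_left.mpr hle]; omega
  obtain ⟨c, hc, hcH⟩ := SetLike.not_le_iff_exists.mp hle
  have h2 : H.relIndex K = 2 := by
    rw [relIndex, index_eq_two_iff']
    refine ⟨⟨c⁻¹, inv_mem hc⟩, fun b => ?_⟩
    by_cases hb : (b : G) ∈ H
    · refine Or.inr ⟨hb, fun e => hcH ?_⟩
      have e1 : c⁻¹ * b ∈ H := e
      simpa using inv_mem (mul_mem e1 (inv_mem hb))
    · exact Or.inl ⟨h c hc b b.2 hcH hb, hb⟩
  have h1 := (H.subgroupOf K).card_mul_index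
  rw [← inf_subgroupOf_left, Nat.card_congr (subgroupOfEquivOfLe inf_le_left).toEquiv,
    inf_subgroupOf_left] at h1
  change _ * H.relIndex K = _ at h1
  rw [h2] at h1
  omega

theorem two_mul_le {H K : Subgroup G} (h : H ≤ K) {x : G} (hx : x ∈ K) (hn : x ∉ H) :
    2 * Nat.card H ≤ Nat.card K := by
  have h1 := (H.subgroupOf K).card_mul_index
  rw [Nat.card_congr (subgroupOfEquivOfLe h).toEquiv] at h1
  have p1 : (H.subgroupOf K).index ≠ 0 := index_ne_zero_of_finite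
  have p2 : (H.subgroupOf K).index ≠ 1 := fun e => hn (subgroupOf_eq_top.1 (index_eq_one.1 e) hx)
  rw [← h1, mul_comm]
  exact Nat.mul_le_mul_left _ (by omega)

/-- `S ∪ S n` -/
def ext2 (S : Subgroup G) (n : G) (hn : n ∈ normalizer (S : Set G)) (h2 : n * n ∈ S) :
    Subgroup G where
  carrier := {x | x ∈ S ∨ x * n⁻¹ ∈ S}
  one_mem' := Or.inl S.one_mem
  mul_mem' := by
    rintro a b (ha | ha) (hb | hb)
    · exact Or.inl (S.mul_mem ha hb)
    · exact Or.inr (by rw [mul_assoc]; exact S.mul_mem ha hb)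
    · refine Or.inr ?_
      have := S.mul_mem ha ((mem_normalizer_iff.1 hn b).1 hb)
      convert this using 1; group
    · refine Or.inl ?_
      have := S.mul_mem (S.mul_mem ha ((mem_normalizer_iff.1 hn _).1 hb)) h2
      convert this using 1; group
  inv_mem' := by
    rintro a (ha | ha)
    · exact Or.inl (S.inv_mem ha)
    · refine Or.inr ?_
      have := S.mul_mem ((mem_normalizer_iff''.1 hn _).1 (S.inv_mem ha)) (S.inv_mem h2)
      convert this using 1; group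

theorem ext2_idx {S : Subgroup G} {n : G} {hn : n ∈ normalizer (S : Set G)} {h2 : n * n ∈ S}
    {a b : G} (ha : a ∈ ext2 S n hn h2) (hb : b ∈ ext2 S n hn h2) (a1 : a ∉ S) (b1 : b ∉ S) :
    a⁻¹ * b ∈ S := by
  have := (mem_normalizer_iff''.1 hn _).1
    (S.mul_mem (S.inv_mem (ha.resolve_left a1)) (hb.resolve_left b1))
  convert this using 1; group

abbrev MF := M false

/-- the `κ`-orbit modulo `z` -/
def orb (m : MF) : List MF :=
  [m, m * .Z, M.kp m, M.kp m * .Z, M.kp (M.kp m), M.kp (M.kp m) * .Z]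

/-- the action of `f` on `T₁` modulo `z` -/
def psi (ty : Bool) (m : MF) : MF :=
  bif m.a then M.tv (.Ep ty) (m * M.Ap⁻¹) * .Ap else M.tv (.Ep ty) m

/-- `D ⟨q⟩` -/
abbrev sEq (ty : Bool) : Subgroup MF :=
  M.sub (fun m => !m.a && (m.t == (!ty && m.b))) (by cases ty <;> decide +kernel)

/-- `D ⟨a'⟩` -/
abbrev sEa (ty : Bool) : Subgroup MF :=
  M.sub (fun m => !m.q && (m.t == (!ty && (m.b ^^ m.a)))) (by cases ty <;> decide +kernel)

theorem ct_orb (D : D2 G false) {m v : MF} (h : D.ct m) (hm : m ∈ (M.sF : Subgroup MF))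
    (hv : v ∈ orb m) : D.ct v := by
  have m1 := M.kp_mem _ m hm
  have h1 := D.ct_kp h hm
  have h2 := D.ct_kp h1 m1
  simp only [orb, List.mem_cons, List.not_mem_nil, or_false] at hv
  rcases hv with rfl | rfl | rfl | rfl | rfl | rfl
  exacts [h, D.ct_mulz h hm, h1, D.ct_mulz h1 m1, h2, D.ct_mulz h2 (M.kp_mem _ _ m1)]

section kind
variable {D : D2 G false} {ty : Bool} {n f : G} (K : Kind D ty (cj n D.F) f false)
  (hz : n * D.ι .Z = D.ι .Z * n)
include K hz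

theorem fz : f * D.ι .Z = D.ι .Z * f := by
  have := (mem_cj.1 K.fF)
  obtain ⟨m, -, e⟩ := this
  have h : f = n * D.ι m * n⁻¹ := by rw [e]; group
  rw [h]
  calc _ = n * D.ι m * n⁻¹ * (D.ι .Z * n) * n⁻¹ := by group
    _ = n * (D.ι m * D.ι .Z) * n⁻¹ := by rw [← hz]; group
    _ = _ := by rw [D.zc, ← mul_assoc, hz]; group

theorem fD {m : MF} (hm : m ∈ (M.sE ty : Subgroup MF)) :
    f * D.ι m * f⁻¹ = D.ι (m * bp .Z (m.d ^^ (ty && m.b))) := by
  have key : ∀ m : MF, m ∈ (M.sE ty : Subgroup MF) → ∃ i j k l : Bool,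
      m = bp .W i * bp .D j * bp (.Et ty) k * bp .Z l ∧ m * bp .Z (m.d ^^ (ty && m.b)) =
        bp .W i * bp (.D * .Z) j * bp (.Et ty) k * bp .Z l := by cases ty <;> decide +kernel
  have b : ∀ {x y : MF} (c : Bool), f * D.ι x * f⁻¹ = D.ι y → f * D.ι (bp x c) * f⁻¹ = D.ι (bp y c) :=
    fun c h => by
      cases c
      · simp [bp]
      · exact h
  obtain ⟨i, j, k, l, e1, e2⟩ := key m hm
  rw [e2]
  conv_lhs => rw [e1]
  exact D2.cjm (D2.cjm (D2.cjm (b i (D2.cj1 K.fw)) (b j K.fd)) (b k (D2.cj1 K.fe)))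
    (b l (D2.cj1 (fz K hz)))

theorem fpsi (m : MF) : ez D.ι (f * D.ι m * f⁻¹) (psi ty m) := by
  have key : ∀ m : MF, (m.a = false → m ∈ (M.sF : Subgroup MF)) ∧
      (m.a = true → m * M.Ap⁻¹ ∈ (M.sF : Subgroup MF)) := by decide +kernel
  cases h : m.a
  · simpa [psi, h] using K.bar m ((key m).1 h)
  · have := (K.bar _ ((key m).2 h)).cmul (ez.iff_mul.2 (D.cjF_cj hz K.ap K.fF))
    simpa [psi, h] using this

theorem mem1 {m : MF} (hm : m ∈ sEa ty) : D.ι m ∈ cj n D.F := by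
  have key : ∀ m : MF, m ∈ sEa ty → (m ∈ (M.sF : Subgroup MF) ∧ m ∈ (M.sE ty : Subgroup MF)) ∨
      (m * M.Ap⁻¹ ∈ (M.sF : Subgroup MF) ∧ m * M.Ap⁻¹ ∈ (M.sE ty : Subgroup MF)) := by
    cases ty <;> decide +kernel
  rcases key m hm with h | h
  · exact (K.inter m h.1).2 h.2
  · simpa using mul_mem ((K.inter _ h.1).2 h.2) K.ap

theorem eta_cen {x : G} (hx : x ∈ cj n D.F) : x * D.ι (.Et ty) = D.ι (.Et ty) * x := by
  have key : ∀ m : MF, m ∈ (M.sE ty : Subgroup MF) → m * .Et ty = .Et ty * m ∧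
      m * .Ap * .Et ty = .Et ty * (m * .Ap) := by cases ty <;> decide +kernel
  have hf : Commute f (D.ι (.Et ty)) := K.fe
  obtain ⟨m, hm, rfl | rfl | rfl | rfl⟩ := K.cov x hx
  · exact D.comm_iff.2 (key m hm).1
  · exact D.comm_iff.2 (key m hm).2
  · exact Commute.mul_left (D.comm_iff.2 (key m hm).1) hf
  · exact Commute.mul_left (D.comm_iff.2 (key m hm).2) hf

theorem f_not : f ∉ D.T1 := by
  rintro ⟨m, rfl⟩
  have key : ∀ m : MF, ¬ (psi ty .T = m * .T * m⁻¹ ∨ psi ty .T = m * .T * m⁻¹ * .Z) := by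
    cases ty <;> decide +kernel
  exact key m (D.ez_uniq (ez.of_ι m .T) (fpsi K hz .T))

theorem sq_f (m : MF) : ez D.ι (D.ι m * f * (D.ι m * f)) (m * psi ty m) := by
  have h := (ez.rfl' (ι := D.ι) m).mul (fpsi K hz m)
  have e : D.ι m * f * (D.ι m * f) = D.ι m * (f * D.ι m * f⁻¹) * (f * f) := by group
  rcases D.cjF_sq hz K.fF with k | k <;> rw [e, k]
  · rwa [mul_one]
  · exact h.mulz

theorem cj_f (m m' : MF) :
    ez D.ι (D.ι m' * f * D.ι m * (D.ι m' * f)⁻¹) (m' * psi ty m * m'⁻¹) :=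
  ez.comp (D.zc m') (ez.of_ι m' _) (fpsi K hz m)

theorem ct_ge (h : D.ct (.T * .Gm * .Ep ty)) : D.ct (.T * .Gm) :=
  D.ct_conj h ((fpsi K hz _).congr (by cases ty <;> decide +kernel)) (by decide +kernel)

end kind

/-- the non-fusion facts -/
structure NG (D : D2 G false) (ty : Bool) : Prop where
  ng : ¬ D.ct .Gm
  n1 : ¬ D.ct (bif ty then .B * .W else .T * .B)
  n2 : ¬ D.ct ((bif ty then .B * .W else .T * .B) * .Gm)

section main
variable {D : D2 G false} {ty : Bool} (N : NG D ty) (C : Cx2 D) {n f : G} (h1 : n ∈ C.T)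
  (hn : n ∈ normalizer (C.Ts : Set G)) (K : Kind D ty (cj n D.F) f false)
include N h1 hn K

theorem not_o8 : ¬ D.ct (.T * .Gm) := fun h => by
  obtain ⟨ng, n1, n2⟩ := N
  have hz := C.cz h1
  have a1 : D.ct (.T * .Ep ty) := D.ct_conj D.ct_T
    ((fpsi K hz _).congr (by cases ty <;> decide +kernel)) (by cases ty <;> decide +kernel)
  have a2 : D.ct (.T * .Gm * .Ep ty) := D.ct_conj h
    ((fpsi K hz _).congr (by cases ty <;> decide +kernel)) (by cases ty <;> decide +kernel)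
  have key : ∀ m : MF, m ∈ (M.sF : Subgroup MF) → m * m = 1 → m ≠ 1 → m ≠ .Z →
      (∃ v ∈ ([.T, .T * .Ep ty, .T * .Gm, M.kp (.T * .Gm), M.kp (M.kp (.T * .Gm)), .T * .Gm * .Ep ty,
        M.kp (.T * .Gm * .Ep ty), M.kp (M.kp (.T * .Gm * .Ep ty))] : List MF), m = v ∨ m = v * .Z) ∨
      .Gm ∈ orb m ∨ (bif ty then .B * .W else .T * .B) ∈ orb m ∨
        (bif ty then .B * .W else .T * .B) * .Gm ∈ orb m := by cases ty <;> decide +kernel
  have m1 : (.T * .Gm : MF) ∈ (M.sF : Subgroup MF) := by decide +kernel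
  have m2 : (.T * .Gm * .Ep ty : MF) ∈ (M.sF : Subgroup MF) := by cases ty <;> decide +kernel
  obtain ⟨s, hs, e⟩ := C.trans [.T, .T * .Ep ty, .T * .Gm, M.kp (.T * .Gm), M.kp (M.kp (.T * .Gm)),
    .T * .Gm * .Ep ty, M.kp (.T * .Gm * .Ep ty), M.kp (M.kp (.T * .Gm * .Ep ty))]
    (k := 3) rfl (by cases ty <;> decide +kernel)
    (by cases ty <;> decide +kernel) (fun m hm => by
      simp only [List.mem_cons, List.not_mem_nil, or_false] at hm
      rcases hm with rfl | rfl | rfl | rfl | rfl | rfl | rfl | rfl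
      exacts [⟨by decide +kernel, D.ct_T⟩, ⟨by cases ty <;> decide +kernel, a1⟩, ⟨m1, h⟩,
        ⟨M.kp_mem _ _ m1, D.ct_kp h m1⟩,
        ⟨M.kp_mem _ _ (M.kp_mem _ _ m1), D.ct_kp (D.ct_kp h m1) (M.kp_mem _ _ m1)⟩, ⟨m2, a2⟩,
        ⟨M.kp_mem _ _ m2, D.ct_kp a2 m2⟩,
        ⟨M.kp_mem _ _ (M.kp_mem _ _ m2), D.ct_kp (D.ct_kp a2 m2) (M.kp_mem _ _ m2)⟩])
    (fun m hm c => by
      rcases key m hm (D.ct_sq c).1 (D.ct_sq c).2.1 (D.ct_sq c).2.2 with k | k | k | k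
      exacts [k, absurd (ct_orb D c hm k) ng, absurd (ct_orb D c hm k) n1,
        absurd (ct_orb D c hm k) n2]) (m := M.kp (.T * .Gm)) (by simp)
  obtain ⟨m, hm, b⟩ := D.exists_im (C.nF hs) (m := .Et ty) (by cases ty <;> decide +kernel)
  have s1 := C.nF1 hn hs
  have c : ∀ x ∈ cj n D.F, x * D.ι m = D.ι m * x := fun x hx => by
    have := eta_cen K hz ((mem_normalizer_iff''.1 s1 x).1 hx)
    rw [← b]
    calc _ = s * (s⁻¹ * x * s * D.ι (.Et ty)) * s⁻¹ := by group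
      _ = _ := by rw [this]; group
  have m3 := (K.inter m hm).1 (b ▸ (mem_normalizer_iff.1 s1 _).1
    (mem1 K hz (by cases ty <;> decide +kernel)))
  have k2 : ∀ m : MF, m ∈ (M.sE ty : Subgroup MF) → .Ap * m = m * .Ap →
      m = m * bp .Z (m.d ^^ (ty && m.b)) → m * m = .Z → M.kp (.T * .Gm) * m = m * M.kp (.T * .Gm) ∧
        M.kp (.T * .Gm) * .Z * m = m * (M.kp (.T * .Gm) * .Z) := by cases ty <;> decide +kernel
  have k3 := k2 m m3 (D.comm_iff.1 (c _ K.ap)) (D.inj ((D2.cj1 (c _ K.fF)).symm.trans (fD K hz m3)))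
    ((D2.cje (D2.cjm b b) (D2.cj1 (C.cz (C.l2 hs)))).1 (by cases ty <;> decide +kernel))
  have k4 : (.T * .Et ty : MF) ≠ .Et ty * .T := by cases ty <;> decide +kernel
  rcases e with e | e
  exacts [k4 ((D2.cjc e b).2 k3.1), k4 ((D2.cjc e b).2 k3.2)]

theorem o4 {m : MF} (hm : m ∈ (M.sF : Subgroup MF)) (c : D.ct m) :
    ∃ v ∈ ([.T, .T * .Ep ty] : List MF), m = v ∨ m = v * .Z := by
  have h := not_o8 N C h1 hn K
  obtain ⟨ng, n1, n2⟩ := N
  have key : ∀ m : MF, m ∈ (M.sF : Subgroup MF) → m * m = 1 → m ≠ 1 → m ≠ .Z →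
      (∃ v ∈ ([.T, .T * .Ep ty] : List MF), m = v ∨ m = v * .Z) ∨
      .Gm ∈ orb m ∨ (bif ty then .B * .W else .T * .B) ∈ orb m ∨
        (bif ty then .B * .W else .T * .B) * .Gm ∈ orb m ∨ .T * .Gm ∈ orb m ∨
          .T * .Gm * .Ep ty ∈ orb m := by cases ty <;> decide +kernel
  rcases key m hm (D.ct_sq c).1 (D.ct_sq c).2.1 (D.ct_sq c).2.2 with k | k | k | k | k | k
  exacts [k, absurd (ct_orb D c hm k) ng, absurd (ct_orb D c hm k) n1,
    absurd (ct_orb D c hm k) n2, absurd (ct_orb D c hm k) h,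
    absurd (ct_ge K (C.cz h1) (ct_orb D c hm k)) h]

theorem cov {g : G} (hg : g ∈ C.Ts) : g ∈ D.T1 ∨ ∃ m, g = D.ι m * f := by
  have hz := C.cz h1
  have hg' := inv_mem hg
  obtain ⟨m, a, b, c⟩ := D.im_t (C.nF hg')
  obtain ⟨v, hv, e⟩ := o4 N C h1 hn K a b
  have e' : ez D.ι (g⁻¹ * D.ι .T * g⁻¹⁻¹) v := c ▸ D.ez_iff.2 e
  simp only [List.mem_cons, List.not_mem_nil, or_false] at hv
  rcases hv with rfl | rfl
  · exact Or.inl (inv_mem_iff.1 (C.mem_T1 (C.l2 hg') e'))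
  · have fT := C.l2 (C.F1_le hn K.fF)
    have f2 : ez D.ι (f⁻¹ * D.ι .T * f⁻¹⁻¹) (.T * .Ep ty) :=
      ez.cinv (fz K hz) ((fpsi K hz _).congr (by cases ty <;> decide +kernel))
    obtain ⟨m, e⟩ := C.t_eq (C.l2 hg') (inv_mem fT) e' f2
    exact Or.inr ⟨m, by rw [e]; group⟩

theorem idx {a b : G} (ha : a ∈ C.Ts) (hb : b ∈ C.Ts) (a1 : a ∉ D.T1) (b1 : b ∉ D.T1) :
    a⁻¹ * b ∈ D.T1 := by
  have hz := C.cz h1
  obtain ⟨m, e⟩ := (cov N C h1 hn K (inv_mem ha)).resolve_left (mt inv_mem_iff.1 a1)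
  obtain ⟨m', rfl⟩ := (cov N C h1 hn K hb).resolve_left b1
  have h2 : f * f ∈ D.T1 := by
    rcases D.cjF_sq hz K.fF with k | k <;> rw [k]
    exacts [one_mem _, ⟨_, rfl⟩]
  have := mul_mem (mul_mem (⟨m, rfl⟩ : D.ι m ∈ D.T1) (fpsi K hz m').mem) h2
  convert this using 1
  rw [e]; group

theorem cardTs : Nat.card C.Ts ≤ 256 := C.card_Ts' _ (k := 1) (by simp) fun _ => o4 N C h1 hn K

/-- a conjugate of `F` inside `T* ∪ T* n` lies in `T*` -/
theorem le_Ts (h2 : n * n ∈ C.Ts) {g : G} (gz : g * D.ι .Z = D.ι .Z * g)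
    (hl : cj g D.F ≤ ext2 C.Ts n hn h2) : cj g D.F ≤ C.Ts := fun e he => by
  by_contra e1
  have hz := C.cz h1
  have e2 := (hl he).resolve_left e1
  have s1 : cj e D.F = cj n D.F := by
    rw [← inv_mul_cancel_right e n, cj_mul, cj_eq_self (C.nF1 hn e2)]
  have s2 : cj e (cj n D.F) = D.F := by
    conv_lhs => rw [← inv_mul_cancel_right e n, cj_mul, C.swap h2, cj_eq_self (C.nF e2)]
  have mv : ∀ {A B : Subgroup G}, cj e A = B → D.ι .Z ∈ B → ∀ u ∈ cj g D.F, u ∈ A → u ∈ B :=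
    fun s z u hu ha => by
      have := s.le (conj_mem_cj ha)
      rcases D.cjF_cj gz hu he with k | k <;> rw [k] at this
      exacts [this, (mul_mem_cancel_right z).1 this]
  have zF : D.ι .Z ∈ D.F := D.mem_map.2 (by decide +kernel)
  have c1 := le_two_mul (K := cj g D.F) (H := C.Ts) fun a ha b hb => ext2_idx (hl ha) (hl hb)
  have c2 := le_two_mul (K := cj g D.F ⊓ C.Ts) (H := D.T1) fun a ha b hb =>
    idx N C h1 hn K ha.2 hb.2
  have c3 := le_two_mul (K := cj g D.F ⊓ C.Ts ⊓ D.T1) (H := D.F) (by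
    rintro _ ⟨-, a, rfl⟩ _ ⟨-, b, rfl⟩ ha hb
    rw [← map_inv, ← map_mul, D.mem_map] at *
    revert a b; decide +kernel)
  have c4 : 2 * Nat.card (cj g D.F ⊓ C.Ts ⊓ D.T1 ⊓ D.F : Subgroup G) ≤ 16 := by
    have : Nat.card ((M.sE ty).map D.ι) = 16 := by
      rw [D.card_map, M.card_sub]; cases ty <;> decide +kernel
    rw [← this]
    refine two_mul_le ?_ ((D.mem_map (m := .D)).2 (by cases ty <;> decide +kernel)) fun h => ?_
    · rintro _ ⟨h, m, hm, rfl⟩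
      exact D.mem_map.2 ((K.inter m hm).1 (mv s1 (D.z_mem_cjF hz) _ h.1.1 (D.mem_map.2 hm)))
    · obtain ⟨_, ⟨m, hm, rfl⟩, b⟩ := s1.ge K.ap
      have b' : e * D.ι m * e⁻¹ = D.ι .Ap := b
      have k1 : ∀ m : MF, m ∈ (M.sF : Subgroup MF) → .D * m = m * .D := by decide +kernel
      have k2 : (.D * .Ap : MF) ≠ .Ap * .D ∧ (.D * .Z * .Ap : MF) ≠ .Ap * (.D * .Z) := by
        decide +kernel
      rcases ez.iff_mul.2 (D.cjF_cj gz h.1.1.1 he) with k | k
      exacts [k2.1 ((D2.cjc k b').1 (k1 m hm)), k2.2 ((D2.cjc k b').1 (k1 m hm))]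
  have c0 : Nat.card (cj g D.F) = 64 := by rw [card_cj, D.card_F]
  obtain ⟨y, hy, y1⟩ := SetLike.not_le_iff_exists.1 fun h : cj g D.F ⊓ C.Ts ≤ D.T1 => by
    rw [inf_eq_left.2 h] at c3 c4; omega
  obtain ⟨_, ⟨hx, m, rfl⟩, x1⟩ := SetLike.not_le_iff_exists.1
    fun h : cj g D.F ⊓ C.Ts ⊓ D.T1 ≤ D.F => by rw [inf_eq_left.2 h] at c4; omega
  obtain ⟨m', rfl⟩ := (cov N C h1 hn K hy.2).resolve_left y1
  have k : ∀ u : MF, D.ι u * f ∈ cj g D.F → u.a = false := fun u hu => by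
    have key : ∀ u : MF, u ∉ sEa ty → (1 = u * psi ty u ∨ 1 = u * psi ty u * .Z) → u.a = false := by
      cases ty <;> decide +kernel
    refine key u (fun h => f_not K hz ?_) (D.ez_uniq (sq_f K hz u) (by
      rw [ez.iff_mul, map_one, one_mul]; exact D.cjF_sq gz hu))
    exact (mul_mem_cancel_left (⟨u, rfl⟩ : D.ι u ∈ D.T1)).1 (D.map_le _ (mv s2 zF _ hu (mul_mem (mem1 K hz h) K.fF)))
  have k1 := k _ hy.1
  have k2 := k (m * m') (by rw [map_mul, mul_assoc]; exact mul_mem hx.1 hy.1)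
  rw [(M.coords _ m m').2.2.2.2.2, k1, Bool.xor_false] at k2
  exact x1 (D.mem_map.2 (by simp [M.mem_sub, k2]))

/-- the conjugates of `F` inside `T*` -/
theorem two_conj {g : G} (gz : g * D.ι .Z = D.ι .Z * g) (hl : cj g D.F ≤ C.Ts) :
    cj g D.F = D.F ∨ cj g D.F = cj n D.F := by
  have hz := C.cz h1
  by_cases h : cj g D.F ≤ D.T1
  · exact Or.inl (D.uniq gz h)
  right
  obtain ⟨y, hy, y1⟩ := SetLike.not_le_iff_exists.1 h
  obtain ⟨m', rfl⟩ := (cov N C h1 hn K (hl hy)).resolve_left y1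
  have sq : ∀ u : MF, D.ι u * f ∈ cj g D.F → 1 = u * psi ty u ∨ 1 = u * psi ty u * .Z :=
    fun u hu => D.ez_uniq (sq_f K hz u) (by
      rw [ez.iff_mul, map_one, one_mul]; exact D.cjF_sq gz hu)
  have cm : ∀ u m : MF, D.ι u * f ∈ cj g D.F → D.ι m ∈ cj g D.F →
      m = u * psi ty m * u⁻¹ ∨ m = u * psi ty m * u⁻¹ * .Z := fun u m hu hm =>
    D.ez_uniq (cj_f K hz m u) (ez.iff_mul.2 (D.cjF_cj gz hm hu))
  have c0 : Nat.card (cj g D.F) = 64 := by rw [card_cj, D.card_F]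
  have c1 := le_two_mul (K := cj g D.F) (H := D.T1) fun a ha b hb =>
    idx N C h1 hn K (hl ha) (hl hb)
  rw [← D.card_comap inf_le_right] at c1
  have hP : ∀ m, m ∈ (cj g D.F ⊓ D.T1).comap D.ι ↔ D.ι m ∈ cj g D.F := fun m =>
    ⟨fun h => h.1, fun h => ⟨h, m, rfl⟩⟩
  generalize (cj g D.F ⊓ D.T1).comap D.ι = P at c1 hP
  have key : ∀ u : MF, (1 = u * psi ty u ∨ 1 = u * psi ty u * .Z) → ∀ m : MF,
      (m * m = 1 ∨ m * m = .Z) → (m = u * psi ty m * u⁻¹ ∨ m = u * psi ty m * u⁻¹ * .Z) →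
        m ∈ sEq ty ∨ m ∈ sEa ty := by cases ty <;> decide +kernel
  have un : ∀ m ∈ P, m ∈ sEq ty ∨ m ∈ sEa ty := fun m hm => key m' (sq _ hy) m (by
    simpa only [← map_mul, ← map_one D.ι, D.inj.eq_iff] using D.cjF_sq gz ((hP m).1 hm))
      (cm _ _ hy ((hP m).1 hm))
  by_cases hq : P ≤ sEq ty
  · exfalso
    have e : P = sEq ty := eq_of_le_of_card_ge hq (by
      rw [M.card_sub, show cntN _ 128 = 32 by cases ty <;> decide +kernel]; omega)
    have mq : ∀ m ∈ sEq ty, D.ι m ∈ cj g D.F := fun m hm => (hP m).1 (e.ge hm)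
    have k1 : ∀ u : MF, (1 = u * psi ty u ∨ 1 = u * psi ty u * .Z) →
        (.Q = u * psi ty .Q * u⁻¹ ∨ .Q = u * psi ty .Q * u⁻¹ * .Z) → u ∈ sEq ty := by
      cases ty <;> decide +kernel
    have fm : f ∈ cj g D.F := (mul_mem_cancel_left
      (mq _ (k1 m' (sq _ hy) (cm _ _ hy (mq _ (by cases ty <;> decide +kernel)))))).1 hy
    have dm : g * D.ι .D * g⁻¹ ∈ cj g D.F := conj_mem_cj (D.mem_map.2 (by decide +kernel))
    have d2 : g * D.ι .D * g⁻¹ * (g * D.ι .D * g⁻¹) = D.ι .Z := by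
      rw [← D2.cj1 gz, show (.Z : MF) = .D * .D by decide +kernel, map_mul]; group
    have dc : ∀ x ∈ cj g D.F, x * (g * D.ι .D * g⁻¹) = g * D.ι .D * g⁻¹ * x := by
      rintro _ ⟨_, ⟨m, hm, rfl⟩, rfl⟩
      have k : ∀ m : MF, m ∈ (M.sF : Subgroup MF) → m * .D = .D * m := by decide +kernel
      change g * D.ι m * g⁻¹ * _ = _ * (g * D.ι m * g⁻¹)
      calc _ = g * (D.ι m * D.ι .D) * g⁻¹ := by group
        _ = _ := by rw [D.comm_iff.2 (k m hm)]; group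
    generalize g * D.ι .D * g⁻¹ = d at dm d2 dc
    rcases cov N C h1 hn K (hl dm) with ⟨u, rfl⟩ | ⟨u, rfl⟩
    · have k2 : ∀ u : MF, u ∈ sEq ty → .W * u = u * .W → u ∈ (M.sE ty : Subgroup MF) := by
        cases ty <;> decide +kernel
      have k3 : ∀ u : MF, u ∈ (M.sE ty : Subgroup MF) → .Q * u = u * .Q →
          u = u * bp .Z (u.d ^^ (ty && u.b)) → u * u ≠ .Z := by cases ty <;> decide +kernel
      have u1 := k2 u (hq ((hP u).2 dm))
        (D.comm_iff.1 (dc _ (mq _ (by cases ty <;> decide +kernel))))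
      exact k3 u u1 (D.comm_iff.1 (dc _ (mq _ (by cases ty <;> decide +kernel))))
        (D.inj ((D2.cj1 (dc _ fm)).symm.trans (fD K hz u1))) (D.inj (by rw [map_mul, d2]))
    · have k2 : ∀ u : MF, u ∈ sEq ty → u * (.D * .Z) * u⁻¹ ≠ .D := by cases ty <;> decide +kernel
      refine k2 u (hq ((hP u).2 ((mul_mem_cancel_right fm).1 dm))) (D.inj ?_)
      rw [map_mul, map_mul, map_inv, ← K.fd, ← D2.cj1 (dc _ (mq .D (by cases ty <;> decide +kernel))).symm]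
      conv_lhs => rw [D2.cj1 (dc _ (mq .D (by cases ty <;> decide +kernel))).symm]
      group
  · obtain ⟨x, hx, x1⟩ := SetLike.not_le_iff_exists.1 hq
    have xa := (un x hx).resolve_left x1
    have ha : P ≤ sEa ty := fun m hm => by_contra fun m1 => by
      rcases un _ (P.mul_mem hx hm) with k | k
      · exact x1 ((mul_mem_cancel_right ((un m hm).resolve_right m1)).1 k)
      · exact m1 ((mul_mem_cancel_left xa).1 k)
    have e : P = sEa ty := eq_of_le_of_card_ge ha (by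
      rw [M.card_sub, show cntN _ 128 = 32 by cases ty <;> decide +kernel]; omega)
    have k1 : ∀ u : MF, (1 = u * psi ty u ∨ 1 = u * psi ty u * .Z) →
        (.Ap = u * psi ty .Ap * u⁻¹ ∨ .Ap = u * psi ty .Ap * u⁻¹ * .Z) → u ∈ sEa ty := by
      cases ty <;> decide +kernel
    refine eq_of_le_of_card_ge (fun v hv => ?_) (by rw [card_cj, card_cj])
    rcases cov N C h1 hn K (hl hv) with ⟨u, rfl⟩ | ⟨u, rfl⟩
    · exact mem1 K hz (ha ((hP u).2 hv))
    · exact mul_mem (mem1 K hz (k1 u (sq u hv) (cm _ _ hv ((hP _).1 (e.ge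
        (by cases ty <;> decide +kernel)))))) K.fF

end main

theorem ee : EeS.{u} := fun G _ _ Y n f h1 hn h2 K => by
  have N : NG Y.D Y.X.ty := ⟨Y.X.ng, Y.X.n1, Y.X.n2⟩
  have hl : ext2 Y.C.Ts n hn h2 ≤ Y.C.T := by
    rintro x (h | h)
    · exact Y.C.l2 h
    · simpa using mul_mem (Y.C.l2 h) h1
  rw [← eq_of_norm Y.C.pT hl fun m hm hN => ?_]
  · have c1 := le_two_mul (K := ext2 Y.C.Ts n hn h2) (H := Y.C.Ts) fun a ha b hb => ext2_idx ha hb
    have c2 := card_le_of_le (inf_le_right : ext2 Y.C.Ts n hn h2 ⊓ Y.C.Ts ≤ _)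
    have c3 := cardTs N Y.C h1 hn K
    omega
  · have hz := Y.C.cz hm
    rcases two_conj N Y.C h1 hn K hz (le_Ts N Y.C h1 hn K h2 hz
      (cj_le_of_norm (fun x hx => Or.inl (Y.C.F_le hx)) hN)) with e | e
    · exact Or.inl (Y.C.mem_Ts hm (cj_eq_self_iff.1 e))
    · have := (mem_normalizer_iff.1 hn _).1 (Y.C.mem_Ts (mul_mem (inv_mem h1) hm)
        (cj_eq_self_iff.1 (by rw [cj_mul, e, cj_inv_cj])))
      exact Or.inr (by simpa [mul_assoc] using this)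

end Cfsg.Agent.H5.L3E
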