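import Cfsg.Agent.H48.M2Defs

/-! The second case: two involutions with different lines. -/

set_option autoImplicit false

namespace Cfsg.Agent.H48.M2

open Cfsg Subgroup Cfsg.Agent.H48 Cfsg.Agent.H48.Rec Cfsg.Agent.H49 Cfsg.Agent.H95.Par
open Cfsg.Agent.H97.Gr (DD ZZ)
open Cfsg.Agent.H97.Yt (M)

namespace BF1

theorem ln_of {R V : Subgroup M} {w w' x : M} (h : Bs R V w w') (hx : x ∈ V) (hq : x ∈ Qz w)
    (hn : x ∉ TT w w') : Ln w w' x :=
  ⟨⟨hq, mem_centralizer_singleton_iff.2 (h.vs.el.cm hx h.m2.mem)⟩, hn, h.vs.el x hx⟩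

theorem el_of {U N : Subgroup M} (h : Sng U) (hN : N ≤ U) : El N := fun x hx => by
  by_cases h1 : x = 1
  · rw [h1, mul_one]
  · exact ZZ_sq (h x (hN hx) h1).1

theorem nW {R V : Subgroup M} {w w' y : M} (h : Bs R V w w') (hy : y ∈ V) :
    R ≤ NN (WW w w' y) := fun _ hr =>
  n_WW h.bp.z1 (h.vs.cm hr h.m1.mem) (h.vs.cm hr h.m2.mem) (h.vs.cm hr hy)

theorem mem_Q (b5 : B5Stmt) {R V : Subgroup M} {w w' y a u : M} (h : Bs R V w w') (hy : y ∈ V)
    (l : Ln w w' y) (ha : a ∈ V) (hT : a ∈ TT w' w) (hu : u ∈ WW w w' y) (h1 : u ≠ 1) :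
    a ∈ Qz u :=
  (b5 w w' y h.bp l a hT.2).2 u hu h1 (by
    rw [h.vs.el.cm ha hy, mul_inv_cancel_right, mul_inv_cancel]
    exact one_mem _)

end BF1

open BF1

theorem bf1_of (bu : BuStmt) (bw : BwStmt) (b5 : B5Stmt) (bi : BiStmt) (idx : IdxStmt) :
    Bf1Stmt := by
  intro R V w w' h y hy l
  obtain ⟨-, -, -, -, hA, hS, -⟩ := bu w w' h.bp
  obtain ⟨c4, w2, w3⟩ := bw w w' y h.bp l
  have hW : WW w w' y ≤ U0 w w' := inf_le_left
  obtain ⟨y', hy', l'⟩ : ∃ y' ∈ V, Ln w' w y' := by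
    by_contra hc
    push Not at hc
    obtain ⟨u, hu, huV, h1⟩ := h.vs.fp _ (el_of hS hW)
      (fun e => by rw [e, card_bot] at c4; exact absurd c4 (by decide)) (nW h hy)
    refine ((bi R V w' w h.symm).2 u (U0_comm w w' ▸ hW hu) huV h1).1 fun a ha => ?_
    exact mem_Q b5 h hy l ha.1 (by_contra fun hn => hc a ha.1 (ln_of h.symm ha.1 ha.2 hn)) hu h1
  by_contra hc
  push Not at hc
  have e := hc y hy y' hy' l l'
  obtain ⟨N, hN, -, c⟩ := idx _ (WW w w' y) h.bp.t1.ark (hW.trans hA)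
    (fun u hu h1 => ⟨(hS u (hW hu) h1).1, hW.trans (hS u (hW hu) h1).2⟩) y
    fun u hu h1 => (w2 u (hW hu) h1).1 hu
  have hRN : ∀ r ∈ R, ∀ x ∈ N, r * x * r⁻¹ ∈ N := fun r hr x hx => by
    obtain ⟨h1, h2⟩ := (hN x).1 hx
    refine (hN _).2 ⟨(mem_normalizer_iff.1 (nW h hy hr) x).1 h1, ?_⟩
    by_cases h3 : x = 1
    · exact .inl (by rw [h3, mul_one, mul_inv_cancel])
    · refine .inr ?_
      rw [Qz_cj (hS x (hW h1) h3).1, mem_cj, mul_assoc, ← h.vs.cm hr hy, inv_mul_cancel_left]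
      exact h2.resolve_left h3
  obtain ⟨u, hu, huV, h1⟩ := h.vs.fp N (el_of hS fun x hx => hW ((hN x).1 hx).1)
    (fun e => by rw [e, card_bot, c4] at c; exact absurd c (by decide))
    fun r hr => mem_normalizer_iff.2 fun x => ⟨hRN r hr x, fun hx => by
      simpa [mul_assoc] using hRN _ (inv_mem hr) _ hx⟩
  obtain ⟨h2, h3⟩ := (hN u).1 hu
  refine ((bi R V w w' h).2 u (hW h2) huV h1).1 fun a ha => ?_
  have key : ∀ a ∈ V, a ∈ TT w w' → a ∈ Qz u := fun a ha hT =>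
    mem_Q b5 h.symm hy' l' ha hT (e ▸ h2) h1
  by_cases hT : a ∈ TT w w'
  · exact key a ha.1 hT
  have la := ln_of h ha.1 ha.2 hT
  exact (mul_mem_cancel_left (h3.resolve_left h1)).1 (key _ (mul_mem hy ha.1)
    ((w3 a la (h.vs.el.cm hy ha.1)).1 (e.trans (hc a ha.1 y' hy' la l').symm)))

end Cfsg.Agent.H48.M2
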