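import Mathlib
import Cfsg.Agent.H36.QuadRoot

set_option autoImplicit false
set_option linter.unusedSectionVars false

/-! Regular nilpotent endomorphisms (one Jordan block), their flag and the induced filtration of
the endomorphism ring; a Heisenberg triple around a regular unipotent element is quadratic. -/

namespace Cfsg.Agent.H5.NE

open Polynomial Module Cfsg.Agent.H36

variable {k : Type*} [Field k] {W : Type*} [AddCommGroup W] [Module k W]

/-- `x` is nilpotent with a single Jordan block of size `d`. -/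
structure RN (x : W →ₗ[k] W) (d : ℕ) : Prop where
  cyc : ∃ w₀, ∀ w, ∃ q : k[X], aeval x q w₀ = w
  nil : x ^ d = 0
  ne : ∀ j < d, x ^ j ≠ 0

/-- The flag of `x`. -/
def Wf (x : W →ₗ[k] W) (j : ℤ) : Submodule k W := LinearMap.range (x ^ j.toNat)

/-- Endomorphisms shifting the flag of `x` by `m`. -/
def Fil (x : W →ₗ[k] W) (m : ℤ) : Submodule k (W →ₗ[k] W) where
  carrier := {Y | ∀ j, ∀ w ∈ Wf x j, Y w ∈ Wf x (j + m)}
  zero_mem' := fun _ _ _ => Submodule.zero_mem _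
  add_mem' := fun ha hb j w hw => Submodule.add_mem _ (ha j w hw) (hb j w hw)
  smul_mem' := fun c _ ha j w hw => Submodule.smul_mem _ c (ha j w hw)

variable {x : W →ₗ[k] W} {d : ℕ}

theorem mem_Wf {j : ℕ} {w : W} : w ∈ Wf x j ↔ ∃ v, (x ^ j) v = w := by
  simp [Wf]

theorem Wf_anti {i j : ℤ} (h : i ≤ j) : Wf x j ≤ Wf x i := by
  rintro _ ⟨v, rfl⟩
  obtain ⟨c, hc⟩ := Nat.exists_eq_add_of_le (Int.toNat_le_toNat h)
  exact ⟨(x ^ c) v, by rw [hc, pow_add, Module.End.mul_apply]⟩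

theorem mem_Wf_nonpos {j : ℤ} (h : j ≤ 0) (w : W) : w ∈ Wf x j :=
  ⟨w, by rw [Int.toNat_of_nonpos h]; rfl⟩

theorem Fil.apply {m j : ℤ} {Y : W →ₗ[k] W} (h : Y ∈ Fil x m) {w : W} (hw : w ∈ Wf x j) {l : ℤ}
    (hl : l ≤ j + m) : Y w ∈ Wf x l := Wf_anti hl (h j w hw)

theorem Fil.apply' {m : ℤ} {Y : W →ₗ[k] W} (h : Y ∈ Fil x m) (w : W) : Y w ∈ Wf x m :=
  Fil.apply h (mem_Wf_nonpos le_rfl w) (by omega)

theorem mem_Fil_of {m : ℤ} {Y : W →ₗ[k] W} (h : ∀ j : ℕ, ∀ w ∈ Wf x j, Y w ∈ Wf x (j + m)) :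
    Y ∈ Fil x m := fun j w hw => by
  rcases le_total j 0 with hj | hj
  · exact Wf_anti (by omega) (h 0 w (mem_Wf_nonpos (by simp) w))
  · lift j to ℕ using hj
    exact h j w hw

theorem Fil_anti {a b : ℤ} (h : a ≤ b) : Fil x b ≤ Fil x a := fun _ hY j _ hw =>
  Fil.apply hY hw (by omega)

theorem Fil.mul {a b : ℤ} {Y Z : W →ₗ[k] W} (hY : Y ∈ Fil x a) (hZ : Z ∈ Fil x b) :
    Y * Z ∈ Fil x (a + b) := fun j w hw => Fil.apply hY (hZ j w hw) (by omega)

theorem Fil.mul' {a b c : ℤ} {Y Z : W →ₗ[k] W} (hY : Y ∈ Fil x a) (hZ : Z ∈ Fil x b)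
    (h : c ≤ a + b) : Y * Z ∈ Fil x c := Fil_anti h (Fil.mul hY hZ)

theorem one_mem_Fil : (1 : W →ₗ[k] W) ∈ Fil x 0 := fun j w hw => by simpa using hw

theorem self_mem_Fil : x ∈ Fil x 1 := mem_Fil_of fun j w hw => by
  obtain ⟨v, rfl⟩ := mem_Wf.1 hw
  exact (mem_Wf (j := j + 1)).2 ⟨v, by rw [pow_succ', Module.End.mul_apply]⟩

theorem Fil.pow {a : ℤ} {Y : W →ₗ[k] W} (hY : Y ∈ Fil x a) (n : ℕ) : Y ^ n ∈ Fil x (n * a) := by
  induction n with
  | zero => simpa using one_mem_Fil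
  | succ n ih => rw [pow_succ]; exact Fil.mul' ih hY (by push_cast; linarith)

theorem pow_mem_Fil (n : ℕ) : x ^ n ∈ Fil x n := by simpa using Fil.pow self_mem_Fil n

theorem Fil.aeval {Y : W →ₗ[k] W} (hY : Y ∈ Fil x 0) (q : k[X]) : aeval Y q ∈ Fil x 0 := by
  induction q using Polynomial.induction_on' with
  | add p q hp hq => rw [map_add]; exact add_mem hp hq
  | monomial n a =>
    rw [aeval_monomial, ← Algebra.smul_def]
    exact Submodule.smul_mem _ a (by simpa using Fil.pow hY n)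

theorem aeval_mem_Fil (q : k[X]) : aeval x q ∈ Fil x 0 :=
  Fil.aeval (Fil_anti (by omega) self_mem_Fil) q

theorem Fil.of_sub_one {g : W →ₗ[k] W} {m : ℤ} (hm : 0 ≤ m) (h : g - 1 ∈ Fil x m) : g ∈ Fil x 0 := by
  simpa using add_mem (Fil_anti hm h) (one_mem_Fil (x := x))

theorem commute_aeval (x : W →ₗ[k] W) (p q : k[X]) : Commute (aeval x p) (aeval x q) := by
  rw [Commute, SemiconjBy, ← map_mul, ← map_mul, mul_comm]

theorem commute_pow_aeval (x : W →ₗ[k] W) (n : ℕ) (q : k[X]) : Commute (x ^ n) (aeval x q) := by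
  simpa using commute_aeval x (X ^ n) q

/-- `z = x ^ ν * unit`. -/
def Val (x : W →ₗ[k] W) (ν : ℕ) (z : W →ₗ[k] W) : Prop :=
  ∃ h : k[X], h.coeff 0 ≠ 0 ∧ z = x ^ ν * aeval x h

theorem Val.pow {ν : ℕ} {z : W →ₗ[k] W} (h : Val x ν z) (m : ℕ) : Val x (ν * m) (z ^ m) := by
  obtain ⟨h, h0, rfl⟩ := h
  refine ⟨h ^ m, by rw [coeff_zero_eq_eval_zero, eval_pow, ← coeff_zero_eq_eval_zero]; exact pow_ne_zero _ h0, ?_⟩
  rw [(commute_pow_aeval x ν h).mul_pow, ← pow_mul, map_pow]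

theorem Val.mem_Fil {ν : ℕ} {z : W →ₗ[k] W} (h : Val x ν z) : z ∈ Fil x ν := by
  obtain ⟨h, -, rfl⟩ := h
  exact Fil.mul' (pow_mem_Fil ν) (aeval_mem_Fil h) (by omega)

theorem val_self : Val x 1 x := ⟨1, by simp, by simp⟩

theorem inv_app (g : (W →ₗ[k] W)ˣ) (w : W) : (g⁻¹).val (g.val w) = w := by
  rw [← Module.End.mul_apply, Units.inv_mul]; rfl

theorem app_inv (g : (W →ₗ[k] W)ˣ) (w : W) : g.val ((g⁻¹).val w) = w := inv_app g⁻¹ w

theorem aeval_conj (g : (W →ₗ[k] W)ˣ) (q : k[X]) :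
    g.val * aeval x q * (g⁻¹).val = aeval (g.val * x * (g⁻¹).val) q := by
  induction q using Polynomial.induction_on' with
  | add p q hp hq => rw [map_add, map_add, mul_add, add_mul, hp, hq]
  | monomial n a =>
    rw [aeval_monomial, aeval_monomial, ← Algebra.smul_def, ← Algebra.smul_def, mul_smul_comm,
      smul_mul_assoc, Units.conj_pow]

namespace RN

variable (h : RN x d)
include h

theorem eq_zero {j : ℤ} (hj : d ≤ j) {w : W} (hw : w ∈ Wf x j) : w = 0 := by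
  obtain ⟨v, rfl⟩ := mem_Wf.1 (Wf_anti hj hw)
  rw [h.nil]; rfl

theorem mem_Fil_low {m : ℤ} (hm : m ≤ 1 - d) (Y : W →ₗ[k] W) : Y ∈ Fil x m := fun j w hw => by
  by_cases hj : (d : ℤ) ≤ j
  · rw [h.eq_zero hj hw, map_zero]; exact Submodule.zero_mem _
  · exact mem_Wf_nonpos (by omega) _

theorem eq_zero_of_Fil {m : ℤ} (hm : d ≤ m) {Y : W →ₗ[k] W} (hY : Y ∈ Fil x m) : Y = 0 :=
  LinearMap.ext fun w => h.eq_zero hm (Fil.apply' hY w)

theorem isUnit_aeval {q : k[X]} (hq : q.coeff 0 ≠ 0) : IsUnit (aeval x q) := by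
  rw [← X_mul_divX_add q, map_add, map_mul, aeval_X, aeval_C]
  refine IsNilpotent.isUnit_add_right_of_commute ?_ ((IsUnit.mk0 _ hq).map _)
    (Algebra.commutes _ _).symm
  exact ⟨d, by rw [(by simpa using commute_pow_aeval x 1 q.divX : Commute x _).mul_pow, h.nil, zero_mul]⟩

theorem exists_poly {z : W →ₗ[k] W} (hz : x * z = z * x) : ∃ q : k[X], z = aeval x q := by
  obtain ⟨w₀, hw⟩ := h.cyc
  obtain ⟨q, hq⟩ := hw (z w₀)
  refine ⟨q, LinearMap.ext fun w => ?_⟩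
  obtain ⟨r, rfl⟩ := hw w
  have hc : Commute z (aeval x r) := by
    induction r using Polynomial.induction_on' with
    | add p q hp hq => rw [map_add]; exact hp.add_right hq
    | monomial n a =>
      rw [aeval_monomial, ← Algebra.smul_def]
      exact (Commute.pow_right hz.symm n).smul_right a
  rw [← Module.End.mul_apply, hc.eq, Module.End.mul_apply, ← hq, ← Module.End.mul_apply,
    ← Module.End.mul_apply, commute_aeval]

theorem val_poly (q : k[X]) (h0 : aeval x q ≠ 0) : ∃ ν < d, Val x ν (aeval x q) := by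
  have hq : q ≠ 0 := by rintro rfl; exact h0 (map_zero _)
  obtain ⟨r, hr, hr'⟩ := exists_eq_pow_rootMultiplicity_mul_and_not_dvd q hq 0
  rw [C_0, sub_zero] at hr hr'
  have e : aeval x q = x ^ rootMultiplicity 0 q * aeval x r := by
    conv_lhs => rw [hr, map_mul, map_pow, aeval_X]
  refine ⟨_, lt_of_not_ge fun hd => h0 ?_, r, fun e => hr' (X_dvd_iff.2 e), e⟩
  rw [e, pow_eq_zero_of_le hd h.nil, zero_mul]

theorem exists_val {z : W →ₗ[k] W} (hz : x * z = z * x) (h0 : z ≠ 0) : ∃ ν < d, Val x ν z := by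
  obtain ⟨q, rfl⟩ := h.exists_poly hz
  exact h.val_poly q h0

theorem range_val {ν : ℕ} {z : W →ₗ[k] W} (hz : Val x ν z) : LinearMap.range z = Wf x ν := by
  obtain ⟨q, hq, rfl⟩ := hz
  obtain ⟨u, hu⟩ := h.isUnit_aeval hq
  ext w
  rw [mem_Wf]
  refine ⟨fun ⟨v, hv⟩ => ⟨_, hv⟩, fun ⟨v, hv⟩ => ⟨(u⁻¹).val v, ?_⟩⟩
  rw [← hu, ← Module.End.mul_apply, mul_assoc, Units.mul_inv, mul_one, hv]

theorem val_eq_zero_iff {ν : ℕ} {z : W →ₗ[k] W} (hz : Val x ν z) : z = 0 ↔ d ≤ ν := by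
  obtain ⟨q, hq, rfl⟩ := hz
  rw [(h.isUnit_aeval hq).mul_left_eq_zero]
  exact ⟨fun e => le_of_not_gt fun hd => h.ne _ hd e, fun hd => pow_eq_zero_of_le hd h.nil⟩

theorem exists_not_mem {j : ℕ} (hj : j < d) : ∃ w, (x ^ j) w ∉ Wf x (j + 1) := by
  obtain ⟨w₀, hw⟩ := h.cyc
  refine ⟨w₀, fun hm => h.ne j hj ?_⟩
  obtain ⟨v, hv⟩ := (mem_Wf (j := j + 1)).1 hm
  obtain ⟨q, rfl⟩ := hw v
  have hu := h.isUnit_aeval (q := 1 - X * q) (by simp)
  have e : (x ^ j * aeval x (1 - X * q)) w₀ = 0 := by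
    rw [map_sub, map_one, map_mul, aeval_X, mul_sub, mul_one, ← mul_assoc, ← pow_succ,
      LinearMap.sub_apply, Module.End.mul_apply, hv, sub_self]
  rw [← hu.mul_left_eq_zero]
  refine LinearMap.ext fun w => ?_
  obtain ⟨r, rfl⟩ := hw w
  have hc : Commute (x ^ j * aeval x (1 - X * q)) (aeval x r) :=
    (commute_pow_aeval x j r).mul_left (commute_aeval x _ r)
  rw [← Module.End.mul_apply, hc.eq, Module.End.mul_apply, e, map_zero, LinearMap.zero_apply]

theorem not_le {i j : ℕ} (hi : i < d) (hij : i < j) : ¬ Wf x i ≤ Wf x j := fun e => by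
  obtain ⟨w, hw⟩ := h.exists_not_mem hi
  exact hw (Wf_anti (by omega) (e (mem_Wf.2 ⟨w, rfl⟩)))

theorem mem_of_pow_eq_zero {ν : ℕ} {w : W} (hw : (x ^ ν) w = 0) : w ∈ Wf x (d - ν) := by
  obtain ⟨w₀, hw₀⟩ := h.cyc
  obtain ⟨q, rfl⟩ := hw₀ w
  by_cases h0 : aeval x q = 0
  · rw [h0]; exact Submodule.zero_mem _
  obtain ⟨μ, -, hv⟩ := h.val_poly q h0
  have hv' : Val x (ν + μ) (x ^ ν * aeval x q) := by
    obtain ⟨r, hr, e⟩ := hv
    exact ⟨r, hr, by rw [e, pow_add, mul_assoc]⟩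
  have : d ≤ ν + μ := (h.val_eq_zero_iff hv').1 (LinearMap.ext fun v => by
    obtain ⟨r, rfl⟩ := hw₀ v
    have hc : Commute (x ^ ν * aeval x q) (aeval x r) :=
      (commute_pow_aeval x ν r).mul_left (commute_aeval x _ r)
    rw [← Module.End.mul_apply, hc.eq, Module.End.mul_apply, Module.End.mul_apply, hw, map_zero,
      LinearMap.zero_apply])
  exact Wf_anti (by omega) (Fil.apply' hv.mem_Fil w₀)

theorem mem_ker_val {ν : ℕ} {z : W →ₗ[k] W} (hz : Val x ν z) {w : W} :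
    z w = 0 ↔ w ∈ Wf x (d - ν) := by
  refine ⟨fun e => h.mem_of_pow_eq_zero ?_, fun e => h.eq_zero le_rfl (Fil.apply hz.mem_Fil e (by omega))⟩
  obtain ⟨q, hq, rfl⟩ := hz
  obtain ⟨u, hu⟩ := h.isUnit_aeval hq
  rw [(commute_pow_aeval x ν q).eq, ← hu, Module.End.mul_apply] at e
  simpa [inv_app] using congrArg (u⁻¹).val e

theorem mem_of_apply_mem {j : ℕ} (hj : j < d) {w : W} (hw : x w ∈ Wf x (j + 1)) : w ∈ Wf x j := by
  obtain ⟨v, hv⟩ := (mem_Wf (j := j + 1)).1 hw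
  have := h.mem_of_pow_eq_zero (ν := 1) (w := w - (x ^ j) v) (by
    rw [pow_one, map_sub, ← hv, pow_succ', Module.End.mul_apply, sub_self])
  simpa using add_mem (Wf_anti (by omega : (j : ℤ) ≤ d - (1 : ℕ)) this) (mem_Wf.2 ⟨v, rfl⟩)

theorem val_unique [FiniteDimensional k W] {ν μ : ℕ} {z z' : W →ₗ[k] W} (hz : Val x ν z)
    (hz' : Val x μ z') (hν : ν < d) (hμ : μ < d) (e : rk z = rk z') : ν = μ := by
  rw [rk, rk, h.range_val hz, h.range_val hz'] at e
  rcases lt_trichotomy ν μ with hl | hl | hl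
  · exact (h.not_le hν hl (Submodule.eq_of_le_of_finrank_eq (Wf_anti (by omega)) e.symm).ge).elim
  · exact hl
  · exact (h.not_le hμ hl (Submodule.eq_of_le_of_finrank_eq (Wf_anti (by omega)) e).ge).elim

/-- An element whose conjugate of `1 + x` still shifts the flag preserves the flag. -/
theorem mem_Fil_of_conj {g : (W →ₗ[k] W)ˣ} (hg : g.val * x * (g⁻¹).val ∈ Fil x 1) :
    g.val ∈ Fil x 0 := mem_Fil_of fun j => by
  induction j with
  | zero => exact fun w _ => mem_Wf_nonpos (by simp) _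
  | succ j ih =>
    intro w hw
    obtain ⟨v, rfl⟩ := mem_Wf.1 hw
    have := Fil.apply hg (ih _ (mem_Wf.2 ⟨v, rfl⟩)) (l := ((j + 1 : ℕ) : ℤ) + 0) (by omega)
    rw [pow_succ', Module.End.mul_apply]
    simpa [inv_app] using this

/-- Heisenberg triple: `u s u⁻¹ = s t` with `t` central and `s = 1 + x` forces `t` quadratic. -/
theorem heis (hd : ∀ n : ℕ, 0 < n → n < d → (n : k) ≠ 0) {y : W →ₗ[k] W} {u : (W →ₗ[k] W)ˣ}
    (hy : y ∈ Fil x 1) (h1 : x * y = y * x) (h2 : u.val * y * (u⁻¹).val = y)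
    (h3 : u.val * x * (u⁻¹).val = x + (1 + x) * y) : y * y = 0 := by
  by_cases h0 : y = 0
  · rw [h0, mul_zero]
  obtain ⟨κ, hκ, hv⟩ := h.exists_val h1 h0
  have hκ0 : κ ≠ 0 := by
    rintro rfl
    refine h.not_le hκ one_pos ?_
    rw [← h.range_val hv]
    rintro _ ⟨w, rfl⟩
    exact Fil.apply' hy w
  obtain ⟨κ, rfl⟩ := Nat.exists_eq_succ_of_ne_zero hκ0
  obtain ⟨q, hq, e⟩ := hv
  set g : k[X] := X ^ (κ + 1) * q with hg
  have ey : y = aeval x g := by rw [e, hg, map_mul, map_pow, aeval_X]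
  set D : k[X] := (1 + X) * g with hD
  obtain ⟨c, hc⟩ := (g.map C).binomExpansion X D
  have ev : ∀ r s : k[X], (r.map C).eval s = r.comp s := fun r s => by rw [eval_map]; rfl
  rw [derivative_map, ev, ev, ev, comp_X, comp_X] at hc
  have e1 : aeval x (g.comp (X + D)) = aeval x g := by
    have : aeval x D = (1 + x) * y := by rw [hD, map_mul, map_add, map_one, aeval_X, ← ey]
    rw [aeval_comp, map_add, aeval_X, this, ← h3, ← aeval_conj, ← ey, h2]
  set Q : k[X] := (C ((κ + 1 : ℕ) : k) * q + X * derivative q) * (1 + X) * q +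
    X * (c * (1 + X) ^ 2 * q ^ 2) with hQ
  have e2 : g.comp (X + D) - g = X ^ (2 * κ + 1) * Q := by
    rw [hc, hD, hg, hQ, derivative_mul, derivative_X_pow]
    simp only [Nat.add_sub_cancel]
    ring
  have hQ0 : Q.coeff 0 ≠ 0 := by
    simp only [hQ, coeff_zero_eq_eval_zero, eval_add, eval_mul, eval_C, eval_X, eval_one] at hq ⊢
    simpa [hq] using hd (κ + 1) (by omega) hκ
  have e3 : d ≤ 2 * κ + 1 := (h.val_eq_zero_iff ⟨Q, hQ0, rfl⟩).1 (by
    have := congrArg (aeval x) e2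
    rw [map_sub, e1, sub_self, map_mul, map_pow, aeval_X] at this
    exact this.symm)
  rw [← sq]
  exact (h.val_eq_zero_iff (Val.pow ⟨q, hq, e⟩ 2)).2 (by omega)

end RN

/-- A flag with one-dimensional steps moved faithfully by `x` is the flag of `x`. -/
theorem rn_of_flag (U : ℕ → Submodule k W) (h0 : U 0 = ⊤) (hd : U d = ⊥)
    (hx : ∀ j, ∀ w ∈ U j, x w ∈ U (j + 1))
    (hg : ∀ j, ∀ w ∈ U j, w ∉ U (j + 1) → ∀ v ∈ U j, ∃ c : k, v - c • w ∈ U (j + 1))
    (hu : ∀ j, j + 2 ≤ d → ∀ w ∈ U j, x w ∈ U (j + 2) → w ∈ U (j + 1)) (hne : 0 < d → U 1 ≠ ⊤) :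
    RN x d ∧ ∀ j ≤ d, U j = Wf x j := by
  have hp : ∀ j w, (x ^ j) w ∈ U j := fun j w => by
    induction j with
    | zero => rw [h0]; trivial
    | succ j ih => rw [pow_succ', Module.End.mul_apply]; exact hx j _ ih
  obtain ⟨w₀, hw₀⟩ : ∃ w₀, 0 < d → w₀ ∉ U 1 := by
    by_cases hd0 : 0 < d
    · by_contra hc
      push Not at hc
      exact hne hd0 (eq_top_iff.2 fun w _ => (hc w).2)
    · exact ⟨0, fun e => (hd0 e).elim⟩
  have hn : ∀ j < d, (x ^ j) w₀ ∉ U (j + 1) := fun j hj => by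
    induction j with
    | zero => exact hw₀ hj
    | succ j ih =>
      rw [pow_succ', Module.End.mul_apply]
      exact fun e => ih (by omega) (hu j hj _ (hp j w₀) e)
  have key : ∀ n j, j + n = d → ∀ v ∈ U j, ∃ q : k[X], (x ^ j) (aeval x q w₀) = v := fun n => by
    induction n with
    | zero =>
      intro j hj v hv
      rw [show j = d from hj, hd] at hv
      exact ⟨0, by simp [(Submodule.mem_bot k).1 hv]⟩
    | succ n ih =>
      intro j hj v hv
      obtain ⟨c, hc⟩ := hg j _ (hp j w₀) (hn j (by omega)) v hv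
      obtain ⟨q, hq⟩ := ih (j + 1) (by omega) _ hc
      refine ⟨C c + X * q, ?_⟩
      rw [map_add, map_mul, aeval_C, aeval_X, LinearMap.add_apply, map_add, Module.algebraMap_end_apply,
        map_smul, Module.End.mul_apply, ← Module.End.mul_apply (x ^ j) x, ← pow_succ, hq, add_sub_cancel]
  refine ⟨⟨⟨w₀, fun w => by simpa using key d 0 (zero_add d) w (by rw [h0]; trivial)⟩,
    LinearMap.ext fun w => by simpa [hd] using hp d w,
    fun j hj e => hn j hj (by rw [e]; exact Submodule.zero_mem _)⟩, fun j hj => ?_⟩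
  ext v
  rw [mem_Wf]
  refine ⟨fun hv => ?_, by rintro ⟨w, rfl⟩; exact hp j w⟩
  obtain ⟨q, hq⟩ := key (d - j) j (by omega) v hv
  exact ⟨_, hq⟩

end Cfsg.Agent.H5.NE
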