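import Mathlib
import Cfsg.Agent.H5.NE1
import Cfsg.Agent.H8.SylowIn

set_option autoImplicit false
set_option linter.unusedSectionVars false

/-! Quadratic elements in linear groups whose Sylow subgroup contains a regular unipotent element:
with a strongly embedded subgroup commuting minimal quadratic elements lie in one root group, and
then there is no quadratic element at all. -/

namespace Cfsg.Agent.H5.NE

open Polynomial Module Cfsg.Agent.H36 Cfsg.Agent.H8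
open scoped Pointwise

variable {p : ℕ} [hp : Fact p.Prime] {W : Type*} [AddCommGroup W] [Module (ZMod p) W] [Finite W]
  {G T M : Subgroup (W →ₗ[ZMod p] W)ˣ}

instance : Finite (W →ₗ[ZMod p] W) := Finite.of_injective _ DFunLike.coe_injective

theorem good (h5 : 5 ≤ p) : GoodField (ZMod p) :=
  goodField (by rw [ZMod.ringChar_zmod_n]; omega) (by rw [Nat.card_zmod]; omega)

theorem val_pow_quad {u : (W →ₗ[ZMod p] W)ˣ} (h : (u.val - 1) * (u.val - 1) = 0) (n : ℕ) :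
    (u ^ n).val = 1 + (n : ZMod p) • (u.val - 1) := by
  induction n with
  | zero => simp
  | succ n ih =>
    have e : u.val = 1 + (u.val - 1) := by abel
    rw [pow_succ, Units.val_mul, ih]
    generalize u.val - 1 = y at h e
    simp only [e, add_mul, mul_add, smul_mul_assoc, h, one_mul, mul_one, smul_zero, Nat.cast_succ,
      add_smul, one_smul]
    abel

theorem qt_of_quad {u : (W →ₗ[ZMod p] W)ˣ} (hu : u ∈ G) (h : (u.val - 1) * (u.val - 1) = 0) :
    QT (ZMod p) G (u.val - 1) :=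
  ⟨h, fun c => ⟨u ^ c.val, pow_mem hu _, by rw [val_pow_quad h, ZMod.natCast_zmod_val]⟩⟩

theorem un_pow {a : W →ₗ[ZMod p] W} (h : a * a = 0) : un a h ^ p = 1 := Units.ext (by
  rw [val_pow_quad (by rw [val_un_sub]; exact h)]; simp)

theorem conj_un_eq {a : W →ₗ[ZMod p] W} (h : a * a = 0) (g : (W →ₗ[ZMod p] W)ˣ)
    (h' : (g.val * a * (g⁻¹).val) * (g.val * a * (g⁻¹).val) = 0) : un _ h' = g * un a h * g⁻¹ :=
  Units.ext (by simp [val_un, mul_add, add_mul])

theorem pow_eq_one_of_nil {g : (W →ₗ[ZMod p] W)ˣ} {n : ℕ} (h : (g.val - 1) ^ n = 0) :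
    g ^ p ^ n = 1 := by
  rcases subsingleton_or_nontrivial (W →ₗ[ZMod p] W) with hs | hs
  · exact Units.ext (Subsingleton.elim _ _)
  have : CharP (W →ₗ[ZMod p] W) p := charP_of_injective_algebraMap (algebraMap (ZMod p) _).injective p
  refine Units.ext ?_
  have := sub_pow_char_pow_of_commute p n (Commute.one_right g.val)
  rw [pow_eq_zero_of_le (Nat.lt_pow_self hp.out.one_lt).le h, one_pow, eq_comm, sub_eq_zero] at this
  simpa using this

theorem isPGroup_oneAdd {N : Submodule (ZMod p) (W →ₗ[ZMod p] W)} (h : NilAlg N) :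
    IsPGroup p (oneAdd N h) := fun g => by
  obtain ⟨n, hn⟩ := h.nil
  refine ⟨n, Subtype.ext (pow_eq_one_of_nil ?_)⟩
  simpa [hn] using Submodule.pow_mem_pow N g.2 n

/-- Commuting minimal quadratic elements lie in one root group. -/
def U0 (G : Subgroup (W →ₗ[ZMod p] W)ˣ) : Prop :=
  ∀ a c, QD G a → QD G c → a * c = c * a → c ∈ aSp G a

theorem comm_z {A : Type*} [Ring A] {a c : A} (h : a * a = 0) (h1 : a * c * a = 0) :
    a * (a * c - c * a) = (a * c - c * a) * a := by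
  rw [mul_sub, sub_mul, ← mul_assoc, ← mul_assoc, h, h1, mul_assoc c, h]; simp

theorem comm_z' {A : Type*} [Ring A] {a c : A} (h : c * c = 0) (h1 : c * a * c = 0) :
    c * (a * c - c * a) = (a * c - c * a) * c := by
  rw [mul_sub, sub_mul, ← mul_assoc, ← mul_assoc, h, h1, mul_assoc a, h]; simp

theorem U0.nil (h5 : 5 ≤ p) (h : U0 G) {a c : W →ₗ[ZMod p] W} (ha : QD G a) (hc : QD G c)
    (h1 : a * c * a = 0) : c ∈ aSp G a := by
  by_cases h0 : a * c - c * a = 0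
  · exact h a c ha hc (sub_eq_zero.1 h0)
  have h2 := ha.nil_symm (good h5) hc h1
  have hz := ha.comm hc.qt h1 h2 h0
  rw [← ha.aSp_eq (h _ _ ha hz (comm_z ha.qt.sq h1)) h0,
    hc.aSp_eq (h _ _ hc hz (comm_z' hc.qt.sq h2)) h0]
  exact hc.qt.mem_aSp

/-- `M` is strongly embedded in `G`. -/
structure SE (G M : Subgroup (W →ₗ[ZMod p] W)ˣ) : Prop where
  ex : ∃ g ∈ G, g ∉ M
  pt : ∀ u ∈ G, u ^ p = 1 → ∃ g ∈ G, g * u * g⁻¹ ∈ M
  mem : ∀ g ∈ G, ∀ u ∈ M, u ≠ 1 → u ^ p = 1 → g * u * g⁻¹ ∈ M → g ∈ M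

namespace SE

variable (h : SE G M)
include h

theorem conj {c : (W →ₗ[ZMod p] W)ˣ} (hc : c ∈ G) : SE G (MulAut.conj c • M) where
  ex := by
    obtain ⟨g, hg, hg'⟩ := h.ex
    exact ⟨_, mul_mem (mul_mem hc hg) (inv_mem hc), fun e => hg' (conj_mem_conj_smul.1 e)⟩
  pt u hu hu1 := by
    obtain ⟨g, hg, hg'⟩ := h.pt u hu hu1
    exact ⟨_, mul_mem hc hg, by simpa [mul_assoc] using (conj_mem_conj_smul (g := c)).2 hg'⟩
  mem g hg u hu hu1 hu2 e := by
    rw [mem_conj_smul] at hu e ⊢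
    refine h.mem _ (mul_mem (mul_mem (inv_mem hc) hg) hc) _ hu (fun e' => hu1 (by
      rwa [mul_assoc, inv_mul_eq_one, right_eq_mul] at e')) ?_
      (by simpa [mul_assoc] using e)
    rw [← inv_inv c, inv_inv c⁻¹, conj_pow, hu2]; simp

theorem of_comm {a b : W →ₗ[ZMod p] W} (ha : QD G a) (hb : QT (ZMod p) G b) (e : a * b = b * a)
    (hM : un a ha.qt.sq ∈ M) : un b hb.sq ∈ M :=
  h.mem _ hb.un_mem _ hM ha.un_ne (un_pow _) (by
    rwa [← (un_comm_iff _ _).2 (sub_eq_zero.2 e), mul_inv_cancel_right])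

theorem of_nil (h5 : 5 ≤ p) {a b : W →ₗ[ZMod p] W} (ha : QD G a) (hb : QD G b) (h1 : a * b * a = 0)
    (hM : un a ha.qt.sq ∈ M) : un b hb.qt.sq ∈ M := by
  by_cases h0 : a * b - b * a = 0
  · exact h.of_comm ha hb.qt (sub_eq_zero.1 h0) hM
  have h2 := ha.nil_symm (good h5) hb h1
  have hz := ha.comm hb.qt h1 h2 h0
  exact h.of_comm hz hb.qt (comm_z' hb.qt.sq h2).symm (h.of_comm ha hz.qt (comm_z ha.qt.sq h1) hM)

theorem exists_mem {a : W →ₗ[ZMod p] W} (ha : QD G a) : ∃ M', SE G M' ∧ un a ha.qt.sq ∈ M' := by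
  obtain ⟨g, hg, hg'⟩ := h.pt _ ha.qt.un_mem (un_pow _)
  exact ⟨_, h.conj (inv_mem hg), by rw [mem_conj_smul]; simpa using hg'⟩

theorem ne_of_conj (h5 : 5 ≤ p) {a z : W →ₗ[ZMod p] W} (ha : QD G a) (hz : QD G z)
    (hM : un a ha.qt.sq ∈ M) (hM' : un z hz.qt.sq ∈ M) {g : (W →ₗ[ZMod p] W)ˣ} (hg : g ∈ G)
    (hg' : g ∉ M) : z * (g.val * a * (g⁻¹).val) * z ≠ 0 := fun e =>
  hg' (h.mem g hg _ hM ha.un_ne (un_pow _) (by
    rw [← conj_un_eq _ _ (ha.conj hg).qt.sq]; exact h.of_nil h5 hz (ha.conj hg) e hM'))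

theorem opp (h5 : 5 ≤ p) (a : W →ₗ[ZMod p] W) (ha : QD G a) : ∃ b, QD G b ∧ a * b * a ≠ 0 := by
  obtain ⟨M', h', hM⟩ := h.exists_mem ha
  obtain ⟨g, hg, hg'⟩ := h'.ex
  exact ⟨_, ha.conj hg, h'.ne_of_conj h5 ha ha hM hM hg hg'⟩

theorem u0 (h5 : 5 ≤ p) : U0 G := fun a c ha hc e => by
  have hk := good h5
  obtain ⟨M', h', hM⟩ := h.exists_mem ha
  clear h
  obtain ⟨g, hg, hg'⟩ := h'.ex
  have hb' := ha.conj hg
  obtain ⟨b, hbb, h1, h2⟩ := ha.exists_match hk hb' (h'.ne_of_conj h5 ha ha hM hM hg hg')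
  have hb0 : b ≠ 0 := by rintro rfl; exact ha.ne (by simpa using h1.symm)
  have hb := hb'.of_mem hbb hb0
  have h3 : b * c * b ≠ 0 := fun e' => hc.opp_mem hk hb' (h'.ne_of_conj h5 ha hc hM
    (h'.of_comm ha hc.qt e hM) hg hg') hc.qt.mem_aSp hbb hc.ne hb0 (hb.nil_symm hk hc e')
  obtain ⟨y, hyc, h4, -⟩ := hb.exists_match hk hc h3
  have hy0 : y ≠ 0 := by rintro rfl; exact hb0 (by simpa using h4.symm)
  have hy := hc.of_mem hyc hy0
  have hcm : un a ha.qt.sq * un y hy.qt.sq = un y hy.qt.sq * un a ha.qt.sq :=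
    ha.com hk hc (sub_eq_zero.2 e) _ ha.un_mem _ (un_mem_EG hyc)
  have hay : a * y = y * a := sub_eq_zero.1 ((un_comm_iff _ _).1 hcm)
  by_contra hne
  set g₀ := un a ha.qt.sq * (un y hy.qt.sq)⁻¹ with hg₀
  have hG₀ : g₀ ∈ G := mul_mem ha.qt.un_mem (inv_mem hy.qt.un_mem)
  have hM₀ : g₀ ∈ M' := mul_mem hM (inv_mem (h'.of_comm ha hy.qt hay hM))
  have h01 : g₀ ≠ 1 := fun e' => hne (by
    have : a = y := add_left_cancel (congrArg Units.val (mul_inv_eq_one.1 e'))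
    rw [this]; exact hc.mem_symm hyc hy0)
  have h0p : g₀ ^ p = 1 := by
    rw [hg₀, (Commute.inv_right hcm).mul_pow, inv_pow, un_pow, un_pow, inv_one, mul_one]
  have h'' := h'.conj hg
  have hbM : un b hb.qt.sq ∈ MulAut.conj g • M' :=
    h''.of_comm hb' hb.qt (by rw [aSp_mul hb'.qt.mem_aSp hbb, aSp_mul hbb hb'.qt.mem_aSp])
      (by rw [conj_un_eq ha.qt.sq]; exact conj_mem_conj_smul.2 hM)
  have hb₁ := hb.conj hG₀
  obtain ⟨t, ht, h5', -⟩ := hb.exists_match hk hb₁ (h''.ne_of_conj h5 hb hb hbM hbM hG₀ fun e' =>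
    hg' (inv_mem_iff.1 (h'.mem _ (inv_mem hg) _ hM₀ h01 h0p (by simpa [mem_conj_smul] using e'))))
  have ht0 : t ≠ 0 := by rintro rfl; exact hb0 (by simpa using h5'.symm)
  have r1 : rk b ≤ rk (b * t) := by simpa [h5'] using rk_mul_le_left (b * t) b
  have r2 := rk_mul_add b t
  have r3 := rk_mul_add b (g₀.val * b * (g₀⁻¹).val)
  rw [hb₁.range_eq (aSp_qt ht) ht0 ht.2.1, (hb₁.of_mem ht ht0).rk_eq hb] at r2
  rw [hb₁.rk_eq hb] at r3
  have e1 : b * (g₀.val * b * (g₀⁻¹).val) = (-b) * ((a * y) * (b * (g₀⁻¹).val)) := by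
    have : b * g₀.val * b = -(b * (a * y) * b) := by
      rw [hg₀, Units.val_mul, val_un, val_inv_un]
      simp only [add_mul, mul_add, sub_mul, mul_sub, one_mul, mul_one, hb.qt.sq, h2, h4]
      abel
    rw [← mul_assoc, ← mul_assoc, this]; simp [mul_assoc]
  have r4 : rk a ≤ rk (a * y) := by
    have := (rk_mul_le_right (-b) ((a * y) * (b * (g₀⁻¹).val))).trans (rk_mul_le_left _ _)
    rw [← e1] at this
    rw [ha.rk_eq hb]; omega
  have r5 : LinearMap.range (a * y) = LinearMap.range a :=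
    Submodule.eq_of_le_of_finrank_le (range_mul_le _ _) r4
  have r6 : y * a = 0 := mul_eq_zero_of_range_le hy.qt.sq (by rw [← r5, hay]; exact range_mul_le _ _)
  rw [hay, r6, eq_comm, LinearMap.range_zero, LinearMap.range_eq_bot] at r5
  exact ha.ne r5

end SE

theorem comm_congr {i s : (W →ₗ[ZMod p] W)ˣ} {L L' : Submodule (ZMod p) W} {ε : ZMod p}
    (hε : ε * ε = 1) (hi : i⁻¹ = i) (h1 : ∀ m ∈ L', i.val m - ε • m ∈ L) (h2 : ∀ m ∈ L, i.val m ∈ L)
    (h3 : ∀ m ∈ L, s.val m ∈ L) (h4 : ∀ m ∈ L', (s⁻¹).val m ∈ L') {m : W} (hm : m ∈ L') :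
    ((i * s * i⁻¹ * s⁻¹).val - 1) m ∈ L := by
  have := add_mem (h2 _ (h3 _ (h1 _ (h4 m hm)))) (L.smul_mem ε (h1 m hm))
  convert this using 1
  simp only [hi, Units.val_mul, LinearMap.sub_apply, Module.End.mul_apply, Module.End.one_apply,
    map_sub, map_smul, app_inv, smul_sub, smul_smul, hε, one_smul]
  abel

variable {x : W →ₗ[ZMod p] W} {d : ℕ}

theorem exists_qd_comm (h5 : 5 ≤ p) (hT : IsSylowIn p T G) (h : RN x d) {s : (W →ₗ[ZMod p] W)ˣ}
    (hs : s ∈ T) (hsx : s.val = 1 + x) (hF : ∀ g ∈ T, g.val - 1 ∈ Fil x 1) (hU : U0 G)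
    {t : (W →ₗ[ZMod p] W)ˣ} (ht : t ∈ G) (ht1 : t ≠ 1) (ht2 : (t.val - 1) * (t.val - 1) = 0) :
    ∃ a, QD G a ∧ x * a = a * x := by
  classical
  have hex : ∃ n, ∃ a, QT (ZMod p) G a ∧ a ≠ 0 ∧ rk a = n :=
    ⟨_, _, qt_of_quad ht ht2, fun e => ht1 (Units.ext (sub_eq_zero.1 e)), rfl⟩
  obtain ⟨a₀, q0, n0, r0⟩ := Nat.find_spec hex
  have h0 : QD G a₀ := ⟨q0, n0, fun c hc hc0 => r0 ▸ Nat.find_min' hex ⟨c, hc, hc0, rfl⟩⟩
  obtain ⟨g, hg, hg'⟩ := hT.exists_conj_le (Q := Subgroup.zpowers (un a₀ q0.sq))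
    (IsPGroup.iff_card.2 ⟨1, by rw [Nat.card_zpowers, pow_one, orderOf_eq_prime (un_pow _) h0.un_ne]⟩)
    (Subgroup.zpowers_le.2 q0.un_mem)
  have ha := h0.conj hg
  have haT : un _ ha.qt.sq ∈ T := by
    rw [conj_un_eq q0.sq]; exact hg' (conj_mem_conj_smul.2 (Subgroup.mem_zpowers _))
  generalize g.val * a₀ * (g⁻¹).val = a at ha haT
  have haF : a ∈ Fil x 1 := by simpa [val_un] using hF _ haT
  have hs0 := Fil.of_sub_one (by omega) (hF _ hs)
  have hs1 := Fil.of_sub_one (by omega) (hF _ (inv_mem hs))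
  have hc := ha.conj (hT.le hs)
  have hcF : s.val * a * (s⁻¹).val ∈ Fil x 1 := Fil.mul' (Fil.mul hs0 haF) hs1 (by omega)
  have hca := hU.nil h5 ha hc (QD.nil_lemma (good h5).two d _ _ ha hc (h.eq_zero_of_Fil (by omega)
    (Fil.pow (add_mem (Fil.mul haF hcF) (Fil.mul hcF haF)) (d + 1))))
  have key : ∀ n : ℕ, ∀ y ∈ aSp G a, y ≠ 0 → y ∈ Fil x (d - n) →
      ∃ a', QD G a' ∧ x * a' = a' * x := fun n => by
    induction n with
    | zero => exact fun y _ h1 h2 => (h1 (h.eq_zero_of_Fil (by simp) h2)).elim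
    | succ n ih =>
      intro y hy h1 h2
      by_cases e : s.val * y * (s⁻¹).val - y = 0
      · refine ⟨y, ha.of_mem hy h1, ?_⟩
        have : s.val * y = y * s.val := by
          rw [← sub_eq_zero.1 e, Units.inv_mul_cancel_right, sub_eq_zero.1 e]
        simpa [hsx, add_mul, mul_add] using this
      · refine ih _ (sub_mem (ha.aSp_eq hca hc.ne ▸ conj_mem_aSp hy (hT.le hs)) hy) e ?_
        have e' : s.val * y * (s⁻¹).val - y = (s.val - 1) * y * (s⁻¹).val + y * ((s⁻¹).val - 1) := by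
          noncomm_ring
        rw [e']
        exact add_mem (Fil.mul' (Fil.mul (hF _ hs) h2) hs1 (by push_cast; omega))
          (Fil.mul' h2 (hF _ (inv_mem hs)) (by push_cast; omega))
  exact key (2 * d) a ha.qt.mem_aSp ha.ne (Fil_anti (by push_cast; omega) haF)

/-- No quadratic element: the main lemma. -/
theorem quad_false (h5 : 5 ≤ p) (hT : IsSylowIn p T G) (h : RN x d) (hd : 3 ≤ d)
    {s : (W →ₗ[ZMod p] W)ˣ} (hs : s ∈ T) (hsx : s.val = 1 + x) (hF : ∀ g ∈ T, g.val - 1 ∈ Fil x 1)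
    (hBL : ∀ g ∈ T, ∃ m : ZMod p, ∀ j : ℕ, j + 3 ≤ d → ∀ w ∈ Wf x j,
      (g.val - 1) w - m • x w ∈ Wf x (j + 2))
    (hU : U0 G) (hO : ∀ a, QD G a → ∃ b, QD G b ∧ a * b * a ≠ 0) (hN : ∀ g ∈ G, g.val ≠ -1)
    {t : (W →ₗ[ZMod p] W)ˣ} (ht : t ∈ G) (ht1 : t ≠ 1) (ht2 : (t.val - 1) * (t.val - 1) = 0) :
    False := by
  have hk := good h5
  obtain ⟨a, ha, hxa⟩ := exists_qd_comm h5 hT h hs hsx hF hU ht ht1 ht2
  obtain ⟨κ, hκ, hv⟩ := h.exists_val hxa ha.ne
  have hκ2 : d ≤ κ * 2 := (h.val_eq_zero_iff (hv.pow 2)).1 (by rw [sq, ha.qt.sq])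
  obtain ⟨b', hb', hab⟩ := hO a ha
  obtain ⟨b, hbb, h1, h2⟩ := ha.exists_match hk hb' hab
  have hb0 : b ≠ 0 := by rintro rfl; exact ha.ne (by simpa using h1.symm)
  have hb := hb'.of_mem hbb hb0
  have hR := h.range_val hv
  have haF := hv.mem_Fil
  obtain ⟨r, hr⟩ : ∃ r : ℕ, d = κ + r := ⟨d - κ, by omega⟩
  have hK : ∀ w, a w = 0 ↔ w ∈ Wf x r := fun w => by
    rw [h.mem_ker_val hv, show (d : ℤ) - κ = r by omega]
  by_cases hr1 : r = 1
  · subst hr1
    obtain ⟨w₁, hw₁⟩ : ∃ w, b w ≠ 0 := by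
      by_contra hc
      push Not at hc
      exact hb0 (LinearMap.ext hc)
    set u := b w₁ with hu
    have hau : b (a u) = u := by rw [hu, ← Module.End.mul_apply, ← Module.End.mul_apply, h2]
    have hu1 : u ∉ Wf x 1 := fun e => hw₁ (by rw [← hau, (hK u).2 e, map_zero])
    have hsp : ∀ w, ∃ c : ZMod p, b w = c • u := fun w => by
      have hrk : rk b ≤ 1 := by
        rw [hb.rk_eq ha, rk, hR]
        obtain ⟨w₀, hw₀⟩ := h.cyc
        refine finrank_le_one ⟨(x ^ κ) w₀, mem_Wf.2 ⟨_, rfl⟩⟩ fun ⟨v, hv⟩ => ?_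
        obtain ⟨v, rfl⟩ := mem_Wf.1 hv
        obtain ⟨q, rfl⟩ := hw₀ v
        refine ⟨q.coeff 0, Subtype.ext ?_⟩
        change q.coeff 0 • (x ^ κ) w₀ = (x ^ κ) (aeval x q w₀)
        conv_rhs => rw [← X_mul_divX_add q, map_add, map_mul, aeval_X, aeval_C]
        simp only [LinearMap.add_apply, map_add, Module.algebraMap_end_apply, map_smul,
          Module.End.mul_apply]
        rw [← Module.End.mul_apply (x ^ κ) x, ← pow_succ, ← hr, h.nil, LinearMap.zero_apply, zero_add]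
      obtain ⟨c, hc⟩ := (finrank_eq_one_iff_of_nonzero' (⟨u, w₁, rfl⟩ : LinearMap.range b)
        (fun e => hw₁ (congrArg Subtype.val e))).1 (le_antisymm hrk (Submodule.one_le_finrank_iff.2
          (by rwa [ne_eq, LinearMap.range_eq_bot]))) ⟨b w, w, rfl⟩
      exact ⟨c, (congrArg Subtype.val hc).symm⟩
    obtain ⟨c, hc⟩ := hsp (x u)
    have hl := ha.qt.smul (-c)
    set g := s * un _ hl.sq with hg
    have hG : g ∈ G := mul_mem (hT.le hs) hl.un_mem
    have hgu : g.val u = u + x u + (-c) • a u := by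
      have : x (a u) = 0 := h.eq_zero le_rfl (Fil.apply self_mem_Fil (Fil.apply' haF u) (by omega))
      simp only [hg, Units.val_mul, val_un, hsx, Module.End.mul_apply, LinearMap.add_apply,
        Module.End.one_apply, LinearMap.smul_apply, map_add, map_smul, this, add_zero]
    have hbu : b u = 0 := by rw [hu, ← Module.End.mul_apply, hb.qt.sq, LinearMap.zero_apply]
    have hbg : b * (g.val * b * (g⁻¹).val) = 0 := LinearMap.ext fun w => by
      obtain ⟨c', hc'⟩ := hsp ((g⁻¹).val w)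
      simp [Module.End.mul_apply, hc', hgu, hbu, hc, hau]
    obtain ⟨w, hw⟩ := (hU.nil h5 hb (hb.conj hG) (by rw [hbg, zero_mul])).2.1 ⟨g.val w₁, rfl⟩
    obtain ⟨c', hc'⟩ := hsp w
    rw [hc', Module.End.mul_apply, Module.End.mul_apply, inv_app, ← hu, hgu] at hw
    have m1 : (-c) • a u ∈ Wf x 2 := Submodule.smul_mem _ _ (Wf_anti (by omega) (Fil.apply' haF u))
    have e1 : c' = 1 := by
      by_contra e
      refine hu1 ((Submodule.smul_mem_iff _ (sub_ne_zero.2 e)).1 ?_)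
      rw [sub_smul, hw, one_smul, add_assoc, add_sub_cancel_left]
      exact add_mem (Fil.apply' self_mem_Fil u) (Wf_anti (by omega) m1)
    rw [e1, one_smul, add_assoc, left_eq_add, add_eq_zero_iff_eq_neg] at hw
    exact hu1 (h.mem_of_apply_mem (j := 1) (by omega) (hw ▸ neg_mem m1))
  have hss := ha.qt.sq
  have htt := hb.qt.sq
  set e := a * b + b * a with he
  have es : e * a = a := by rw [he, z_mul_left hss, h1]
  have se : a * e = a := by rw [he, mul_z_left hss, h1]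
  have et : e * b = b := by rw [he, add_comm, z_mul_left htt, h2]
  have te : b * e = b := by rw [he, add_comm, mul_z_left htt, h2]
  have ee : e * e = e := by
    conv_lhs => rw [he, mul_add, ← mul_assoc, ← mul_assoc, ← he, es, et]
  set n := un a hss * (un b htt)⁻¹ * un a hss with hn
  have hnG : n ∈ G := mul_mem (mul_mem ha.qt.un_mem (inv_mem hb.qt.un_mem)) ha.qt.un_mem
  have hn1 : n.val = 1 - e + (a - b) := by
    simp only [hn, Units.val_mul, val_un, val_inv_un, add_mul, mul_add, sub_mul, mul_sub, one_mul,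
      mul_one, hss, h1, he]
    abel
  have hi : (n * n).val = 1 - (2 : ZMod p) • e := by
    rw [Units.val_mul, hn1]
    simp only [add_mul, mul_add, sub_mul, mul_sub, one_mul, mul_one, hss, htt, es, se, et, te, ee,
      two_smul]
    rw [he]; abel
  have hiG := mul_mem hnG hnG
  generalize n * n = i at hi hiG
  have hii : i⁻¹ = i := inv_eq_of_mul_eq_one_right (Units.ext (by
    rw [Units.val_mul, hi]
    simp only [sub_mul, mul_sub, one_mul, mul_one, ee, two_smul, add_mul, mul_add, Units.val_one]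
    abel))
  have iw : ∀ w, i.val w = w - (2 : ZMod p) • e w := fun w => by rw [hi]; rfl
  have i1 : ∀ w, i.val w - (-1 : ZMod p) • w ∈ Wf x r := fun w => (hK _).1 (by
    rw [iw, map_sub, map_sub, map_smul, map_smul, ← Module.End.mul_apply a e, se]; module)
  have i2 : ∀ w ∈ Wf x r, i.val w - (1 : ZMod p) • w ∈ Wf x κ := fun w hw => by
    rw [iw, he, LinearMap.add_apply, Module.End.mul_apply b, (hK w).2 hw, map_zero, add_zero, one_smul,
      sub_sub_cancel_left]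
    exact neg_mem (Submodule.smul_mem _ _ (Fil.apply' haF _))
  have i3 : ∀ w ∈ Wf x κ, i.val w = -w := fun w hw => by
    obtain ⟨v, rfl⟩ := hR.ge hw
    rw [iw, ← Module.End.mul_apply e, es]; module
  by_cases hrκ : r = κ
  · refine hN i hiG (LinearMap.ext fun w => ?_)
    have h3 := i3 _ (hrκ ▸ i1 w)
    have h4 : i.val (i.val w) = w := by simpa [hii] using app_inv i w
    rw [map_sub, map_smul, h4] at h3
    refine smul_right_injective W hk.two ?_
    simp only [LinearMap.neg_apply, Module.End.one_apply]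
    linear_combination (norm := module) h3
  have hst : ∀ g ∈ T, ∀ j, ∀ w ∈ Wf x j, g.val w ∈ Wf x j := fun g hg j w hw =>
    Fil.apply (Fil.of_sub_one (by omega) (hF g hg)) hw (by omega)
  have iK : ∀ m ∈ Wf x r, i.val m ∈ Wf x r := fun m hm => by
    simpa using add_mem (i1 m) (neg_mem hm)
  have iR : ∀ m ∈ Wf x κ, i.val m ∈ Wf x κ := fun m hm => i3 m hm ▸ neg_mem hm
  let O := G ⊓ oneAdd _ (nilAlg_flagAlg (Wf x κ) (Wf x r))
  have hOT : O ≤ T := hT.le_of_le_normalizer ((isPGroup_oneAdd _).to_inf_right) inf_le_left fun g hg =>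
    Subgroup.mem_normalizer_fintype fun o ho => Subgroup.mem_inf.2 ⟨mul_mem (mul_mem (hT.le hg) ho.1) (inv_mem (hT.le hg)), by
      have e : (g * o * g⁻¹).val - 1 = g.val * (o.val - 1) * (g⁻¹).val := by simp [mul_sub, sub_mul]
      rw [mem_oneAdd, e]
      refine ⟨fun m => hst g hg _ _ (ho.2.1 _), fun m hm => hst g hg _ _ (ho.2.2.1 _ (hst _ (inv_mem hg) _ _ hm)),
        fun m hm => ?_⟩
      rw [Module.End.mul_apply, Module.End.mul_apply, ho.2.2.2 _ (hst _ (inv_mem hg) _ _ hm), map_zero]⟩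
  have hs' : i * s * i⁻¹ ∈ T := by
    have : i * s * i⁻¹ * s⁻¹ ∈ O := Subgroup.mem_inf.2 ⟨mul_mem (mul_mem (mul_mem hiG (hT.le hs)) (inv_mem hiG))
      (inv_mem (hT.le hs)), fun m => comm_congr (L' := ⊤) (by simp) hii (fun m _ => i1 m) iK (hst s hs _)
        (fun _ _ => trivial) trivial,
      fun m hm => comm_congr (by simp) hii i2 iR (hst s hs _) (hst _ (inv_mem hs) _) hm,
      fun m hm => comm_congr (L := ⊥) (ε := -1) (by simp) hii (fun m hm => by simp [i3 m hm])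
        (by simp) (by simp) (hst _ (inv_mem hs) _) hm⟩
    simpa using mul_mem (hOT this) hs
  have e1 : (i * s * i⁻¹).val - 1 = i.val * x * (i⁻¹).val := by simp [hsx, mul_add, add_mul]
  have iF := h.mem_Fil_of_conj (e1 ▸ hF _ hs')
  obtain ⟨m, hm⟩ := hBL _ hs'
  rw [e1, hii] at hm
  simp only [Module.End.mul_apply] at hm
  have e2 : ∀ w, i.val (x (i.val w)) = i.val (x (i.val w - (-1 : ZMod p) • w)) - i.val (x w) :=
    fun w => by simp
  have e3 : ∀ w, i.val (x (i.val w - (-1 : ZMod p) • w)) ∈ Wf x (r + 1) := fun w =>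
    Fil.apply iF (Fil.apply self_mem_Fil (i1 w) le_rfl) (by omega)
  have hm1 : m = 1 := by
    obtain ⟨w, hw⟩ := h.exists_not_mem (j := 1) (by omega)
    by_contra hne
    refine hw ((Submodule.smul_mem_iff _ (sub_ne_zero.2 hne)).1 ?_)
    have := sub_mem (sub_mem (Wf_anti (by omega : (2 : ℤ) ≤ r + 1) (e3 w))
      (Wf_anti (by omega : (2 : ℤ) ≤ r) (i1 (x w)))) (hm 0 hd w (mem_Wf_nonpos (by simp) w))
    convert this using 1
    · rfl
    rw [e2 w, pow_one]; module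
  obtain ⟨r, rfl⟩ : ∃ r', r = r' + 1 := ⟨r - 1, by omega⟩
  obtain ⟨w, hw⟩ := h.exists_not_mem (j := r + 1) (by omega)
  refine hw ((Submodule.smul_mem_iff _ hk.two).1 ?_)
  have hw' : (x ^ r) w ∈ Wf x r := mem_Wf.2 ⟨w, rfl⟩
  have := sub_mem (sub_mem (e3 ((x ^ r) w)) (Wf_anti (by omega : ((r + 1 : ℕ) : ℤ) + 1 ≤ κ)
    (i2 _ (Fil.apply self_mem_Fil hw' (by omega))))) (hm r (by omega) _ hw')
  convert this using 1
  rw [e2, pow_succ', Module.End.mul_apply, hm1]; module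

end Cfsg.Agent.H5.NE
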