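import Mathlib
import Cfsg.Agent.H5.NE2
import Cfsg.Agent.H4.HHLinear

set_option autoImplicit false
set_option linter.unusedSectionVars false

/-! An irreducible linear group of degree `< p` has no Sylow `p`-subgroup of order `p ^ 2` that contains
a regular unipotent element (a relative trace argument on multilinear forms). -/

namespace Cfsg.Agent.H5.NE

open Polynomial Module Cfsg.Agent.H36 Cfsg.Agent.H8
open scoped Pointwise

theorem sum_mem_of_free {Γ Ω X : Type*} [Group Γ] (H : Subgroup Γ) [Fintype H] [MulAction Γ Ω]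
    [AddCommGroup X] (P : AddSubgroup X) (f : Ω → X) (S : Finset Ω) (hS : ∀ γ ∈ H, ∀ ω ∈ S, γ • ω ∈ S)
    (hf : ∀ γ ∈ H, ∀ ω ∈ S, γ • ω = ω → γ = 1) (h : ∀ ω ∈ S, ∑ γ : H, f (γ.1 • ω) ∈ P) :
    ∑ ω ∈ S, f ω ∈ P := by
  classical
  induction S using Finset.strongInduction with
  | H S ih =>
    rcases S.eq_empty_or_nonempty with rfl | ⟨ω, hω⟩
    · simp
    have hO : Finset.univ.image (fun γ : H => γ.1 • ω) ⊆ S := fun _ hx => by
      obtain ⟨γ, -, rfl⟩ := Finset.mem_image.1 hx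
      exact hS γ γ.2 ω hω
    rw [← Finset.sum_sdiff hO, Finset.sum_image fun a _ b _ e => Subtype.ext
      (inv_mul_eq_one.1 (hf _ (b⁻¹ * a).2 ω hω (by
        rw [mul_smul, e, inv_smul_smul]))).symm]
    refine add_mem (ih _ (Finset.sdiff_ssubset hO ⟨ω, Finset.mem_image.2 ⟨1, by simp⟩⟩) (fun γ hγ x hx => ?_)
      (fun γ hγ x hx => hf γ hγ x (Finset.mem_sdiff.1 hx).1) fun x hx => h x (Finset.mem_sdiff.1 hx).1) (h ω hω)
    rw [Finset.mem_sdiff] at hx ⊢
    refine ⟨hS γ hγ x hx.1, fun e => hx.2 ?_⟩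
    obtain ⟨δ, -, e⟩ := Finset.mem_image.1 e
    exact Finset.mem_image.2 ⟨⟨γ, hγ⟩⁻¹ * δ, by simp, by
      rw [Subgroup.coe_mul, mul_smul, e, Subgroup.coe_inv, inv_smul_smul]⟩

theorem sum_subgroup_eq {I Γ X : Type*} [Fintype I] [Group Γ] [AddCommMonoid X] (H : Subgroup Γ)
    [Fintype H] (e : I → Γ) (h1 : ∀ i, e i ∈ H) (h2 : ∀ g ∈ H, ∃ i, e i = g)
    (hc : Nat.card I ≤ Nat.card H) (F : Γ → X) : ∑ γ : H, F γ = ∑ i, F (e i) :=
  (Function.Bijective.sum_comp (e := fun i => (⟨e i, h1 i⟩ : H)) (Function.Surjective.bijective_of_nat_card_le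
    (fun g => (h2 g g.2).imp fun _ h => Subtype.ext h) hc) fun γ => F γ).symm

theorem exists_split (lo hi : ℕ) (h : lo ≤ hi) (μ : ℕ) : ∀ D, μ * lo ≤ D → D ≤ μ * hi →
    ∃ i : Fin μ → ℕ, (∀ j, lo ≤ i j ∧ i j ≤ hi) ∧ ∑ j, i j = D := by
  induction μ with
  | zero => exact fun D _ h2 => ⟨Fin.elim0, fun j => j.elim0, by simpa using h2.antisymm' (by simp)⟩
  | succ μ ih =>
    intro D h1 h2
    rw [Nat.succ_mul] at h1 h2
    have h3 := Nat.mul_le_mul_left μ h
    obtain ⟨i, hi', e⟩ := ih (D - max lo (D - μ * hi)) (by omega) (by omega)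
    exact ⟨Fin.cons (max lo (D - μ * hi)) i, fun j => j.cases (by simp; omega) hi',
      by rw [Fin.sum_univ_succ]; simp only [Fin.cons_zero, Fin.cons_succ, e]; omega⟩

section Forms

variable {k : Type*} [Field k] {W : Type*} [AddCommGroup W] [Module k W] {μ : ℕ}

/-- Functions of `μ` covectors and `μ` vectors. -/
abbrev Fm (k W : Type*) [Field k] [AddCommGroup W] [Module k W] (μ : ℕ) :=
  (Fin μ → Dual k W × W) → k

/-- The form `∏ φ j (Y j (w j))`. -/
noncomputable def pure : MultilinearMap k (fun _ : Fin μ => W →ₗ[k] W) (Fm k W μ) :=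
  MultilinearMap.pi fun z => (MultilinearMap.mkPiAlgebra k (Fin μ) k).compLinearMap
    fun j => (z j).1 ∘ₗ LinearMap.applyₗ (z j).2

theorem pure_apply (Y : Fin μ → W →ₗ[k] W) (z : Fin μ → Dual k W × W) :
    pure Y z = ∏ j, (z j).1 (Y j (z j).2) := rfl

/-- The action of `GL(W)` on forms. -/
def act : (W →ₗ[k] W)ˣ →* Module.End k (Fm k W μ) where
  toFun g := LinearMap.funLeft k k fun z j => ((z j).1 ∘ₗ g.val, (g⁻¹).val (z j).2)
  map_one' := rfl
  map_mul' _ _ := rfl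

theorem act_pure (g : (W →ₗ[k] W)ˣ) (Y : Fin μ → W →ₗ[k] W) :
    act g (pure Y) = pure fun j => g.val * Y j * (g⁻¹).val := rfl

/-- The filtration on forms. -/
def FX (x : W →ₗ[k] W) (μ : ℕ) (m : ℤ) : Submodule k (Fm k W μ) :=
  Submodule.span k {f | ∃ (Y : Fin μ → W →ₗ[k] W) (a : Fin μ → ℤ), (∀ j, Y j ∈ Fil x (a j)) ∧
    m ≤ ∑ j, a j ∧ f = pure Y}

variable {x : W →ₗ[k] W} {d : ℕ}

theorem pure_mem {Y : Fin μ → W →ₗ[k] W} {a : Fin μ → ℤ} (h : ∀ j, Y j ∈ Fil x (a j)) {m : ℤ}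
    (hm : m ≤ ∑ j, a j) : pure Y ∈ FX x μ m := Submodule.subset_span ⟨Y, a, h, hm, rfl⟩

theorem FX_anti {m n : ℤ} (h : m ≤ n) : FX x μ n ≤ FX x μ m :=
  Submodule.span_mono fun _ ⟨Y, a, h1, h2, h3⟩ => ⟨Y, a, h1, h.trans h2, h3⟩

theorem pure_add_sub {Y D : Fin μ → W →ₗ[k] W} {a : Fin μ → ℤ} {c : ℤ} (hc : 0 ≤ c)
    (hY : ∀ j, Y j ∈ Fil x (a j)) (hD : ∀ j, D j ∈ Fil x (a j + c)) :
    pure (D + Y) - pure Y ∈ FX x μ (∑ j, a j + c) := by
  rw [MultilinearMap.map_add_univ, ← Finset.add_sum_erase _ _ (Finset.mem_univ (∅ : Finset (Fin μ))),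
    Finset.piecewise_empty,
    add_sub_cancel_left]
  refine Submodule.sum_mem _ fun t ht => pure_mem (a := fun j => a j + if j ∈ t then c else 0)
    (fun j => ?_) ?_
  · by_cases hj : j ∈ t
    · simpa [hj] using hD j
    · simpa [hj] using hY j
  · obtain ⟨j, hj⟩ := Finset.nonempty_iff_ne_empty.2 (Finset.mem_erase.1 ht).1
    rw [Finset.sum_add_distrib, add_le_add_iff_left]
    simpa [hj] using Finset.single_le_sum (f := fun j => if j ∈ t then c else 0)
      (fun j _ => by split_ifs <;> omega) (Finset.mem_univ j)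

theorem act_sub_mem {u : (W →ₗ[k] W)ˣ} {c : ℤ} (hc : 0 ≤ c) (h1 : u.val - 1 ∈ Fil x c)
    (h2 : (u⁻¹).val - 1 ∈ Fil x c) {m : ℤ} {f : Fm k W μ} (hf : f ∈ FX x μ m) :
    (act u - 1 : Module.End k _) f ∈ FX x μ (m + c) := by
  refine (Submodule.span_le (p := (FX x μ (m + c)).comap (act u - 1 : Module.End k _))).2 ?_ hf
  rintro _ ⟨Y, a, hY, hm, rfl⟩
  have := pure_add_sub (D := fun j => u.val * Y j * (u⁻¹).val - Y j) hc hY fun j => by
    have e : u.val * Y j * (u⁻¹).val - Y j =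
        (u.val - 1) * Y j * (u⁻¹).val + Y j * ((u⁻¹).val - 1) := by noncomm_ring
    rw [e]
    exact add_mem (Fil.mul' (Fil.mul h1 (hY j)) (Fil.of_sub_one hc h2) (by omega)) (Fil.mul (hY j) h2)
  rw [show (fun j => u.val * Y j * (u⁻¹).val - Y j) + Y = fun j => u.val * Y j * (u⁻¹).val from
    funext fun j => sub_add_cancel _ _] at this
  exact FX_anti (by omega) this

theorem act_pow_mem {u : (W →ₗ[k] W)ˣ} {c : ℤ} (hc : 0 ≤ c) (h1 : u.val - 1 ∈ Fil x c)
    (h2 : (u⁻¹).val - 1 ∈ Fil x c) {m : ℤ} {f : Fm k W μ} (hf : f ∈ FX x μ m) (n : ℕ) :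
    ((act u - 1 : Module.End k _) ^ n) f ∈ FX x μ (m + n * c) := by
  induction n with
  | zero => simpa using hf
  | succ n ih =>
    rw [pow_succ', Module.End.mul_apply]
    exact FX_anti (by push_cast; linarith) (act_sub_mem hc h1 h2 ih)

theorem FX_vanish {m : ℤ} {z : Fin μ → Dual k W × W}
    (h : ∀ (Y : Fin μ → W →ₗ[k] W) (a : Fin μ → ℤ), (∀ j, Y j ∈ Fil x (a j)) → m ≤ ∑ j, a j →
      ∃ j, (z j).1 (Y j (z j).2) = 0) {f : Fm k W μ} (hf : f ∈ FX x μ m) : f z = 0 := by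
  refine (Submodule.span_le (p := LinearMap.ker (LinearMap.proj z))).2 ?_ hf
  rintro _ ⟨Y, a, hY, hm, rfl⟩
  obtain ⟨j, hj⟩ := h Y a hY hm
  exact Finset.prod_eq_zero (Finset.mem_univ j) hj

end Forms

variable {p : ℕ} [hp : Fact p.Prime] {W : Type*} [AddCommGroup W] [Module (ZMod p) W] [Finite W]
  {G T : Subgroup (W →ₗ[ZMod p] W)ˣ} {x : W →ₗ[ZMod p] W} {d : ℕ}

theorem norm_mem {μ : ℕ} {u : (W →ₗ[ZMod p] W)ˣ} {c : ℤ} (hc : 0 ≤ c) (h1 : u.val - 1 ∈ Fil x c)
    (h2 : (u⁻¹).val - 1 ∈ Fil x c) {m : ℤ} {f : Fm (ZMod p) W μ} (hf : f ∈ FX x μ m) :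
    ∑ j : Fin p, act (u ^ j.1) f ∈ FX x μ (m + (p - 1 : ℕ) * c) := by
  have := act_pow_mem hc h1 h2 hf (p - 1)
  have e := H4.HH.sub_one_pow_eq_geom_sum (ZMod p) p (act (μ := μ) u) 1
  rw [pow_one] at e
  rw [e, LinearMap.sum_apply, Finset.sum_range] at this
  simpa only [map_pow] using this

/-- The unipotent radical of the stabiliser of the flag, and its deeper terms. -/
theorem RN.nilAlg (h : RN x d) {c : ℤ} (hc : 1 ≤ c) : NilAlg (Fil x c) := by
  refine ⟨Submodule.mul_le.2 fun a ha b hb => Fil.mul' ha hb (by omega), d + 1, eq_bot_iff.2 ?_⟩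
  have : ∀ n : ℕ, Fil x c ^ (n + 1) ≤ Fil x (n + 1) := fun n => by
    induction n with
    | zero => simpa using Fil_anti hc
    | succ n ih =>
      rw [pow_succ]
      exact Submodule.mul_le.2 fun a ha b hb => Fil.mul' (ih ha) hb (by push_cast; omega)
  exact fun y hy => h.eq_zero_of_Fil (by omega) (this d hy)

theorem RN.inv_mem (h : RN x d) {c : ℤ} (hc : 1 ≤ c) {g : (W →ₗ[ZMod p] W)ˣ} (hg : g.val - 1 ∈ Fil x c) :
    (g⁻¹).val - 1 ∈ Fil x c := (oneAdd _ (h.nilAlg hc)).inv_mem hg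

theorem RN.pow_mem (h : RN x d) {c : ℤ} (hc : 1 ≤ c) {g : (W →ₗ[ZMod p] W)ˣ} (hg : g.val - 1 ∈ Fil x c)
    (n : ℕ) : (g ^ n).val - 1 ∈ Fil x c := (oneAdd _ (h.nilAlg hc)).pow_mem hg n

theorem RN.range_conj (h : RN x d) {ν : ℕ} {z z' : W →ₗ[ZMod p] W} (hz : Val x ν z) (hz' : Val x ν z')
    {g : (W →ₗ[ZMod p] W)ˣ} (e : z' = g.val * z * (g⁻¹).val) (m : ℕ) {w : W}
    (hw : w ∈ Wf x (ν * m : ℕ)) : g.val w ∈ Wf x (ν * m : ℕ) := by
  obtain ⟨v, rfl⟩ := (h.range_val (hz.pow m)).ge hw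
  exact (h.range_val (hz'.pow m)).le ⟨g.val v, by
    rw [e, Units.conj_pow, Module.End.mul_apply, Module.End.mul_apply, inv_app]⟩

theorem RN.pow_s (h : RN x d) {s : (W →ₗ[ZMod p] W)ˣ} (hsx : s.val = 1 + x) (m : ℕ) :
    (s ^ m).val - 1 - (m : ZMod p) • x ∈ Fil x 2 := by
  induction m with
  | zero => simp
  | succ m ih =>
    have h1 := h.pow_mem le_rfl (show s.val - 1 ∈ Fil x 1 by simpa [hsx] using self_mem_Fil) m
    have := add_mem ih (Fil.mul' (c := 2) h1 self_mem_Fil (by omega))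
    convert this using 1
    rw [pow_succ, Units.val_mul, hsx, Nat.cast_succ, add_smul, one_smul]; noncomm_ring

theorem RN.bl_of (h : RN x d) {s u : (W →ₗ[ZMod p] W)ˣ} (hsx : s.val = 1 + x) (m : ℕ) {j : ℤ} {w : W}
    (hw : w ∈ Wf x j) (hu : (u.val - 1) w ∈ Wf x (j + 2)) :
    ((s ^ m * u).val - 1) w - (m : ZMod p) • x w ∈ Wf x (j + 2) := by
  have h1 := h.pow_mem le_rfl (show s.val - 1 ∈ Fil x 1 by simpa [hsx] using self_mem_Fil) m
  have := add_mem (h.pow_s hsx m j w hw) (Fil.apply (Fil.of_sub_one (by omega) h1) hu (l := j + 2) (by omega))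
  convert this using 1
  simp only [Units.val_mul, LinearMap.sub_apply, Module.End.mul_apply, Module.End.one_apply, map_sub,
    LinearMap.smul_apply]
  abel

/-- The abelian Sylow subgroup `⟨s, t⟩` of order `p ^ 2`. -/
structure Ab (G T : Subgroup (W →ₗ[ZMod p] W)ˣ) (x : W →ₗ[ZMod p] W) (d : ℕ)
    (s t : (W →ₗ[ZMod p] W)ˣ) : Prop where
  syl : IsSylowIn p T G
  rn : RN x d
  lt : d < p
  ms : s ∈ T
  mt : t ∈ T
  sx : s.val = 1 + x
  ne : t ≠ 1
  t2 : t.val - 1 ∈ Fil x 2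
  comm : s * t = t * s
  gen : ∀ g ∈ T, ∃ m l : ℕ, g = s ^ m * t ^ l
  card : Nat.card T = p ^ 2

namespace Ab

variable {s t : (W →ₗ[ZMod p] W)ˣ} (h : Ab G T x d s t)
include h

theorem s1 : s.val - 1 ∈ Fil x 1 := by simpa [h.sx] using self_mem_Fil

theorem fil {g : (W →ₗ[ZMod p] W)ˣ} (hg : g ∈ T) : g.val - 1 ∈ Fil x 1 := by
  obtain ⟨m, l, rfl⟩ := h.gen g hg
  let O := oneAdd _ (h.rn.nilAlg le_rfl)
  exact O.mul_mem (O.pow_mem h.s1 m) (O.pow_mem (Fil_anti (by omega) h.t2) l)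

theorem commute {g : (W →ₗ[ZMod p] W)ˣ} (hg : g ∈ T) : x * g.val = g.val * x := by
  obtain ⟨m, l, rfl⟩ := h.gen g hg
  have : Commute s (s ^ m * t ^ l) :=
    ((Commute.refl s).pow_right m).mul_right (Commute.pow_right h.comm l)
  have := congrArg Units.val this.eq
  rw [Units.val_mul, Units.val_mul (s ^ m * t ^ l)] at this
  simpa [h.sx, add_mul, mul_add] using this

theorem pow_p {g : (W →ₗ[ZMod p] W)ˣ} (hg : g ∈ T) : g ^ p = 1 := by
  rcases subsingleton_or_nontrivial (W →ₗ[ZMod p] W) with hs | hs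
  · exact Units.ext (Subsingleton.elim _ _)
  have : CharP (W →ₗ[ZMod p] W) p := charP_of_injective_algebraMap (algebraMap (ZMod p) _).injective p
  refine Units.ext ?_
  have := sub_pow_char_of_commute p (Commute.one_right g.val)
  rw [h.rn.eq_zero_of_Fil (by have := h.lt; omega) (Fil.pow (h.fil hg) p), one_pow, eq_comm,
    sub_eq_zero] at this
  simpa using this

theorem exists_val {g : (W →ₗ[ZMod p] W)ˣ} (hg : g ∈ T) (h1 : g ≠ 1) :
    ∃ ν < d, 1 ≤ ν ∧ Val x ν (g.val - 1) := by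
  obtain ⟨ν, hν, hv⟩ := h.rn.exists_val (z := g.val - 1) (by rw [mul_sub, sub_mul, h.commute hg]; simp)
    fun e => h1 (Units.ext (sub_eq_zero.1 e))
  refine ⟨ν, hν, le_of_not_gt fun e => h.rn.not_le hν e ?_, hv⟩
  rw [← h.rn.range_val hv]
  rintro _ ⟨w, rfl⟩
  exact Fil.apply' (h.fil hg) w

theorem val_conj {u g : (W →ₗ[ZMod p] W)ˣ} (e : g * u * g⁻¹ ∈ T) {ν : ℕ} (hν : ν < d)
    (hv : Val x ν (u.val - 1)) : Val x ν ((g * u * g⁻¹).val - 1) := by
  have e' : (g * u * g⁻¹).val - 1 = g.val * (u.val - 1) * (g⁻¹).val := by simp [mul_sub, sub_mul]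
  obtain ⟨μ, hμ, -, hv'⟩ := h.exists_val e fun e1 => by
    have : u = 1 := by simpa [mul_inv_eq_iff_eq_mul] using e1
    have := (h.rn.val_eq_zero_iff hv).1 (by simp [this])
    omega
  rwa [h.rn.val_unique hv hv' hν hμ (by rw [e', rk_conj])]

theorem conj_pres {u g : (W →ₗ[ZMod p] W)ˣ} (e : g * u * g⁻¹ ∈ T) {ν : ℕ} (hν : ν < d)
    (hv : Val x ν (u.val - 1)) (m : ℕ) : (∀ w ∈ Wf x (ν * m : ℕ), g.val w ∈ Wf x (ν * m : ℕ)) ∧
      ∀ w ∈ Wf x (ν * m : ℕ), (g⁻¹).val w ∈ Wf x (ν * m : ℕ) :=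
  ⟨fun _ => h.rn.range_conj hv (h.val_conj e hν hv) (by simp [mul_sub, sub_mul]) m,
    fun _ => h.rn.range_conj (h.val_conj e hν hv) hv (by simp [mul_sub, sub_mul, mul_assoc]) m⟩

theorem exists_val_t : ∃ κ < d, 2 ≤ κ ∧ Val x κ (t.val - 1) := by
  obtain ⟨ν, hν, -, hv⟩ := h.exists_val h.mt h.ne
  refine ⟨ν, hν, le_of_not_gt fun e => h.rn.not_le hν e ?_, hv⟩
  rw [← h.rn.range_val hv]
  rintro _ ⟨w, rfl⟩
  exact Fil.apply' h.t2 w

/-- A non-trivial element of `T` with a conjugate in `T` forces the conjugate of `t` into `T`. -/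
theorem conj_t {u g : (W →ₗ[ZMod p] W)ˣ} (hg : g ∈ G) (hu : u ∈ T) (h1 : u ≠ 1) (e : g * u * g⁻¹ ∈ T) :
    g * t * g⁻¹ ∈ T := by
  obtain ⟨ν, hν, h0, hv⟩ := h.exists_val hu h1
  rcases h0.eq_or_lt with rfl | h2
  · have h3 := h.conj_pres e hν hv
    simp only [one_mul] at h3
    rw [← h.syl.eq_of_le (Q := G ⊓ oneAdd _ (h.rn.nilAlg le_rfl)) (isPGroup_oneAdd _).to_inf_right
      inf_le_left (le_inf h.syl.le fun _ => h.fil)]
    refine Subgroup.mem_inf.2 ⟨mul_mem (mul_mem hg (h.syl.le h.mt)) (inv_mem hg), ?_⟩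
    rw [mem_oneAdd, show (g * t * g⁻¹).val - 1 = g.val * (t.val - 1) * (g⁻¹).val by simp [mul_sub, sub_mul]]
    exact Fil.mul' (Fil.mul (a := 0) (mem_Fil_of fun j => by simpa using (h3 j).1) (h.fil h.mt))
      (b := 0) (mem_Fil_of fun j => by simpa using (h3 j).2) (by omega)
  · let O := oneAdd _ (h.rn.nilAlg (c := 2) (by omega))
    obtain ⟨m, l, rfl⟩ := h.gen u hu
    have h3 : s ^ m ∈ O := by
      have h5 : s ^ m * t ^ l ∈ O := Fil_anti (by omega) hv.mem_Fil
      have h6 : t ∈ O := h.t2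
      simpa using O.mul_mem h5 (O.inv_mem (O.pow_mem h6 l))
    have h4 : (m : ZMod p) = 0 := by
      by_contra hm
      obtain ⟨w, hw⟩ := h.rn.exists_not_mem (j := 1) (by omega)
      exact hw (by simpa [Submodule.smul_mem_iff _ hm] using Fil.apply' (sub_mem (mem_oneAdd.1 h3) (h.rn.pow_s h.sx m)) w)
    obtain ⟨m, rfl⟩ := (ZMod.natCast_eq_zero_iff _ _).1 h4
    rw [pow_mul, h.pow_p h.ms, one_pow, one_mul] at e h1
    obtain ⟨n, hn⟩ : t ∈ Submonoid.powers (t ^ l) := by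
      rw [mem_powers_iff_mem_zpowers, mem_zpowers_pow_iff, orderOf_eq_prime (h.pow_p h.mt) h.ne,
        Nat.gcd_comm]
      refine (Nat.Prime.coprime_iff_not_dvd hp.out).2 fun ⟨c, hc⟩ => h1 ?_
      rw [hc, pow_mul, h.pow_p h.mt, one_pow]
    simpa [conj_pow, hn] using pow_mem e n

theorem quad (h5 : 5 ≤ p) (hirr : IsIrreducibleFor G) (hN : ∀ g ∈ G, g.val ≠ -1) :
    (t.val - 1) * (t.val - 1) ≠ 0 := fun hq => by
  obtain ⟨κ, hκ, hκ2, -⟩ := h.exists_val_t
  refine quad_false h5 h.syl h.rn (by omega) h.ms h.sx (fun _ => h.fil) (fun g hg => ?_)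
    (fun a c ha hc e => ?_) (fun a ha => ha.exists_opp (good h5) (hyp_of_irred hirr)) hN (h.syl.le h.mt) h.ne hq
  · obtain ⟨m, l, rfl⟩ := h.gen g hg
    have h6 := h.rn.pow_mem (by omega) h.t2 l
    exact ⟨m, fun j _ w hw => h.rn.bl_of h.sx m hw (h6 j w hw)⟩
  · have hcm : Commute (un a ha.qt.sq) (un c hc.qt.sq) := (un_comm_iff _ _).2 (sub_eq_zero.2 e)
    obtain ⟨g, hg, hg'⟩ := h.syl.exists_conj_le (Q := EG G a ⊔ EG G c) ((isPGroup_oneAdd _).to_sup_of_normal_right'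
      (isPGroup_oneAdd _) (fun u hu => Subgroup.mem_normalizer_fintype fun v hv => by
        rwa [ha.com (good h5) hc (sub_eq_zero.2 e) u hu v hv, mul_inv_cancel_right])) (sup_le (EG_le _) (EG_le _))
    have key : ∀ b, (hb : QD G b) → EG G b ≤ EG G a ⊔ EG G c →
        ∃ ν < d, Val x ν (g.val * b * (g⁻¹).val) := fun b hb hle => by
      obtain ⟨ν, hν, -, hv⟩ := h.exists_val (hg' (conj_mem_conj_smul.2 (hle hb.un_mem)))
        (by simpa [mul_inv_eq_iff_eq_mul] using hb.un_ne)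
      exact ⟨ν, hν, by simpa [val_un, mul_add, add_mul] using hv⟩
    obtain ⟨ν, hν, hv⟩ := key a ha le_sup_left
    obtain ⟨ν', hν', hv'⟩ := key c hc le_sup_right
    obtain rfl := h.rn.val_unique hv hv' hν hν' ((ha.conj hg).rk_eq (hc.conj hg))
    have := conj_mem_aSp ((mem_aSp (ha.conj hg).qt.sq).2 ⟨(hc.conj hg).qt,
      (h.rn.range_val hv').le.trans (h.rn.range_val hv).ge,
      fun w hw => (h.rn.mem_ker_val hv').2 ((h.rn.mem_ker_val hv).1 hw)⟩) (inv_mem hg)
    simpa [mul_assoc] using this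

theorem conj_x {g : (W →ₗ[ZMod p] W)ˣ} (hd : 1 < d) (e : g⁻¹ * s * g ∈ T) :
    ∃ c : ZMod p, c ≠ 0 ∧ ∀ n : ℕ, g.val * x ^ n * (g⁻¹).val - c ^ n • x ^ n ∈ Fil x (n + 1) := by
  have hv : Val x 1 (s.val - 1) := by simpa [h.sx] using val_self
  have e' : g⁻¹ * s * g⁻¹⁻¹ ∈ T := by simpa using e
  have h3 := h.conj_pres e' hd hv
  simp only [one_mul, inv_inv] at h3
  have g0 : g.val ∈ Fil x 0 := mem_Fil_of fun j => by simpa using (h3 j).2
  have g1 : (g⁻¹).val ∈ Fil x 0 := mem_Fil_of fun j => by simpa using (h3 j).1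
  obtain ⟨q, hq, e1⟩ := h.val_conj e' hd hv
  have x1 : g.val * x * (g⁻¹).val ∈ Fil x 1 := Fil.mul' (Fil.mul g0 self_mem_Fil) g1 (by omega)
  have e2 : x = g.val * x * (g⁻¹).val * aeval (g.val * x * (g⁻¹).val) q := by
    rw [pow_one] at e1
    rw [← aeval_conj, ← mul_assoc, ← mul_assoc, Units.inv_mul_cancel_right, mul_assoc _ x, ← e1]
    simp [h.sx, mul_add, add_mul, mul_assoc]
  have e3 : g.val * x * (g⁻¹).val - (q.coeff 0)⁻¹ • x ∈ Fil x 2 := by
    generalize g.val * x * (g⁻¹).val = y at x1 e2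
    have := (Fil x 2).smul_mem (-(q.coeff 0)⁻¹) (Fil.mul' x1 (Fil.mul x1
      (Fil.aeval (Fil_anti (by omega) x1) q.divX)) (by omega))
    convert this using 1
    have eq : aeval y q = y * aeval y q.divX + q.coeff 0 • 1 := by
      conv_lhs => rw [← X_mul_divX_add q, map_add, map_mul, aeval_X, aeval_C, Algebra.algebraMap_eq_smul_one]
    rw [e2, eq]
    simp only [mul_add, mul_smul_comm, mul_one, smul_add, smul_smul, inv_mul_cancel₀ hq, one_smul, neg_smul]
    abel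
  refine ⟨_, inv_ne_zero hq, fun n => ?_⟩
  rw [← Units.conj_pow]
  generalize g.val * x * (g⁻¹).val = y at x1 e3
  induction n with
  | zero => simp
  | succ n ih =>
    have := add_mem (Fil.mul' (c := (n + 1 : ℕ) + 1) ih x1 (by push_cast; omega))
      (Fil.mul' ((Fil x n).smul_mem ((q.coeff 0)⁻¹ ^ n) (pow_mem_Fil n)) e3 (by push_cast; omega))
    convert this using 1
    simp only [pow_succ, sub_mul, mul_sub, smul_mul_assoc, mul_smul_comm, smul_smul, mul_comm]
    abel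

set_option maxHeartbeats 1000000 in
theorem false (h5 : 5 ≤ p) (hirr : IsIrreducibleFor G) (hN : ∀ g ∈ G, g.val ≠ -1) : False := by
  classical
  obtain ⟨κ, hκ, hκ2, hv⟩ := h.exists_val_t
  have hκd : κ * 2 < d := lt_of_not_ge fun e => h.quad h5 hirr hN (by
    rw [← sq]; exact (h.rn.val_eq_zero_iff (hv.pow 2)).2 e)
  have hdp := h.lt
  obtain ⟨ν, hν1, hν2⟩ : ∃ ν, ν * (d - 1) < p - 1 ∧ p - 1 ≤ (ν + 1) * (d - 1) :=
    ⟨(p - 2) / (d - 1), by have := Nat.div_mul_le_self (p - 2) (d - 1); omega,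
      by have := Nat.lt_div_mul_add (a := p - 2) (b := d - 1) (by omega); rw [Nat.succ_mul]; omega⟩
  obtain ⟨i, hi, hsum⟩ := exists_split κ (d - 1) (by omega) (ν + 1) (p - 1) (by
    have := Nat.mul_le_mul_left (ν + 1) (show κ * 2 ≤ d - 1 by omega)
    rw [← mul_assoc, Nat.succ_mul ν (d - 1)] at this
    omega) hν2
  have hsum' : ∑ j, (i j : ℤ) = p - 1 := by rw [← Nat.cast_sum, hsum]; omega
  let Θ : Fm (ZMod p) W (ν + 1) := pure fun j => x ^ i j
  let T' := T.subgroupOf G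
  have := Fintype.ofFinite G
  have := Fintype.ofFinite (G ⧸ T')
  let f : G ⧸ T' → Fm (ZMod p) W (ν + 1) := fun ω => act ω.out.1 Θ
  have hf : ∀ g : G, f g = act g.1 Θ := fun g => by
    obtain ⟨u, hu⟩ := QuotientGroup.mk_out_eq_mul T' g
    have : act u.1.1 Θ = Θ := by
      rw [act_pure]
      refine congrArg pure (funext fun j => ?_)
      rw [← (Commute.pow_left (h.commute (g := u.1.1) u.2) _).eq, Units.mul_inv_cancel_right]
    simp only [f, hu, Subgroup.coe_mul, map_mul, Module.End.mul_apply, this]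
  have hf' : ∀ (g : G) ω, f (g • ω) = act g.1 (f ω) := fun g ω => by
    obtain ⟨c, rfl⟩ := QuotientGroup.mk_surjective ω
    rw [MulAction.Quotient.smul_mk, hf, hf, smul_eq_mul, Subgroup.coe_mul, map_mul, Module.End.mul_apply]
  have hfix : ∀ u c : G, u • (c : G ⧸ T') = c ↔ c.1⁻¹ * u.1 * c.1⁻¹⁻¹ ∈ T := fun u c => by
    rw [MulAction.Quotient.smul_mk, eq_comm, QuotientGroup.eq, inv_inv, mul_assoc]; rfl
  let s' : G := ⟨s, h.syl.le h.ms⟩
  let t' : G := ⟨t, h.syl.le h.mt⟩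
  have hc : ∀ u ∈ T', ∀ ω : G ⧸ T', t' • u • ω = u • t' • ω := fun u hu ω => by
    obtain ⟨m, l, e⟩ := h.gen u.1 hu
    rw [smul_smul, smul_smul]
    congr 1
    refine Subtype.ext ?_
    simpa [e] using ((Commute.pow_right h.comm.symm m).mul_right ((Commute.refl t).pow_right l)).eq
  have hΘ : Θ ∈ FX x (ν + 1) (p - 1) := pure_mem (fun j => pow_mem_Fil _) hsum'.ge
  have hs1 : s ≠ 1 := fun e => h.rn.ne 1 (by omega) (by simpa [e] using h.sx)
  have ho : orderOf s' = p := orderOf_eq_prime (Subtype.ext (h.pow_p h.ms)) fun e => hs1 (congrArg Subtype.val e)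
  have main : ∑ ω, (f ω - Θ) ∈ FX x (ν + 1) p := by
    rw [← Finset.sum_filter_add_sum_filter_not _ (fun ω => t' • ω = ω),
      ← Finset.sum_filter_add_sum_filter_not (Finset.filter _ _) (fun ω => s' • ω = ω)]
    refine add_mem (add_mem (Submodule.sum_mem _ fun ω hω => ?_) ?_) ?_
    · obtain ⟨c, rfl⟩ := QuotientGroup.mk_surjective ω
      obtain ⟨a, ha, ha'⟩ := h.conj_x (g := c.1) (by omega)
        (by simpa using (hfix s' c).1 (Finset.mem_filter.1 hω).2)
      have := pure_add_sub (a := fun j => i j) zero_le_one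
        (fun j => (Fil x (i j)).smul_mem (a ^ i j) (pow_mem_Fil _)) fun j => ha' (i j)
      rw [MultilinearMap.map_smul_univ, Finset.prod_pow_eq_pow_sum, hsum, ZMod.pow_card_sub_one_eq_one ha,
        one_smul, hsum', sub_add_cancel] at this
      rw [hf, act_pure]
      convert this using 3
      exact funext fun j => (sub_add_cancel _ _).symm
    · refine sum_mem_of_free (Subgroup.zpowers s') (FX x (ν + 1) p).toAddSubgroup _ _
        (fun γ hγ ω hω => ?_) (fun γ hγ ω hω e => ?_) fun ω hω => ?_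
      · simp only [Finset.mem_filter, Finset.mem_univ, true_and] at hω ⊢
        have h1 : γ ∈ T' := Subgroup.zpowers_le.2 (show s' ∈ T' from h.ms) hγ
        refine ⟨by rw [hc _ h1, hω.1], fun e => hω.2 ?_⟩
        obtain ⟨n, rfl⟩ := hγ
        rwa [smul_smul, ((Commute.refl s').zpow_right n).eq, mul_smul, smul_left_cancel_iff] at e
      · by_contra h1
        refine (Finset.mem_filter.1 hω).2 ?_
        have := mem_zpowers_of_prime_card (G := Subgroup.zpowers s') (g := ⟨γ, hγ⟩)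
          (g' := ⟨s', Subgroup.mem_zpowers _⟩) (by rw [Nat.card_zpowers, ho]) fun e => h1 (congrArg Subtype.val e)
        obtain ⟨n, hn⟩ := this
        have h2 : γ ^ n = s' := congrArg Subtype.val hn
        exact (show s' ∈ MulAction.stabilizer G ω from h2 ▸ (MulAction.stabilizer G ω).zpow_mem e n)
      · simp only [hf']
        rw [sum_subgroup_eq _ (fun j : Fin p => s' ^ j.1) (fun _ => pow_mem (Subgroup.mem_zpowers _) _)
          (fun g hg => ?_) (by rw [Nat.card_zpowers, ho]; simp) fun g => act g.1 (f ω) - Θ,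
          Finset.sum_sub_distrib, Finset.sum_const, Finset.card_univ, Fintype.card_fin,
          ← Nat.cast_smul_eq_nsmul (ZMod p), ZMod.natCast_self, zero_smul, sub_zero]
        · obtain ⟨c, rfl⟩ := QuotientGroup.mk_surjective ω
          have h3 := h.conj_pres ((hfix t' c).1 (Finset.mem_filter.1 (Finset.mem_filter.1 hω).1).2) hκ hv
          have h4 : f c ∈ FX x (ν + 1) 1 := by
            rw [hf, act_pure]
            refine pure_mem (a := fun _ => 1) (fun j => mem_Fil_of fun l w hw => ?_) (by simp)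
            have h5 := Nat.div_mul_le_self l κ
            have h6 := Nat.lt_div_mul_add (a := l) (b := κ) (by omega)
            have h7 := (hi j).1
            refine Wf_anti (j := (κ * (l / κ + 1) : ℕ)) (by rw [mul_add, mul_comm]; omega) ?_
            refine (h3 _).2 _ (Fil.apply (pow_mem_Fil (i j)) ((h3 (l / κ)).1 _ (Wf_anti ?_ hw)) ?_)
            · rw [mul_comm]; omega
            · rw [mul_add]; omega
          exact FX_anti (by omega) (norm_mem zero_le_one h.s1 (h.fil (inv_mem h.ms)) h4)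
        · obtain ⟨n, hn, rfl⟩ := Finset.mem_image.1 ((mem_zpowers_iff_mem_range_orderOf).1 hg)
          exact ⟨⟨n, by simpa [ho] using hn⟩, rfl⟩
    · refine sum_mem_of_free T' (FX x (ν + 1) p).toAddSubgroup _ _
        (fun γ hγ ω hω => ?_) (fun γ hγ ω hω e => ?_) fun ω hω => ?_
      · simp only [Finset.mem_filter, Finset.mem_univ, true_and] at hω ⊢
        rwa [hc _ hγ, smul_left_cancel_iff]
      · by_contra h1
        obtain ⟨c, rfl⟩ := QuotientGroup.mk_surjective ω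
        exact (Finset.mem_filter.1 hω).2 ((hfix t' c).2 (h.conj_t (inv_mem c.2) hγ
          (fun e => h1 (Subtype.ext e)) ((hfix γ c).1 e)))
      · simp only [hf']
        rw [sum_subgroup_eq _ (fun j : Fin p × Fin p => s' ^ j.1.1 * t' ^ j.2.1)
          (fun _ => mul_mem (pow_mem (show s' ∈ T' from h.ms) _) (pow_mem (show t' ∈ T' from h.mt) _))
          (fun g hg => ?_) (by rw [Nat.card_congr (Subgroup.subgroupOfEquivOfLe h.syl.le).toEquiv, h.card]; simp [sq])
          fun g => act g.1 (f ω) - Θ,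
          Finset.sum_sub_distrib, Finset.sum_const, Finset.card_univ, Fintype.card_prod, Fintype.card_fin,
          ← Nat.cast_smul_eq_nsmul (ZMod p), Nat.cast_mul, ZMod.natCast_self, zero_mul, zero_smul, sub_zero,
          Fintype.sum_prod_type]
        · have h4 : f ω ∈ FX x (ν + 1) ((ν + 1 : ℕ) * (1 - d)) := by
            obtain ⟨c, rfl⟩ := QuotientGroup.mk_surjective ω
            rw [hf, act_pure]
            exact pure_mem (a := fun _ => 1 - d) (fun j => h.rn.mem_Fil_low le_rfl _) (by simp [mul_sub])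
          have := norm_mem zero_le_one h.s1 (h.fil (inv_mem h.ms))
            (norm_mem (by omega) h.t2 (h.rn.inv_mem (by omega) h.t2) h4)
          simp only [map_sum] at this
          refine FX_anti ?_ (by
            simpa only [Subgroup.coe_mul, map_mul, Module.End.mul_apply, Subgroup.coe_pow] using this)
          have e1 : ((ν + 1 : ℕ) : ℤ) * (1 - d) = -((ν * (d - 1) : ℕ) + (d - 1 : ℕ)) := by
            push_cast [show 1 ≤ d by omega]; ring
          omega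
        · obtain ⟨m, l, e⟩ := h.gen g.1 hg
          refine ⟨(⟨m % p, Nat.mod_lt _ hp.out.pos⟩, ⟨l % p, Nat.mod_lt _ hp.out.pos⟩), Subtype.ext ?_⟩
          simp [e, s', t', ← pow_eq_pow_mod _ (h.pow_p h.ms), ← pow_eq_pow_mod _ (h.pow_p h.mt)]
  rw [Finset.sum_sub_distrib, Finset.sum_const, ← Nat.cast_smul_eq_nsmul (ZMod p)] at main
  have inv : ∀ g : G, act g.1 (∑ ω, f ω) = ∑ ω, f ω := fun g => by
    rw [map_sum, ← Equiv.sum_comp (MulAction.toPerm g) f]
    exact Finset.sum_congr rfl fun ω _ => (hf' g ω).symm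
  have m1 : ∑ ω, f ω ∈ FX x (ν + 1) (p - 1) := by
    rw [← sub_add_cancel (∑ ω, f ω) _]
    exact add_mem (FX_anti (by omega) main) (Submodule.smul_mem _ _ hΘ)
  let U : Submodule (ZMod p) W :=
    { carrier := {w | ∀ φ z, (∑ ω, f ω) (Fin.cons (φ, w) z) = 0}
      zero_mem' := fun φ z => by simp [f, Θ, act_pure, pure_apply, Fin.prod_univ_succ]
      add_mem' := fun {a b} ha hb φ z => by
        have := congrArg₂ (· + ·) (ha φ z) (hb φ z)
        simpa [f, Θ, act_pure, pure_apply, Fin.prod_univ_succ, add_mul, Finset.sum_add_distrib] using this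
      smul_mem' := fun c a ha φ z => by
        have := congrArg (c * ·) (ha φ z)
        simpa [f, Θ, act_pure, pure_apply, Fin.prod_univ_succ, Finset.mul_sum, mul_assoc] using this }
  have hU : Wf x (d - 1 : ℕ) ≤ U := fun w hw φ z => FX_vanish (fun Y a hY hm => by
    by_contra hc
    push Not at hc
    have h1 : a 0 ≤ 0 := le_of_not_gt fun e => hc 0 (by
      rw [Fin.cons_zero, h.rn.eq_zero le_rfl (Fil.apply (hY 0) hw (by omega)), map_zero])
    have h2 : ∀ j, a j ≤ (d - 1 : ℕ) := fun j => le_of_not_gt fun e => hc j (by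
      rw [h.rn.eq_zero_of_Fil (by omega) (hY j), LinearMap.zero_apply, map_zero])
    have := Finset.sum_le_card_nsmul Finset.univ (fun j : Fin ν => a j.succ) _ fun j _ => h2 j.succ
    rw [Fin.sum_univ_succ] at hm
    simp only [Finset.card_univ, Fintype.card_fin, nsmul_eq_mul, ← Nat.cast_mul] at this
    omega) m1
  have hU' : U = ⊤ := (hirr.2 U fun g hg w hw φ z => by
    rw [← inv ⟨g, hg⟩]
    convert hw (φ ∘ₗ g.val) fun j => ((z j).1 ∘ₗ g.val, (g⁻¹).val (z j).2) using 1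
    refine congrArg (∑ ω, f ω) (funext fun j => j.cases ?_ fun j => rfl)
    simp [inv_app]).resolve_left fun e => h.rn.not_le (i := d - 1) (j := d) (by omega) (by omega)
      ((hU.trans e.le).trans bot_le)
  choose w hw using fun j => h.rn.exists_not_mem (j := i j) (by have := (hi j).2; omega)
  choose φ hφ hφ' using fun j => Submodule.exists_le_ker_of_notMem (hw j)
  have z1 := FX_vanish (z := fun j => (φ j, w j)) (fun Y a hY hm => by
    by_contra hc
    push Not at hc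
    have : ∑ j, a j ≤ ∑ j, (i j : ℤ) := Finset.sum_le_sum fun j _ => le_of_not_gt fun e =>
      hc j (hφ' j (Wf_anti (by omega) (Fil.apply' (hY j) _)))
    omega) main
  have z2 : (∑ ω, f ω) (fun j => (φ j, w j)) = 0 := by
    rw [← Fin.cons_self_tail fun j => (φ j, w j)]
    exact (hU'.ge (x := w 0) trivial) _ _
  rw [Pi.sub_apply, z2, zero_sub, neg_eq_zero, Pi.smul_apply, smul_eq_mul, mul_eq_zero, Finset.card_univ,
    ← Nat.card_eq_fintype_card, ZMod.natCast_eq_zero_iff] at z1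
  exact z1.elim h.syl.not_dvd ((Finset.prod_ne_zero_iff (s := Finset.univ)).2 fun j _ => hφ j)

end Ab

end Cfsg.Agent.H5.NE
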