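import Mathlib
import Cfsg.Agent.H5.MaxCl2
import Cfsg.Agent.H90.LieGroup
import Cfsg.Agent.H90.HallPetresco

set_option autoImplicit false

/-! Blackburn's theorem on the two-step centralizers of a `p`-group of maximal class (`p` odd):
all of them but the last coincide. -/

namespace Cfsg.Agent.H5

open Cfsg Cfsg.FusionSystem Cfsg.Agent.H97 Cfsg.Agent.H98 Cfsg.Agent.H96
open scoped commutatorElement

section Lie

variable {L : Type*} [LieRing L] {σ : L} {η : ℕ → L} (hη : ∀ j, η (j + 1) = ⁅η j, σ⁆) {i : ℕ}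
  (h0 : ∀ b < i, ⁅η 0, η b⁆ = 0)
include hη

theorem lieB_der (a b : ℕ) : ⁅⁅η a, η b⁆, σ⁆ = ⁅η (a + 1), η b⁆ + ⁅η a, η (b + 1)⁆ := by
  rw [hη, hη, ← lie_skew, leibniz_lie, ← lie_skew σ, ← lie_skew σ, neg_lie, lie_neg, neg_add, neg_neg, neg_neg]

include h0

theorem lieB_low (a : ℕ) : ∀ b, a + b < i → ⁅η a, η b⁆ = 0 := by
  induction a with
  | zero => exact fun b hb => h0 b (by omega)
  | succ a ih =>
    intro b hb
    simpa [ih b (by omega), ih (b + 1) (by omega)] using (lieB_der hη a b).symm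

theorem lieB_mid (a : ℕ) : ∀ b, a + b = i → ⁅η a, η b⁆ = (-1 : ℤ) ^ a • ⁅η 0, η i⁆ := by
  induction a with
  | zero => intro b hb; simp [← hb]
  | succ a ih =>
    intro b hb
    have := lieB_der hη a b
    rw [lieB_low hη h0 a b (by omega), zero_lie, ih (b + 1) (by omega), eq_comm, add_eq_zero_iff_eq_neg] at this
    rw [this, pow_succ, mul_neg_one, neg_smul]

theorem lieB_top {r : ℕ} (hr : i = 2 * r + 1) (m : ℕ) : ∀ a b, a + m = r + 1 → a + b = i + 1 →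
    ⁅η a, η b⁆ = ((m : ℤ) * (-1) ^ a) • ⁅⁅η 0, η i⁆, σ⁆ := by
  induction m with
  | zero =>
    intro a b h1 h2
    simp [show b = a by omega]
  | succ m ih =>
    intro a b h1 h2
    obtain ⟨b, rfl⟩ : ∃ b', b = b' + 1 := ⟨b - 1, by omega⟩
    have := lieB_der hη a b
    rw [lieB_mid hη h0 a b (by omega), ih (a + 1) b (by omega) (by omega), zsmul_lie, eq_comm,
      ← eq_sub_iff_add_eq', ← sub_smul] at this
    rw [this]; congr 1; push_cast; ring

end Lie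

variable {Ω : Type*} [Group Ω] {p : ℕ} {S : Subgroup Ω}

open Classical in
/-- The class of an element in the Lie ring of the lower central series. -/
noncomputable def lcl (S : Subgroup Ω) (i : ℕ) (x : Ω) : (H90.lcsSeries S).Lie :=
  if h : x ∈ S then (H90.lcsSeries S).cls i ⟨x, h⟩ else 0

theorem lcl_eq {i : ℕ} {x : Ω} (h : x ∈ S) : lcl S i x = (H90.lcsSeries S).cls i ⟨x, h⟩ := dif_pos h

theorem lcl_eq_zero {i : ℕ} {x : Ω} (h : x ∈ lc S i) : lcl S i x = 0 ↔ x ∈ lc S (i + 1) := by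
  rw [lcl_eq (lc_le i h), H90.NSeries.cls_eq_zero_iff (mem_lc.2 h)]; exact mem_lc

theorem comm_mem_lc {i j : ℕ} {x y : Ω} (hx : x ∈ lc S i) (hy : y ∈ lc S j) :
    ⁅x, y⁆ ∈ lc S (i + j + 1) := lc_comm hx hy

theorem lcl_lie {i j : ℕ} {x y : Ω} (hx : x ∈ lc S i) (hy : y ∈ lc S j) :
    ⁅lcl S i x, lcl S j y⁆ = lcl S (i + j + 1) ⁅x, y⁆ := by
  rw [lcl_eq (lc_le i hx), lcl_eq (lc_le j hy), H90.NSeries.lie_cls (mem_lc.2 hx) (mem_lc.2 hy),
    lcl_eq (lc_le _ (comm_mem_lc hx hy))]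
  rfl

theorem lcl_pow {i : ℕ} {x : Ω} (h : x ∈ lc S i) (n : ℕ) : lcl S i (x ^ n) = n • lcl S i x := by
  rw [lcl_eq (lc_le i h), ← H90.NSeries.cls_pow (mem_lc.2 h), lcl_eq (lc_le i (pow_mem h n))]
  rfl

theorem lcl_lie_zero {i : ℕ} {x y : Ω} (hx : x ∈ S) (hy : y ∈ lc S i) :
    ⁅lcl S i y, lcl S 0 x⁆ = 0 ↔ y⁻¹ * (x * y * x⁻¹) ∈ lc S (i + 2) := by
  have e : lcl S i y⁻¹ = -lcl S i y := by
    rw [lcl_eq (lc_le i hy), ← H90.NSeries.cls_inv (mem_lc.2 hy), lcl_eq (lc_le i (inv_mem hy))]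
    rfl
  rw [← neg_eq_zero, ← neg_lie, ← e, lcl_lie (inv_mem hy) (j := 0) hx,
    lcl_eq_zero (comm_mem_lc (inv_mem hy) (j := 0) hx), commutatorElement_def, inv_inv, mul_assoc, mul_assoc,
    mul_assoc x]

theorem mem_of_pow_pow {N : Subgroup Ω} {x : Ω} {a b : ℕ} (ha : x ^ a ∈ N) (hb : x ^ b ∈ N)
    (h : a.Coprime b) : x ∈ N := by
  have := N.mul_mem (N.zpow_mem ha (a.gcdA b)) (N.zpow_mem hb (a.gcdB b))
  rwa [← zpow_natCast, ← zpow_natCast, ← zpow_mul, ← zpow_mul, ← zpow_add, ← Nat.gcd_eq_gcd_ab, h,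
    Nat.cast_one, zpow_one] at this

namespace MxC

variable [hp : Fact p.Prime] {c : ℕ} (h : MxC p S c)
include h

theorem mem_Kc_of {i : ℕ} (hi : 1 ≤ i) {x y : Ω} (hx : x ∈ S) (hy : y ∈ lc S i) (hy' : y ∉ lc S (i + 1))
    (e : y⁻¹ * (x * y * x⁻¹) ∈ lc S (i + 2)) : x ∈ Kc S i := by
  by_contra hK
  exact hy' (h.mem_of_not_mem_Kc hi hx hK hy e)

theorem exists_not_mem {i : ℕ} (hi : i ≤ c) : ∃ y ∈ lc S i, y ∉ lc S (i + 1) :=
  SetLike.not_le_iff_exists.1 (h.not_lc_le hi i.lt_succ_self)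

theorem Kc_le_period {j : ℕ} (hj : 1 ≤ j) (hc : j + p - 1 ≤ c) : Kc S j ≤ Kc S (j + p - 1) := fun x hx => by
  have h2 := hp.out.two_le
  obtain ⟨y, hy, hy'⟩ := h.exists_not_mem (i := j) (by omega)
  refine h.mem_Kc_of (by omega) hx.1 (h.pow_mem_add hj hy)
    (by simpa [show j + p - 1 + 1 = j + p by omega] using h.pow_not_mem_add hj hc hy hy') ?_
  have hd := hx.2 y hy
  rw [← conj_pow, ← mul_inv_cancel_left y (x * y * x⁻¹)]
  generalize y⁻¹ * (x * y * x⁻¹) = d at hd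
  have hH : lc S (j + 2) ⊔ Subgroup.zpowers y ≤ S := sup_le (lc_le _) (Subgroup.zpowers_le.2 (lc_le j hy))
  have h1 : ∀ k, (lc S (j + 2) ⊔ Subgroup.zpowers y).lowerCentralSeries (k + 1) ≤ lc S (j + 3 + k) := fun k => by
    induction k with
    | zero =>
      refine commutator_le_of_conj (triv_of_sup_zpowers (hH.trans (lc_normal _)) rfl fun g hg z hz => ?_)
      exact lc_conj' (hH hg) hz
    | succ k ih => exact Subgroup.commutator_mono ih hH
  have h3 := H90.hall_petresco (lc S (j + 2) ⊔ Subgroup.zpowers y) (lc S (j + p - 1 + 2))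
    (Subgroup.mem_sup_right (Subgroup.mem_zpowers y)) (Subgroup.mem_sup_left hd) p fun k k2 kp z hz => by
      obtain ⟨k, rfl⟩ : ∃ k', k = k' + 2 := ⟨k - 2, by omega⟩
      rcases kp.eq_or_lt with e | e
      · exact Subgroup.pow_mem _ (lc_anti (by omega) (h1 k hz)) _
      · obtain ⟨m, hm⟩ := hp.out.dvd_choose_self (by omega) e
        rw [hm, pow_mul]
        exact Subgroup.pow_mem _ (lc_anti (by omega) (h.pow_mem_add (by omega) (h1 k hz))) _
  have h4 : d ^ p ∈ lc S (j + p - 1 + 2) := lc_anti (by omega) (h.pow_mem_add (by omega) hd)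
  have := nconj' (lc_normal _ (Subgroup.pow_mem _ (lc_le _ hd) p |> S.inv_mem)) (inv_mem h3)
  simpa [mul_assoc] using mul_mem this h4

theorem exists_not_mem_three (h3 : 3 ≤ p) {A B C : Subgroup Ω} (hA : ¬ S ≤ A) (hB : ¬ S ≤ B)
    (hC : ¬ S ≤ C) : ∃ s ∈ S, s ∉ A ∧ s ∉ B ∧ s ∉ C := by
  have := h.finite
  obtain ⟨s, hs⟩ := H90.exists_not_mem_of_card_le h.isPGroup (Finset.univ : Finset (Fin 3)) (by simpa)
    (fun j => (![A, B, C] j).subgroupOf S) fun j _ => by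
      rw [ne_eq, Subgroup.subgroupOf_eq_top]
      fin_cases j <;> assumption
  exact ⟨s, s.2, hs 0 (by simp), hs 1 (by simp), hs 2 (by simp)⟩

theorem not_le_Kc {i : ℕ} (hi : 1 ≤ i) (hc : i + 1 ≤ c) : ¬ S ≤ Kc S i := fun e =>
  hp.out.one_lt.ne ((Subgroup.relIndex_eq_one.2 e).symm.trans (h.relIndex_Kc hi hc))

theorem exists_mem_Kc {i : ℕ} (hi : 1 ≤ i) (hc : i + 1 ≤ c) : ∃ t ∈ Kc S i, t ∉ lc S 1 := by
  have := h.relIndex_lc_one (lc_le_Kc i) (Kc_le i) (h.relIndex_Kc hi hc)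
  exact SetLike.not_le_iff_exists.1 fun e => hp.out.one_lt.ne ((Subgroup.relIndex_eq_one.2 e).symm.trans this)

/-- **Blackburn**: the two-step centralizers coincide, except possibly the last one. -/
theorem Kc_eq (h3 : 3 ≤ p) {i : ℕ} (hi : 1 ≤ i) (hc : i + 2 ≤ c) : Kc S i = Kc S 1 := by
  induction i using Nat.strong_induction_on with
  | _ i ih =>
  have r1 := h.relIndex_Kc le_rfl (by omega)
  refine h.eq_Kc_of_le r1 hi (by omega) ?_
  by_cases hip : p ≤ i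
  · rw [← ih (i + 1 - p) (by omega) (by omega) (by omega)]
    simpa [show i + 1 - p + p - 1 = i by omega] using h.Kc_le_period (j := i + 1 - p) (by omega) (by omega)
  rcases hi.eq_or_lt with rfl | h2
  · exact le_rfl
  obtain ⟨t, ht, ht'⟩ := h.exists_mem_Kc le_rfl (by omega)
  rw [← sup_zpowers_eq_of_relIndex_dvd (lc_le_Kc 1) (h.relIndex_lc_one (lc_le_Kc 1) (Kc_le 1) r1).dvd ht ht']
  refine sup_le (lc_le_Kc i) (Subgroup.zpowers_le.2 ?_)
  by_contra hti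
  obtain ⟨s, hs, s1, s2, s3⟩ := h.exists_not_mem_three h3 (h.not_le_Kc le_rfl (by omega))
    (h.not_le_Kc hi (by omega)) (h.not_le_Kc (i := i + 1) (by omega) hc)
  let y : ℕ → Ω := fun j => Nat.rec t (fun _ z => ⁅z, s⁆) j
  have hy : ∀ j, y j ∈ lc S j := fun j => by
    induction j with
    | zero => exact ht.1
    | succ j ih => exact comm_mem_lc ih (j := 0) hs
  have hη : ∀ j, lcl S (j + 1) (y (j + 1)) = ⁅lcl S j (y j), lcl S 0 s⁆ := fun j =>
    (lcl_lie (hy j) (j := 0) hs).symm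
  have hK : ∀ j, 1 ≤ j → j < i → Kc S j = Kc S 1 := fun j h1 h2 => ih j h2 h1 (by omega)
  have hy' : ∀ j ≤ i, y j ∉ lc S (j + 1) := fun j hj => by
    induction j with
    | zero => exact ht'
    | succ j ih' =>
      rw [← lcl_eq_zero (hy _), hη, lcl_lie_zero hs (hy j)]
      refine fun e => ih' (by omega) ?_
      rcases j.eq_zero_or_pos with rfl | hj0
      · exact h.mem_of_not_mem (by omega) (lc_le_Kc 1) (Kc_le 1) r1 hs s1 ht e
      · exact h.mem_of_not_mem_Kc hj0 hs (hK j hj0 hj ▸ s1) (hy j) e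
  have h0 : ∀ b < i, ⁅lcl S 0 (y 0), lcl S b (y b)⁆ = 0 := fun b hb => by
    rcases b.eq_zero_or_pos with rfl | hb0
    · exact lie_self _
    · rw [← lie_skew, neg_eq_zero]
      exact (lcl_lie_zero ht.1 (hy b)).2 ((hK b hb0 hb ▸ ht : t ∈ Kc S b).2 _ (hy b))
  have ha : ⁅lcl S 0 (y 0), lcl S i (y i)⁆ ≠ 0 := fun e => hti (h.mem_Kc_of hi ht.1 (hy i) (hy' i le_rfl)
    ((lcl_lie_zero ht.1 (hy i)).1 (by rw [← lie_skew, neg_eq_zero]; exact e)))
  have hm := lieB_mid (η := fun j => lcl S j (y j)) hη h0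
  have hu : ∀ (a : ℕ) (v : (H90.lcsSeries S).Lie), (-1 : ℤ) ^ a • v = 0 → v = 0 := fun a v e => by
    rcases neg_one_pow_eq_or ℤ a with e' | e' <;> simpa [e'] using e
  obtain ⟨r, hr | hr⟩ := Nat.even_or_odd' i
  · exact ha (hu r _ ((hm r r (by omega)).symm.trans (lie_self _)))
  have hz := comm_mem_lc (hy 0) (hy i)
  rw [zero_add] at hz
  have hz' : ⁅y 0, y i⁆ ∉ lc S (i + 2) := fun e => ha (by
    rw [lcl_lie (hy 0) (hy i), zero_add, lcl_eq_zero hz]; exact e)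
  have t1 : t ∈ Kc S (i + 1) := by
    obtain ⟨i, rfl⟩ : ∃ i', i = i' + 1 := ⟨i - 1, by omega⟩
    have hw := comm_mem_lc (hy 1) (hy i)
    have e1 := lcl_lie (hy 1) (hy i)
    rw [show 1 + i + 1 = i + 1 + 1 by omega] at hw e1
    refine h.mem_Kc_of (by omega) ht.1 hw (fun e => ha (hu 1 _ ?_)) ((lcl_lie_zero ht.1 hw).1 ?_)
    · rw [← hm 1 i (by omega), e1, lcl_eq_zero hw]; exact e
    · rw [← e1, ← lie_skew, neg_eq_zero, leibniz_lie]
      erw [h0 1 (by omega), h0 i (by omega)]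
      simp
  have e2 := lieB_top (η := fun j => lcl S j (y j)) hη h0 hr (r + 1) 0 (i + 1) (by omega) (by omega)
  have hv := comm_mem_lc hz (j := 0) hs
  rw [← lie_skew, show lcl S 0 (y 0) = lcl S 0 t from rfl, (lcl_lie_zero ht.1 (hy _)).2 (t1.2 _ (hy _)), neg_zero,
    pow_zero, mul_one, natCast_zsmul, show lcl S 0 t = lcl S 0 (y 0) from rfl, lcl_lie (hy 0) (hy i), zero_add,
    lcl_lie hz (j := 0) hs, ← lcl_pow hv, eq_comm, lcl_eq_zero (Subgroup.pow_mem _ hv _)] at e2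
  have e3 : ⁅⁅y 0, y i⁆, s⁆ ∈ lc S (i + 1 + 0 + 1 + 1) :=
    mem_of_pow_pow e2 (lc_anti (by omega) (h.pow_mem_add (by omega) hv))
      (Nat.coprime_of_lt_prime (by omega) (by omega) hp.out).symm
  exact hz' (h.mem_of_not_mem_Kc (by omega) hs s3 hz ((lcl_lie_zero hs hz).1 (by
    rw [lcl_lie hz (j := 0) hs, lcl_eq_zero hv]; exact e3)))

end MxC

end Cfsg.Agent.H5
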