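import Mathlib
import Cfsg.Agent.H5.NE3
import Cfsg.Agent.H5.NE4
import Cfsg.Agent.H5.Gen3

/-!
# Linear sections of a normal essential subgroup of a `p`-group of maximal class
-/

set_option autoImplicit false

namespace Cfsg.Agent.H5.NE

open Cfsg Cfsg.FusionSystem Cfsg.Agent.H97 Cfsg.Agent.H98 Cfsg.Agent.H96 Cfsg.Agent.H8
open scoped commutatorElement Pointwise

universe u

variable {Ω : Type u} [Group Ω] {p : ℕ} [hp : Fact p.Prime] {S : Subgroup Ω} {F : FusionSystem S}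
  {E B C N : Subgroup Ω}

/-- The section `B / C` of `E` as a module for `Aut_F(E)`. -/
structure Sec (F : FusionSystem S) (E B C : Subgroup Ω) {W : Type*} [AddCommGroup W] [Module (ZMod p) W]
    (π : Ω → W) (ρ : F.autGroup E →* (W →ₗ[ZMod p] W)ˣ) : Prop where
  le : C ≤ B
  leE : B ≤ E
  inv : AutInv F E B
  add : ∀ x ∈ B, ∀ y ∈ B, π (x * y) = π x + π y
  surj : ∀ w, ∃ x ∈ B, π x = w
  ker : ∀ x ∈ B, π x = 0 ↔ x ∈ C
  act : ∀ α, ∀ x ∈ B, (ρ α).val (π x) = π (ext α.1 x)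

theorem exists_rep {X W : Type*} [Group X] [AddCommGroup W] [Module (ZMod p) W] (φ : X → W →+ W)
    (h1 : ∀ w, φ 1 w = w) (hm : ∀ x y w, φ (x * y) w = φ x (φ y w)) :
    ∃ ρ : X →* (W →ₗ[ZMod p] W)ˣ, ∀ x w, (ρ x).val w = φ x w :=
  ⟨MonoidHom.toHomUnits
    { toFun := fun x => (φ x).toZModLinearMap p
      map_one' := by ext a; exact h1 a
      map_mul' := by intro x y; ext a; exact hm x y a }, fun _ _ => rfl⟩

theorem exists_sec [Finite B] (hCB : C ≤ B) (hBE : B ≤ E) (hB : AutInv F E B) (hC : AutInv F E C)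
    (h1 : ⁅B, B⁆ ≤ C) (h2 : ∀ x ∈ B, x ^ p ∈ C) :
    ∃ (W : Type u) (_ : AddCommGroup W) (_ : Module (ZMod p) W) (_ : Finite W) (π : Ω → W)
      (ρ : F.autGroup E →* (W →ₗ[ZMod p] W)ˣ), Sec F E B C π ρ := by
  have hn : (C.subgroupOf B).Normal := ⟨fun a ha b => by
    simpa [mul_assoc, Subgroup.mem_subgroupOf] using C.mul_mem ha (h1 (conj_mem_comm a.2 b.2))⟩
  let i : CommGroup (B ⧸ C.subgroupOf B) := { (inferInstance : Group (B ⧸ C.subgroupOf B)) with
    mul_comm := fun a b => by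
      obtain ⟨a, rfl⟩ := QuotientGroup.mk_surjective a
      obtain ⟨b, rfl⟩ := QuotientGroup.mk_surjective b
      rw [← QuotientGroup.mk_mul, ← QuotientGroup.mk_mul, QuotientGroup.eq]
      simpa [mul_assoc, Subgroup.mem_subgroupOf, commutatorElement_def] using
        h1 (Subgroup.commutator_mem_commutator (B.inv_mem b.2) (B.inv_mem a.2)) }
  have hV : ∀ a : Additive (B ⧸ C.subgroupOf B), p • a = 0 := fun a => by
    obtain ⟨b, hb⟩ := QuotientGroup.mk_surjective a.toMul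
    change a.toMul ^ p = 1
    rw [← hb, ← QuotientGroup.mk_pow, QuotientGroup.eq_one_iff]
    exact h2 _ b.2
  let m := AddCommGroup.zmodModule hV
  let r : F.autGroup E → (B →* B) := fun α =>
    ((homOn_ext α.1).mono hBE).toHom.codRestrict B fun x => hB α α.2 x x.2
  let b : F.autGroup E → (B ⧸ C.subgroupOf B →* B ⧸ C.subgroupOf B) := fun α =>
    QuotientGroup.map _ _ (r α) fun x hx => hC α α.2 x hx
  have hb : ∀ α (x : B), b α (x : B ⧸ C.subgroupOf B) = (r α x : B) := fun _ _ => rfl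
  obtain ⟨e, he⟩ := exists_rep (p := p) (fun α => MonoidHom.toAdditive (b α)) (fun y => by
        obtain ⟨x, hx⟩ := QuotientGroup.mk_surjective y.toMul
        change b 1 y.toMul = y.toMul
        rw [← hx, hb]; congr 1; exact Subtype.ext (ext_one (P := E) (x : Ω))) fun α β y => by
        obtain ⟨x, hx⟩ := QuotientGroup.mk_surjective y.toMul
        change b (α * β) y.toMul = b α (b β y.toMul)
        rw [← hx, hb, hb, hb]; congr 1; exact Subtype.ext (ext_mul α.1 β.1 x)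
  let q := fn (QuotientGroup.mk' (C.subgroupOf B))
  refine ⟨_, inferInstance, m, inferInstance, fun x => Additive.ofMul (q x), e, hCB, hBE, hB,
    fun x hx y hy => congrArg Additive.ofMul (homOn_fn (QuotientGroup.mk' (C.subgroupOf B)) x hx y hy),
    fun w => ?_, fun x hx => ?_, fun α x hx => ?_⟩
  · obtain ⟨x, hx⟩ := QuotientGroup.mk_surjective w.toMul
    exact ⟨x, x.2, by simp only [q, fn_coe]; exact congrArg Additive.ofMul hx⟩
  · change q x = 1 ↔ _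
    simp only [q, fn_apply _ hx]; exact QuotientGroup.eq_one_iff _
  · rw [he]
    change b α (q x) = q _
    simp only [q, fn_apply _ hx, fn_apply _ (hB α α.2 x hx)]; rfl

/-- Conjugation by `S` on a normal subgroup. -/
def cjH (F : FusionSystem S) (hE : E ≤ S) (hn : S ≤ Subgroup.normalizer (E : Set Ω)) : S →* F.autGroup E :=
  (E.normalizerMonoidHom.comp (Subgroup.inclusion hn)).codRestrict _ fun g =>
    autInducedBy_le_autGroup F hE le_rfl (conjAut_mem_autInducedBy g.2 (hn g.2))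

theorem ext_cjH (hE : E ≤ S) (hn : S ≤ Subgroup.normalizer (E : Set Ω)) (g : S) {x : Ω} (hx : x ∈ E) :
    ext (cjH F hE hn g).1 x = g * x * (g : Ω)⁻¹ := ext_conjAut (hn g.2) hx

theorem mem_range_cjH (hE : E ≤ S) (hn : S ≤ Subgroup.normalizer (E : Set Ω)) {α : F.autGroup E} :
    α ∈ (cjH F hE hn).range ↔ α.1 ∈ autInducedBy S E := by
  refine ⟨fun ⟨g, e⟩ => e ▸ conjAut_mem_autInducedBy g.2 (hn g.2), fun h => ?_⟩
  obtain ⟨g, hg, e⟩ := mem_autInducedBy_iff.1 h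
  exact ⟨⟨g, hg⟩, Subtype.ext (aut_ext fun x hx => by rw [ext_cjH _ _ _ hx, e x hx])⟩

theorem syl_cjH [Finite S] (hS : IsPGroup p S) (hF : F.IsSaturated p) (hE : F.IsEssential p E)
    (hn : S ≤ Subgroup.normalizer (E : Set Ω)) : IsSylowIn p (cjH F (ess_le hE) hn).range ⊤ := by
  have := finite_mulAut (ess_le hE)
  have h := sat_sylIn hS hF hE.2.1
  have h1 : IsSylowIn p _ _ := ⟨h.le, h.isPGroup, h.not_dvd_relIndex⟩
  have h2 := h1.subgroupOf le_rfl
  rw [Subgroup.subgroupOf_self] at h2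
  convert h2
  ext α
  exact mem_range_cjH _ _

omit hp in
theorem triv_lc {f : Ω → Ω} (hf : HomOn S f) (hm : ∀ x ∈ S, f x ∈ S) (h : ∀ x ∈ S, x⁻¹ * f x ∈ lc S 1)
    (j : ℕ) {y : Ω} (hy : y ∈ lc S j) : y⁻¹ * f y ∈ lc S (j + 1) := by
  let θ : S →* S := hf.toHom.codRestrict S fun x => hm x x.2
  have h0 : ∀ (i : ℕ) (x : S), x ∈ (H90.lcsSeries S).N i → (x⁻¹ * θ x ∈ (H90.lcsSeries S).N (i + 1) ↔
      (H90.lcsSeries S).cls i (θ x) = (H90.lcsSeries S).cls i x) := fun i x hx => by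
    have h2 : θ x ∈ (H90.lcsSeries S).N i := H90.map_mem_lcs θ i x hx
    rw [← H90.NSeries.cls_eq_zero_iff (mul_mem (inv_mem hx) h2), H90.NSeries.cls_mul (inv_mem hx) h2,
      H90.NSeries.cls_inv hx, neg_add_eq_zero, eq_comm]
  have h1 := H90.cls_map_eq_pow_smul θ 1 (fun x => by
    rw [one_smul]; exact (h0 0 x (Subgroup.mem_top _)).1 (mem_lc.2 (h x x.2))) j ⟨y, lc_le j hy⟩ (mem_lc.2 hy)
  rw [one_pow, one_smul] at h1
  exact mem_lc.1 ((h0 j _ (mem_lc.2 hy)).2 h1)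

variable {W : Type*} [AddCommGroup W] [Module (ZMod p) W] {π : Ω → W}
  {ρ : F.autGroup E →* (W →ₗ[ZMod p] W)ˣ}

/-- The image of a subgroup in the section. -/
def Us (p : ℕ) [Module (ZMod p) W] (π : Ω → W) (N : Subgroup Ω) : Submodule (ZMod p) W :=
  Submodule.span _ (π '' N)

set_option linter.unusedSectionVars false in
theorem mem_Us {y : Ω} (hy : y ∈ N) : π y ∈ Us p π N := Submodule.subset_span ⟨y, hy, rfl⟩

namespace Sec

variable (h : Sec F E B C π ρ)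
include h

theorem map_one : π 1 = 0 := (h.ker 1 B.one_mem).2 C.one_mem

theorem map_pow {y : Ω} (hy : y ∈ B) (n : ℕ) : π (y ^ n) = (n : ZMod p) • π y := by
  induction n with
  | zero => simpa using h.map_one
  | succ n ih => rw [pow_succ, h.add _ (pow_mem hy n) _ hy, ih, Nat.cast_succ, add_smul, one_smul]

theorem map_inv {y : Ω} (hy : y ∈ B) : π y⁻¹ = -π y := by
  rw [eq_neg_iff_add_eq_zero, ← h.add _ (inv_mem hy) _ hy, inv_mul_cancel, h.map_one]

theorem sub {x y : Ω} (hx : x ∈ B) (hy : y ∈ B) : π (x⁻¹ * y) = π y - π x := by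
  rw [h.add _ (inv_mem hx) _ hy, h.map_inv hx, neg_add_eq_sub]

theorem sub_one (α : F.autGroup E) {y : Ω} (hy : y ∈ B) : ((ρ α).val - 1) (π y) = π (y⁻¹ * ext α.1 y) := by
  rw [h.sub hy (h.inv _ α.2 y hy), ← h.act α y hy]; rfl

theorem eq_one_iff {α : F.autGroup E} : ρ α = 1 ↔ ∀ y ∈ B, y⁻¹ * ext α.1 y ∈ C := by
  have k : ∀ y ∈ B, ((ρ α).val - 1) (π y) = 0 ↔ y⁻¹ * ext α.1 y ∈ C := fun y hy => by
    rw [h.sub_one α hy, h.ker _ (mul_mem (inv_mem hy) (h.inv _ α.2 y hy))]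
  refine ⟨fun e y hy => (k y hy).1 (by simp [e]), fun e => Units.ext (sub_eq_zero.1 (LinearMap.ext fun w => ?_))⟩
  obtain ⟨y, hy, rfl⟩ := h.surj w
  exact (k y hy).2 (e y hy)

theorem exists_of_mem (hN : N ≤ B) {w : W} (hw : w ∈ Us p π N) : ∃ y ∈ N, π y = w := by
  induction hw using Submodule.span_induction with
  | mem w hw => exact hw
  | zero => exact ⟨1, N.one_mem, h.map_one⟩
  | add _ _ _ _ h1 h2 =>
    obtain ⟨y, hy, rfl⟩ := h1
    obtain ⟨z, hz, rfl⟩ := h2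
    exact ⟨y * z, N.mul_mem hy hz, h.add _ (hN hy) _ (hN hz)⟩
  | smul a _ _ h1 =>
    obtain ⟨y, hy, rfl⟩ := h1
    exact ⟨y ^ a.val, N.pow_mem hy _, by rw [h.map_pow (hN hy), ZMod.natCast_zmod_val]⟩

theorem mem_of_mem (hC : C ≤ N) (hN : N ≤ B) {y : Ω} (hy : y ∈ B) (hw : π y ∈ Us p π N) : y ∈ N := by
  obtain ⟨z, hz, e⟩ := h.exists_of_mem hN hw
  have := hC ((h.ker _ (mul_mem (inv_mem (hN hz)) hy)).1 (by rw [h.sub (hN hz) hy, e, sub_self]))
  simpa using N.mul_mem hz this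

/-- Invariant submodules come from invariant subgroups. -/
theorem irr (hne : ¬ B ≤ C) (hi : ∀ N, C ≤ N → N ≤ B → AutInv F E N → N = C ∨ N = B) :
    IsIrreducibleFor ρ.range := by
  obtain ⟨y, hy, hy'⟩ := SetLike.not_le_iff_exists.1 hne
  refine ⟨⟨π y, fun e => hy' ((h.ker y hy).1 e)⟩, fun V hV => ?_⟩
  let N : Subgroup Ω :=
    { carrier := {y | y ∈ B ∧ π y ∈ V}
      one_mem' := ⟨B.one_mem, h.map_one ▸ V.zero_mem⟩
      mul_mem' := fun ha hb => ⟨B.mul_mem ha.1 hb.1, h.add _ ha.1 _ hb.1 ▸ V.add_mem ha.2 hb.2⟩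
      inv_mem' := fun ha => ⟨B.inv_mem ha.1, h.map_inv ha.1 ▸ V.neg_mem ha.2⟩ }
  refine (hi N (fun z hz => ⟨h.le hz, (h.ker z (h.le hz)).2 hz ▸ V.zero_mem⟩) (fun z hz => hz.1)
    fun α hα z hz => ⟨h.inv α hα z hz.1, ?_⟩).imp (fun e => ?_) fun e => ?_
  · rw [← h.act ⟨α, hα⟩ z hz.1]; exact hV _ ⟨_, rfl⟩ _ hz.2
  · refine eq_bot_iff.2 fun w hw => ?_
    obtain ⟨z, hz, rfl⟩ := h.surj w
    exact (h.ker z hz).2 (e.le ⟨hz, hw⟩)
  · refine eq_top_iff.2 fun w _ => ?_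
    obtain ⟨z, hz, rfl⟩ := h.surj w
    exact (e.ge hz).2

end Sec

end Cfsg.Agent.H5.NE
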