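import Mathlib
import Cfsg.Agent.H5.NE5

/-!
# Normal essential subgroups inside the derived subgroup of a `p`-group of maximal class
-/

set_option autoImplicit false
set_option linter.unusedSectionVars false

namespace Cfsg.Agent.H5.NE

open Cfsg Cfsg.FusionSystem Cfsg.Agent.H97 Cfsg.Agent.H98 Cfsg.Agent.H96 Cfsg.Agent.H8
open scoped commutatorElement Pointwise

universe u

variable {Ω : Type u} [Group Ω] {p : ℕ} [hp : Fact p.Prime] {S : Subgroup Ω} [Finite S] {F : FusionSystem S}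
  {E : Subgroup Ω} {c a d : ℕ}

theorem uni_of (h : MxC p S c) (h3 : 3 ≤ p) {s : Ω} (hs : s ∈ S) (h1 : s ∉ Kc S 1) (h2 : s ∉ Kc S (c - 1)) :
    MxC.Uni S c s := ⟨hs, fun i hi hc => by
  by_cases e : i + 2 ≤ c
  · rwa [h.Kc_eq h3 hi e]
  · rwa [show i = c - 1 by omega]⟩

theorem exists_uni (h : MxC p S c) (h3 : 3 ≤ p) (hc : 2 ≤ c) : ∃ s : S, MxC.Uni S c s := by
  obtain ⟨s, hs1, hs2, hs3, -⟩ := h.exists_not_mem_three h3 (h.not_le_Kc (i := 1) le_rfl hc)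
    (h.not_le_Kc (i := c - 1) (by omega) (by omega)) (h.not_le_Kc (i := 1) le_rfl hc)
  exact ⟨⟨s, hs1⟩, uni_of h h3 hs1 hs2 hs3⟩

theorem eq_lc_of (h : MxC p S c) {N : Subgroup Ω} (ha : 1 ≤ a) (hc : a ≤ c + 1) (hN : N ≤ lc S a)
    (hn : S ≤ Subgroup.normalizer (N : Set Ω)) : ∃ d, a + d ≤ c + 1 ∧ N = lc S (a + d) := by
  rcases h.normal_cases (hN.trans (lc_le a)) hn with ⟨b, h1, h2, e⟩ | ⟨e, -⟩
  · rcases le_or_gt a b with hb | hb
    · exact ⟨b - a, by omega, by rw [e]; congr 1; omega⟩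
    · exact absurd (e.ge.trans hN) (h.not_lc_le (by omega) hb)
  · exact ⟨0, hc, le_antisymm hN ((lc_anti ha).trans e)⟩

/-- A normal essential subgroup contained in the derived subgroup. -/
structure NEs (p : ℕ) (F : FusionSystem S) (E : Subgroup Ω) (c : ℕ) : Prop where
  mx : MxC p S c
  sat : F.IsSaturated p
  ess : F.IsEssential p E
  nrm : S ≤ Subgroup.normalizer (E : Set Ω)
  h5 : 5 ≤ p
  c2 : 2 ≤ c
  le1 : E ≤ lc S 1

/-- A lower central section of a normal essential subgroup as a module. -/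
structure Ctx (F : FusionSystem S) (E : Subgroup Ω) (c a d : ℕ) {W : Type*} [AddCommGroup W]
    [Module (ZMod p) W] (π : Ω → W) (ρ : F.autGroup E →* (W →ₗ[ZMod p] W)ˣ) : Prop extends NEs p F E c where
  a1 : 1 ≤ a
  ad : a + d ≤ c + 1
  sec : Sec F E (lc S a) (lc S (a + d)) π ρ

variable {W : Type*} [AddCommGroup W] [Module (ZMod p) W] [Finite W] {π : Ω → W}
  {ρ : F.autGroup E →* (W →ₗ[ZMod p] W)ˣ}

namespace Ctx

/-- The action of `S` on the section. -/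
def sg (h : Ctx F E c a d π ρ) : S →* (W →ₗ[ZMod p] W)ˣ := ρ.comp (cjH F (ess_le h.ess) h.nrm)

variable (h : Ctx F E c a d π ρ)
include h

theorem sg_sub (g : S) {y : Ω} (hy : y ∈ lc S a) :
    ((h.sg g).val - 1) (π y) = π (y⁻¹ * (g * y * (g : Ω)⁻¹)) := by
  rw [← ext_cjH (F := F) (ess_le h.ess) h.nrm g (h.sec.leE hy)]; exact h.sec.sub_one _ hy

theorem sg_eq_one {g : S} : h.sg g = 1 ↔ ∀ y ∈ lc S a, y⁻¹ * (g * y * (g : Ω)⁻¹) ∈ lc S (a + d) :=
  h.sec.eq_one_iff.trans (forall₂_congr fun y hy => by rw [ext_cjH _ _ _ (h.sec.leE hy)])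

theorem flag {s : S} (hs : MxC.Uni S c s) : RN ((h.sg s).val - 1) d ∧
    ∀ j ≤ d, Us p π (lc S (a + j)) = Wf ((h.sg s).val - 1) j := by
  have hl : ∀ j, lc S (a + j) ≤ lc S a := fun j => lc_anti (by omega)
  have a1 := h.a1
  have ad := h.ad
  refine rn_of_flag (fun j => Us p π (lc S (a + j))) (eq_top_iff.2 fun w _ => ?_) (eq_bot_iff.2 fun w hw => ?_)
    (fun j w hw => ?_) (fun j w hw hw' v hv => ?_) (fun j hj w hw hw' => ?_) fun hd e => ?_
  · obtain ⟨y, hy, rfl⟩ := h.sec.surj w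
    exact mem_Us hy
  · obtain ⟨y, hy, rfl⟩ := h.sec.exists_of_mem (hl d) hw
    exact (h.sec.ker y (hl d hy)).2 hy
  · obtain ⟨y, hy, rfl⟩ := h.sec.exists_of_mem (hl j) hw
    rw [h.sg_sub s (hl j hy)]
    exact mem_Us (lc_conj' s.2 hy)
  · obtain ⟨y, hy, rfl⟩ := h.sec.exists_of_mem (hl j) hw
    obtain ⟨z, hz, rfl⟩ := h.sec.exists_of_mem (hl j) hv
    rw [← h.mx.sup_eq (by omega) hy fun e => hw' (mem_Us e),
      mem_sup_zpowers_iff_nat (lc_normal _ (lc_le _ hy)) (isOfFinOrder_of_mem (lc_le _ hy))] at hz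
    obtain ⟨b, hb, k, rfl⟩ := hz
    refine ⟨k, ?_⟩
    rw [h.sec.add _ (hl (j + 1) hb) _ (pow_mem (hl j hy) k), h.sec.map_pow (hl j hy), add_sub_cancel_right]
    exact mem_Us hb
  · obtain ⟨y, hy, rfl⟩ := h.sec.exists_of_mem (hl j) hw
    rw [h.sg_sub s (hl j hy)] at hw'
    exact mem_Us (h.mx.mem_of_not_mem_Kc (i := a + j) (by omega) s.2 (hs.2 _ (by omega) (by omega)) hy
      (h.sec.mem_of_mem (lc_anti (by omega)) (hl (j + 2)) (hl (j + 1) (lc_conj' s.2 hy)) hw'))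
  · obtain ⟨y, hy, hy'⟩ := h.mx.exists_not_mem (i := a) (by omega)
    exact hy' (h.sec.mem_of_mem (lc_anti (by omega)) (hl 1) hy (e.ge (Submodule.mem_top)))

theorem up {s : S} (hs : MxC.Uni S c s) {j : ℕ} {y : Ω} (hy : y ∈ lc S (a + j)) :
    π y ∈ Wf ((h.sg s).val - 1) j := by
  rcases le_total j d with hj | hj
  · exact ((h.flag hs).2 j hj).le (mem_Us hy)
  · rw [(h.sec.ker y (lc_anti (by omega) hy)).2 (lc_anti (by omega) hy)]; exact zero_mem _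

theorem down {s : S} (hs : MxC.Uni S c s) {j : ℕ} {w : W} (hw : w ∈ Wf ((h.sg s).val - 1) j) :
    ∃ y ∈ lc S (a + j), π y = w := by
  rcases le_total j d with hj | hj
  · exact h.sec.exists_of_mem (lc_anti (by omega)) (((h.flag hs).2 j hj).ge hw)
  · exact ⟨1, one_mem _, by rw [(h.flag hs).1.eq_zero (by exact_mod_cast hj) hw, h.sec.map_one]⟩

theorem fil {s : S} (hs : MxC.Uni S c s) {i : ℕ} {g : S} (hg : (g : Ω) ∈ lc S i) :
    (h.sg g).val - 1 ∈ Fil ((h.sg s).val - 1) (i + 1 : ℕ) := mem_Fil_of fun j w hw => by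
  obtain ⟨y, hy, rfl⟩ := h.down hs hw
  rw [h.sg_sub g (lc_anti (by omega) hy)]
  rw [← Nat.cast_add]
  exact h.up hs (lc_anti (by omega) (lc_conj hg hy))

theorem lt : d < p := by
  by_contra hd
  have := h.ad
  have := h.h5
  obtain ⟨y, hy, hy'⟩ := h.mx.exists_not_mem (i := a) (by omega)
  refine h.mx.pow_not_mem_add h.a1 (by omega) hy hy' (lc_anti (by omega) ((h.sec.ker _ (pow_mem hy p)).1 ?_))
  rw [h.sec.map_pow hy, ZMod.natCast_self, zero_smul]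

theorem syl : IsSylowIn p h.sg.range ρ.range := by
  have := finite_mulAut (ess_le h.ess)
  have := (syl_cjH h.mx.isPGroup h.sat h.ess h.nrm).map ρ
  rwa [← MonoidHom.range_eq_map, ← MonoidHom.range_comp] at this

theorem neg (hd : 0 < d) (hk : ∀ g : S, h.sg g = 1 → (g : Ω) ∈ E) : ∀ g ∈ ρ.range, g.val ≠ -1 := by
  rintro _ ⟨α, rfl⟩ e
  have := finite_mulAut (ess_le h.ess)
  have hS := h.mx.isPGroup
  have hP := syl_cjH hS h.sat h.ess h.nrm
  set P := (cjH F (ess_le h.ess) h.nrm).range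
  have hc : ∀ v, ρ α * v * (ρ α)⁻¹ = v := fun v => by
    rw [mul_inv_eq_iff_eq_mul]; exact Units.ext (by simp [e])
  obtain ⟨k, ⟨u, hu⟩, hk'⟩ := (hP.mono (K := h.sg.range.comap ρ) (by rintro _ ⟨g, rfl⟩; exact ⟨g, rfl⟩)
    le_top).exists_conj_le (hP.conj_smul α).isPGroup (by
      rintro _ ⟨_, ⟨g, rfl⟩, rfl⟩
      exact ⟨g, by simp only [MulDistribMulAction.toMonoidEnd_apply, MulDistribMulAction.toMonoidHom_apply,
        MulAut.smul_def, MulAut.conj_apply, map_mul, map_inv, hc]; rfl⟩)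
  have hN : normalizerIn S E = S := inf_eq_left.2 h.nrm
  obtain ⟨f, hf, ef⟩ := exists_ext_normalizerIn hS h.sat h.ess.1 (k * α).2 fun b hb => by
    obtain ⟨g, hg⟩ := (mem_range_cjH (F := F) (ess_le h.ess) h.nrm
      (α := ⟨b, autInducedBy_le_autGroup F (ess_le h.ess) le_rfl hb⟩)).2 hb
    have := (mem_range_cjH _ _).1 (hk' (Subgroup.smul_mem_pointwise_smul _ _ _
      (Subgroup.smul_mem_pointwise_smul _ (MulAut.conj α) _ ⟨g, rfl⟩)))
    simpa [hg, mul_assoc] using this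
  rw [hN] at hf
  have h1 : ∀ x ∈ S, x⁻¹ * f x ∈ lc S 1 := fun x hx => by
    have h2 : cjH F (ess_le h.ess) h.nrm ⟨f x, hf.mem x hx⟩ =
        k * α * cjH F (ess_le h.ess) h.nrm ⟨x, hx⟩ * (k * α)⁻¹ := by
      rw [eq_mul_inv_iff_mul_eq]
      refine Subtype.ext (aut_ext fun y hy => ?_)
      rw [Subgroup.coe_mul, Subgroup.coe_mul _ (k * α), ext_mul, ext_mul (k * α).1, ext_cjH _ _ _ hy,
        ext_cjH _ _ _ (ext_mem _ hy), ← ef y hy, ← ef _ (nconj (h.nrm hx) hy), hf.mor.map_conj hx (ess_le h.ess hy)]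
    have h3 : h.sg ((u * ⟨x, hx⟩ * u⁻¹)⁻¹ * ⟨f x, hf.mem x hx⟩) = 1 := by
      rw [map_mul, map_inv, inv_mul_eq_one, map_mul, map_mul, map_inv, hu]
      change _ = ρ _
      rw [h2, map_mul, map_mul, map_inv, map_mul, mul_inv_rev]
      change _ = ρ k * ρ α * h.sg ⟨x, hx⟩ * ((ρ α)⁻¹ * (ρ k)⁻¹)
      calc _ = ρ k * (ρ α * h.sg ⟨x, hx⟩ * (ρ α)⁻¹) * (ρ k)⁻¹ := by rw [hc]
        _ = _ := by group
    simpa [mul_assoc] using (lc S 1).mul_mem (lc_conj' (i := 0) u.2 hx) (h.le1 (hk _ h3))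
  have := h.ad
  obtain ⟨y, hy, hy'⟩ := h.mx.exists_not_mem (i := a) (by omega)
  have h4 := triv_lc hf.mor.homOn hf.mem h1 a hy
  have h5 : f y * (u * y * (u : Ω)⁻¹) ∈ lc S (a + d) := by
    have h6 := h.sec.inv _ (k * α).2 y hy
    have h7 := nconj (lc_normal a u.2) hy
    rw [ef y (h.sec.leE hy), ← h.sec.ker _ (mul_mem h6 h7), h.sec.add _ h6 _ h7, ← h.sec.act _ y hy,
      ← ext_cjH (F := F) (ess_le h.ess) h.nrm u (h.sec.leE hy), ← h.sec.act _ y hy, map_mul, ← hu]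
    simp [e, sg]
  refine hy' (mem_of_pow_pow (a := 2) (b := p) ?_ (lc_anti (by have := h.h5; omega) (h.mx.pow_mem_add h.a1 hy))
    ((Nat.coprime_primes Nat.prime_two hp.out).2 (by have := h.h5; omega)))
  simpa [mul_assoc, sq] using mul_mem (mul_mem (lc_anti (by omega : a + 1 ≤ a + d) h5) (inv_mem (lc_conj' u.2 hy)))
    (inv_mem (nconj' (lc_normal _ (lc_le _ hy)) h4))

theorem comm_of (hE : ∀ g : S, (g : Ω) ∈ E → h.sg g = 1) {g g' : S} (e : (g : Ω) * g' * (g : Ω)⁻¹ * (g' : Ω)⁻¹ ∈ E) :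
    h.sg g * h.sg g' = h.sg g' * h.sg g := by
  have := hE (g * g' * g⁻¹ * g'⁻¹) e
  rwa [map_mul, map_mul, map_mul, map_inv, map_inv, mul_inv_eq_one, mul_inv_eq_iff_eq_mul] at this

theorem exists_pow_mul {s : S} (hs : MxC.Uni S c s) (g : S) :
    ∃ (m : ℕ) (u : S), (u : Ω) ∈ Kc S 1 ∧ g = s ^ m * u := by
  have := h.c2
  have e := sup_zpowers_eq_of_relIndex_dvd (Kc_le 1) (h.mx.relIndex_Kc le_rfl this).dvd s.2 (hs.2 1 le_rfl this)
  obtain ⟨k, hk, m, e⟩ := (mem_sup_zpowers_iff_nat (Kc_normal 1 s.2) (isOfFinOrder_of_mem s.2)).1 (e.ge g.2)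
  exact ⟨m, (s ^ m)⁻¹ * g, by simpa [e, mul_assoc] using nconj' (Kc_normal 1 (pow_mem s.2 m)) hk, by simp⟩

/-- The Frattini quotient of `E = γ_{a+1}(S)`, `a ≥ 2`. -/
theorem false_of_Phi (ha : 2 ≤ a) (hE : E = lc S a) (hΦ : Phi E = lc S (a + d)) : False := by
  have hS := h.mx.isPGroup
  have := finite_of_le (ess_le h.ess)
  have := finite_mulAut (ess_le h.ess)
  have hEp := hS.to_le (ess_le h.ess)
  have := h.ad
  have := h.c2
  have := h.lt
  have := h.h5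
  obtain ⟨s, hs⟩ := exists_uni h.mx (by omega) h.c2
  have hs2 := hs.2 1 le_rfl h.c2
  have hk : ∀ g : S, h.sg g = 1 → (g : Ω) ∈ E := fun g e => ess_mem_of_triv_Phi hS h.ess ⟨g.2, h.nrm g.2⟩
    fun x hx => hΦ.ge (h.sg_eq_one.1 e x (hE.le hx))
  have hk' : ∀ g : S, (g : Ω) ∈ E → h.sg g = 1 := fun g e => h.sg_eq_one.2 fun x hx =>
    hΦ.le (comm_le_Phi hEp (conj_mem_comm (hE.ge hx) e))
  have hp1 : ∀ β, ρ β = 1 → ∃ k, β ^ p ^ k = 1 := fun β e => by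
    obtain ⟨k, hk⟩ := pow_eq_one_of_triv_frattini hEp β.1 fun x => by
      rw [← mem_Phi, hΦ]; simpa using h.sec.eq_one_iff.1 e x (hE.le x.2)
    exact ⟨k, Subtype.ext hk⟩
  have hP := syl_cjH hS h.sat h.ess h.nrm
  have hP' : (cjH F (ess_le h.ess) h.nrm).range ≤ (extAut F E).subgroupOf _ := fun β hβ =>
    ess_autInducedBy_le hS h.sat h.ess ((mem_range_cjH _ _).1 hβ)
  have hker : ρ.ker ≤ (extAut F E).subgroupOf _ := (hP.le_of_le_normalizer (fun β => by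
    obtain ⟨k, hk⟩ := hp1 β.1 β.2
    exact ⟨k, Subtype.ext hk⟩) le_top (by rw [Subgroup.normalizer_eq_top]; exact le_top)).trans hP'
  have hM : ∀ β, ρ β ∈ ((extAut F E).subgroupOf _).map ρ ↔ β.1 ∈ extAut F E := fun β => by
    rw [← Subgroup.mem_comap, Subgroup.comap_map_eq_self hker]; rfl
  have hSE : SE ρ.range (((extAut F E).subgroupOf _).map ρ) := ⟨?_, fun u hu e => ?_, ?_⟩
  rotate_left
  · obtain ⟨γ, hγ, hγ'⟩ := ess_exists_not_mem_extAut hS h.sat h.ess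
    exact ⟨_, ⟨⟨γ, hγ⟩, rfl⟩, fun e => hγ' ((hM _).1 e)⟩
  · obtain ⟨g, hg, hg'⟩ := h.syl.exists_conj_le (isPGroup_zpowers_of_pow_eq_one (k := 1) (by rw [pow_one, e]))
      (Subgroup.zpowers_le.2 hu)
    obtain ⟨v, hv⟩ := hg' (conj_mem_conj_smul.2 (Subgroup.mem_zpowers u))
    exact ⟨g, hg, _, hP' ⟨v, rfl⟩, hv⟩
  · rintro _ ⟨γ, rfl⟩ _ ⟨τ, hτ, rfl⟩ h1 h2 h3
    rw [← map_inv, ← map_mul, ← map_mul, hM] at h3
    obtain ⟨k, hk⟩ := hp1 (τ ^ p) (by rw [map_pow, h2])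
    refine (hM _).2 (ess_mem_extAut hS h.sat h.ess γ.2 hτ (fun e => h1 ?_) (k := k + 1) ?_ h3)
    · obtain ⟨g, hg, e⟩ := mem_inn_iff.1 e
      rw [← hk' ⟨g, ess_le h.ess hg⟩ hg]
      exact congrArg ρ (Subtype.ext (aut_ext fun x hx => (e x hx).trans (ext_cjH _ _ ⟨g, _⟩ hx).symm))
    · rw [pow_succ', pow_mul]; exact congrArg Subtype.val hk
  obtain ⟨e, rfl⟩ : ∃ e, a = e + 2 := ⟨a - 2, by omega⟩
  obtain ⟨u, hu, hu'⟩ : ∃ u : S, (s : Ω)⁻¹ * (u * s * (u : Ω)⁻¹) ∈ lc S (e + 1) ∧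
      ((u : Ω)⁻¹ * (s * u * (s : Ω)⁻¹) ∉ lc S (e + 2)) := by
    rcases e.eq_zero_or_pos with rfl | he
    · obtain ⟨u, hu, hu'⟩ := h.mx.exists_mem_Kc (i := 1) le_rfl (by omega)
      exact ⟨⟨u, hu.1⟩, lc_conj' (i := 0) hu.1 s.2, fun e => hu' (h.mx.mem_of_not_mem (by omega) (lc_le_Kc 1)
        (Kc_le 1) (h.mx.relIndex_Kc le_rfl (by omega)) s.2 hs2 hu e)⟩
    · obtain ⟨u, hu, hu'⟩ := h.mx.exists_not_mem (i := e) (by omega)
      exact ⟨⟨u, lc_le _ hu⟩, lc_anti (by omega) (lc_conj (i := 0) hu s.2), fun e' =>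
        hu' (h.mx.mem_of_not_mem_Kc he s.2 (hs.2 _ he (by omega)) hu e')⟩
  set t := s⁻¹ * (u * s * u⁻¹) with ht
  have ht1 : h.sg t ≠ 1 := fun e => hu' (conj_swap (lc_normal _ u.2) (by
    simpa [ht, mul_assoc] using nconj (lc_normal _ s.2) (inv_mem (hE.le (hk t e)))))
  have hr := (h.flag hs).1
  have h2 : (h.sg t).val - 1 ∈ Fil ((h.sg s).val - 1) (1 + 1 : ℕ) := h.fil hs (lc_anti (by omega) hu)
  have hc : ∀ g : S, h.sg g * h.sg t = h.sg t * h.sg g := fun g => h.comm_of hk'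
    (hE.ge (lc_anti (by omega) (lc_comm (i := 0) g.2 hu)))
  have hF : ∀ g ∈ h.sg.range, g.val - 1 ∈ Fil ((h.sg s).val - 1) 1 := by
    rintro _ ⟨g, rfl⟩; exact h.fil hs (i := 0) g.2
  have hd : 3 ≤ d := by
    by_contra hd
    exact ht1 (Units.ext (sub_eq_zero.1 (hr.eq_zero_of_Fil (by omega) h2)))
  refine quad_false h.h5 h.syl hr hd ⟨s, rfl⟩ (add_sub_cancel _ _).symm hF ?_ (hSE.u0 h.h5) (hSE.opp h.h5)
    (h.neg (by omega) hk) (h.syl.le ⟨t, rfl⟩) ht1 (hr.heis (u := h.sg u) (fun n h0 hn e => ?_) (hF _ ⟨t, rfl⟩) ?_ ?_ ?_)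
  · rintro _ ⟨g, rfl⟩
    obtain ⟨m, v, hv, rfl⟩ := h.exists_pow_mul hs g
    refine ⟨m, fun j hj w hw => ?_⟩
    rw [map_mul, map_pow]
    refine hr.bl_of (add_sub_cancel _ _).symm m hw ?_
    obtain ⟨y, hy, rfl⟩ := h.down hs hw
    rw [h.sg_sub v (lc_anti (by omega) hy)]
    rw [← h.mx.Kc_eq (i := e + 2 + j) (by omega) (by omega) (by omega)] at hv
    exact h.up hs (j := j + 2) (hv.2 y hy)
  · exact absurd (Nat.le_of_dvd h0 ((ZMod.natCast_eq_zero_iff _ _).1 e)) (by omega)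
  · have := congrArg Units.val (hc s)
    simp only [Units.val_mul] at this
    simp only [mul_sub, sub_mul, this, mul_one, one_mul]; abel
  · rw [mul_sub, sub_mul, ← Units.val_mul, hc u, ← Units.val_mul, mul_one, ← Units.val_mul]; simp
  · have : h.sg u * h.sg s * (h.sg u)⁻¹ = h.sg s * h.sg t := by simp [ht]
    rw [mul_sub, sub_mul, ← Units.val_mul, ← Units.val_mul, this, mul_one, ← Units.val_mul, mul_inv_cancel,
      add_sub_cancel, mul_sub, Units.val_mul, Units.val_one, mul_one]; abel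

/-- A chief factor of `E = γ₂(S)` is centralized by the two-step centralizer. -/
theorem triv (hE : E = lc S 1) (ha : a + 2 ≤ c) (hd : 0 < d) (hk' : ∀ g : S, (g : Ω) ∈ E → h.sg g = 1)
    (hi : ∀ N, lc S (a + d) ≤ N → N ≤ lc S a → AutInv F E N → N = lc S (a + d) ∨ N = lc S a)
    {t : S} (ht : (t : Ω) ∈ Kc S 1) : h.sg t = 1 := by
  by_contra ht1
  have := h.ad
  have := h.c2
  have := h.h5
  have := h.a1
  obtain ⟨s, hs⟩ := exists_uni h.mx (by omega) h.c2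
  have hr := (h.flag hs).1
  have hK := h.mx.Kc_eq (i := a) (by omega) h.a1 ha
  have hi1 := h.mx.relIndex_lc_one (lc_le_Kc 1) (Kc_le 1) (h.mx.relIndex_Kc le_rfl h.c2)
  have hc : ∀ g g' : S, h.sg g * h.sg g' = h.sg g' * h.sg g := fun g g' => h.comm_of hk'
    (hE.ge (lc_comm (i := 0) (j := 0) g.2 g'.2))
  have hd2 : 2 ≤ d := by
    by_contra hd
    exact ht1 (Units.ext (sub_eq_zero.1 (hr.eq_zero_of_Fil (by omega) (h.fil hs (i := 0) t.2))))
  have hg : ∀ u : S, (u : Ω) ∈ Kc S 1 → ∀ v : S, (v : Ω) ∈ Kc S 1 → (v : Ω) ∉ E → ∃ l : ℕ, h.sg u = h.sg v ^ l :=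
    fun u hu v hv hv' => by
      obtain ⟨k, hk, l, e⟩ := (mem_sup_zpowers_iff_nat (lc_normal 1 v.2) (isOfFinOrder_of_mem v.2)).1
        ((sup_zpowers_eq_of_relIndex_dvd (lc_le_Kc 1) hi1.dvd hv (hE ▸ hv')).ge hu)
      exact ⟨l, by rw [show u = ⟨k, lc_le 1 hk⟩ * v ^ l from Subtype.ext e, map_mul, hk' _ (hE.ge hk), one_mul, map_pow]⟩
  have hk : ∀ g : S, h.sg g = 1 → (g : Ω) ∈ E := fun g e => by
    by_contra hg'
    obtain ⟨l, e'⟩ := hg t ht g (hK.le ⟨g.2, fun y hy => lc_anti (by omega) (h.sg_eq_one.1 e y hy)⟩) hg'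
    exact ht1 (by rw [e', e, one_pow])
  refine Ab.false (s := h.sg s) (t := h.sg t) ⟨h.syl, hr, h.lt, ⟨s, rfl⟩, ⟨t, rfl⟩, (add_sub_cancel _ _).symm, ht1,
    mem_Fil_of fun j w hw => ?_, hc s t, ?_, ?_⟩ h.h5 (h.sec.irr (h.mx.not_lc_le (by omega) (by omega)) hi)
    (h.neg hd hk)
  · obtain ⟨v, rfl⟩ := mem_Wf.1 hw
    obtain ⟨y, hy, rfl⟩ := h.sec.surj v
    have h1 : Commute ((h.sg t).val - 1) ((h.sg s).val - 1) :=
      Commute.sub_left (Commute.sub_right (congrArg Units.val (hc t s)) (Commute.one_right _)) (Commute.one_left _)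
    rw [← Module.End.mul_apply, (h1.pow_right j).eq, Module.End.mul_apply, h.sg_sub t hy]
    exact Fil.apply (pow_mem_Fil j) (h.up hs (j := 2) ((hK.ge ht).2 y hy)) (by omega)
  · rintro _ ⟨g, rfl⟩
    obtain ⟨m, v, hv, rfl⟩ := h.exists_pow_mul hs g
    obtain ⟨l, e⟩ := hg v hv t ht fun e => ht1 (hk' t e)
    exact ⟨m, l, by rw [map_mul, map_pow, e]⟩
  · rw [← Subgroup.index_ker, ← h.mx.relIndex_lc_top (i := 1) le_rfl (by omega), ← hE]
    congr 1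
    exact Subgroup.ext fun g => ⟨hk g, hk' g⟩

end Ctx

theorem tr_conj {γ β : MulAut E} {B C B' C' : Subgroup Ω} (hBE : B' ≤ E) (hB : ∀ x ∈ B, ext γ⁻¹ x ∈ B')
    (hC : ∀ x ∈ C', ext γ x ∈ C) (h : ∀ x ∈ B', x⁻¹ * ext β x ∈ C') :
    ∀ x ∈ B, x⁻¹ * ext (γ * β * γ⁻¹) x ∈ C := by
  intro x hx
  have h1 := hB x hx
  have h2 := hC _ (h _ h1)
  rwa [(homOn_ext γ).map_mul (E.inv_mem (hBE h1)) (ext_mem _ (hBE h1)),
    (homOn_ext γ).map_inv (hBE h1), ext_ext_inv, ← ext_mul, ← ext_mul] at h2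

namespace NEs

variable (h : NEs p F E c)
include h

theorem norm_of {A : Subgroup Ω} (hA : AutInv F E A) (hAE : A ≤ E) : S ≤ Subgroup.normalizer (A : Set Ω) :=
  Subgroup.le_normalizer_iff.2 fun _ hg _ hx => hA.conj_mem (ess_le h.ess) hAE ⟨hg, h.nrm hg⟩ hx

theorem false_of_two (ha : 2 ≤ a) (hc : a ≤ c + 1) (hE : E = lc S a) : False := by
  have := finite_of_le (ess_le h.ess)
  have hEp := h.mx.isPGroup.to_le (ess_le h.ess)
  obtain ⟨d, hd, e⟩ := eq_lc_of h.mx (by omega) hc ((Phi_le E).trans hE.le) (h.norm_of (autInv_Phi F E) (Phi_le E))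
  obtain ⟨W, _, _, _, π, ρ, k⟩ := exists_sec (p := p) (Phi_le E) le_rfl (autInv_self F E) (autInv_Phi F E)
    (comm_le_Phi hEp) fun x hx => pow_mem_Phi hEp hx
  exact Ctx.false_of_Phi (π := π) (ρ := ρ) ⟨h, by omega, hd, by rw [← hE, ← e]; exact k⟩ ha hE e

theorem triv (hE : E = lc S 1) (h1 : 1 ≤ a) (ha : a + 2 ≤ c) (hd : 0 < d) (had : a + d ≤ c + 1)
    (hB : AutInv F E (lc S a)) (hC : AutInv F E (lc S (a + d)))
    (hm : ∀ j, 0 < j → j < d → ¬ AutInv F E (lc S (a + j))) {t : Ω} (ht : t ∈ Kc S 1) :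
    ∀ y ∈ lc S a, y⁻¹ * (t * y * t⁻¹) ∈ lc S (a + d) := by
  have := finite_of_le (ess_le h.ess)
  have := finite_of_le (lc_le (S := S) a)
  have hBE : lc S a ≤ E := (lc_anti h1).trans hE.ge
  have hBp := h.mx.isPGroup.to_le (lc_le (S := S) a)
  have hi : ∀ N, lc S (a + d) ≤ N → N ≤ lc S a → AutInv F E N → N = lc S (a + d) ∨ N = lc S a := fun N h2 h3 h4 => by
    obtain ⟨j, hj, rfl⟩ := eq_lc_of h.mx h1 (by omega) h3 (h.norm_of h4 (h3.trans hBE))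
    rcases j.eq_zero_or_pos with rfl | h0
    · exact Or.inr rfl
    · exact Or.inl (le_antisymm (lc_anti (by by_contra hj; exact hm j h0 (by omega) h4)) h2)
  have h2 : ⁅lc S a, E⁆ ≤ lc S (a + 1) := commutator_le_of_conj fun g hg x hx => lc_conj' (ess_le h.ess hg) hx
  have h3 : Phi (lc S a) ≤ lc S (a + 1) := Phi_le_of_relIndex_dvd hBp (lc_anti (by omega)) (h.mx.relIndex_lc_succ h1)
  have h4 : lc S (a + 1) ≤ lc S a := lc_anti (by omega)
  have h5 : ⁅lc S a, E⁆ ⊔ Phi (lc S a) ⊔ lc S (a + d) ≤ lc S (a + 1) := sup_le (sup_le h2 h3) (lc_anti (by omega))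
  have h6 := (hi _ le_sup_right (h5.trans h4) (((hB.commutator (autInv_self F E) hBE le_rfl).sup (hB.phi hBE)
    ((h2.trans h4).trans hBE) ((h3.trans h4).trans hBE)).sup hC (((sup_le h2 h3).trans h4).trans hBE)
    ((lc_anti (by omega)).trans hBE))).resolve_right fun e => h.mx.not_lc_le (by omega) a.lt_succ_self (e.ge.trans h5)
  have h7 := (le_sup_left.trans le_sup_left).trans h6.le
  obtain ⟨W, _, _, _, π, ρ, k⟩ := exists_sec (p := p) (lc_anti (by omega)) hBE hB hC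
    ((Subgroup.commutator_mono le_rfl hBE).trans h7) fun x hx =>
      (le_sup_right.trans le_sup_left).trans h6.le (pow_mem_Phi hBp hx)
  have k' : Ctx F E c a d π ρ := ⟨h, h1, had, k⟩
  exact k'.sg_eq_one.1 (k'.triv hE ha hd (fun g hg => k'.sg_eq_one.2 fun y hy => h7 (conj_mem_comm hy hg)) hi
    (t := ⟨t, ht.1⟩) ht)

theorem false_of_one (hE : E = lc S 1) : False := by
  have hS := h.mx.isPGroup
  have hc := h.c2
  obtain ⟨γ, hγ, hγ'⟩ := ess_exists_not_mem_extAut hS h.sat h.ess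
  obtain ⟨t, ht, ht'⟩ := h.mx.exists_mem_Kc (i := 1) le_rfl hc
  obtain ⟨s, hs, hs'⟩ := h.mx.exists_mem_Kc (i := c - 1) (by omega) (by omega)
  refine ess_not_uniChain hS h.sat h.ess hγ hγ' (g := s) ⟨hs.1, h.nrm hs.1⟩ (hE ▸ hs') (h := t) ⟨ht.1, h.nrm ht.1⟩
    (hE ▸ ht') ?_
  set X : Set (MulAut E) := {conjAut E (h.nrm hs.1), γ * conjAut E (h.nrm ht.1) * γ⁻¹}
  have hl : ∀ {a}, 1 ≤ a → lc S a ≤ E := fun ha => (lc_anti ha).trans hE.ge
  have st : ∀ {A B B' C' : Subgroup Ω}, UniChain E X A → A ≤ B → B ≤ E → B' ≤ E → (∀ x ∈ B, x⁻¹ * (s * x * s⁻¹) ∈ A) →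
      (∀ x ∈ B, ext γ⁻¹ x ∈ B') → (∀ x ∈ C', ext γ x ∈ A) → (∀ x ∈ B', x⁻¹ * (t * x * t⁻¹) ∈ C') → UniChain E X B :=
    fun h0 h1 h2 h3 h4 h5 h6 h7 => h0.step h1 (by
      rintro _ (rfl | rfl) x hx hx'
      · rw [ext_conjAut _ hx]; exact h4 x hx'
      · exact tr_conj h3 h5 h6 (fun y hy => by rw [ext_conjAut _ (h3 hy)]; exact h7 y hy) x hx')
  have b1 := h.mx.lc_eq_bot (i := c + 1) le_rfl
  have b2 : ∀ x ∈ lc S (c - 1), x⁻¹ * (s * x * s⁻¹) ∈ (⊥ : Subgroup Ω) := fun x hx =>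
    (h.mx.lc_eq_bot (by omega)).le (hs.2 x hx)
  have key : ∀ n a, 1 ≤ a → a + n = c + 1 → AutInv F E (lc S a) → UniChain E X (lc S a) := fun n => by
    induction n using Nat.strong_induction_on with
    | _ n ih =>
    intro a h1 hn hB
    have hB' := hB _ (inv_mem hγ)
    by_cases ha : a + 2 ≤ c
    · have ex : ∃ d, 0 < d ∧ AutInv F E (lc S (a + d)) :=
        ⟨n, by omega, by rw [hn, b1]; exact autInv_bot F E⟩
      classical
      obtain ⟨hd, hC⟩ := Nat.find_spec ex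
      have hdn : Nat.find ex ≤ n := Nat.find_min' ex ⟨by omega, by rw [hn, b1]; exact autInv_bot F E⟩
      have h2 := h.triv hE h1 ha hd (by omega) hB hC (fun j h0 hj e => Nat.find_min ex hj ⟨h0, e⟩) ht
      generalize Nat.find ex = d at hd hC hdn h2
      have h3 : ∀ m j, j + m = d → UniChain E X (lc S (a + j)) := fun m => by
        induction m with
        | zero => rintro j rfl; exact ih (n - j) (by omega) _ (by omega) (by omega) hC
        | succ m ih2 =>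
          intro j hj
          exact st (ih2 (j + 1) (by omega)) (lc_anti (by omega)) (hl (by omega)) (hl h1) (fun x => lc_conj' hs.1)
            (fun x hx => hB' x (lc_anti (by omega) hx)) (fun x hx => lc_anti (by omega) (hC _ hγ x hx)) h2
      exact h3 d 0 (zero_add d)
    · have h2 : lc S a ≤ lc S (c - 1) := lc_anti (by omega)
      have h3 : img (lc S (a + 1)) (ext γ) ≤ lc S a := img_le_iff.2 fun x hx => hB _ hγ x (lc_anti (by omega) hx)
      refine st (A := img (lc S (a + 1)) (ext γ)) (st (C' := ⊥) .bot bot_le (h3.trans (hl h1)) (hl (a := a + 1) (by omega))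
        (fun x hx => b2 x (h2 (h3 hx))) (fun x hx => ?_) (autInv_bot F E _ hγ) fun x hx => ?_) h3 (hl h1) (hl h1)
        (fun x hx => bot_le (a := img _ _) (b2 x (h2 hx))) hB' (fun x => mem_img_of_mem _) fun x => lc_conj' ht.1
      · obtain ⟨y, hy, rfl⟩ := ((homOn_ext γ).mono (hl (by omega))).mem_img.1 hx
        rwa [ext_inv_ext]
      · exact (h.mx.lc_eq_bot (by omega)).le (lc_conj' ht.1 hx)
  have := key c 1 le_rfl (by omega) (hE ▸ autInv_self F E)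
  rwa [← hE] at this

end NEs

end Cfsg.Agent.H5.NE
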