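import Mathlib
import Cfsg.Agent.H5.NE6

/-!
# Normal essential subgroups of a `p`-group of maximal class, `p ≥ 5`
-/

set_option autoImplicit false

namespace Cfsg.Agent.H5.NE

open Cfsg Cfsg.FusionSystem Cfsg.Agent.H97 Cfsg.Agent.H98 Cfsg.Agent.H96
open scoped commutatorElement

variable {Ω : Type*} [Group Ω] {p : ℕ} [hp : Fact p.Prime] {S : Subgroup Ω} {F : FusionSystem S}
  {E : Subgroup Ω} {c : ℕ}

theorem comm_lc_eq (h : MxC p S c) {x : Ω} (hx : MxC.Uni S c x) (hxE : x ∈ E) (hE : E ≤ S)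
    (hn : S ≤ Subgroup.normalizer (E : Set Ω)) {i : ℕ} (hi : 1 ≤ i) : ⁅lc S i, E⁆ = lc S (i + 1) := by
  have h1 : ⁅lc S i, E⁆ ≤ lc S (i + 1) := commutator_le_of_conj fun g hg y hy => lc_conj' (hE hg) hy
  refine le_antisymm h1 ((h.le_or_le (h1.trans (lc_le _)) (H4.le_normalizer_commutator (lc_normal i) hn)
    (i := i + 1) (by omega)).elim id fun e => ?_)
  by_cases hc : i + 1 ≤ c
  · exact absurd ⟨hx.1, fun y hy => e (conj_mem_comm hy hxE)⟩ (hx.2 i hi hc)
  · rw [h.lc_eq_bot (by omega)]; exact bot_le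

variable [Finite S]

theorem index_eq (h : MxC p S c) (hF : F.IsSaturated p) (h5 : 5 ≤ p) (hc : 2 ≤ c) (hE : F.IsEssential p E)
    (hn : S ≤ Subgroup.normalizer (E : Set Ω)) : lc S 1 ≤ E ∧ E.relIndex S = p := by
  rcases h.normal_cases (ess_le hE) hn with ⟨a, h1, h2, e⟩ | ⟨h1, h2⟩
  · have k : NEs p F E c := ⟨h, hF, hE, hn, h5, hc, e.le.trans (lc_anti h1)⟩
    rcases h1.eq_or_lt with rfl | h1
    · exact (k.false_of_one e).elim
    · exact (k.false_of_two h1 h2 e).elim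
  · exact ⟨h1, relIndex_eq_of_dvd_of_not_le h.isPGroup
      ((ess_lt_normalizerIn h.isPGroup hF hE).trans_le normalizerIn_le).not_ge h2⟩

theorem cases_of_index (h : MxC p S c) (hF : F.IsSaturated p) (h3 : 3 ≤ p) (hc : 2 ≤ c) (hE : F.IsEssential p E)
    (h1 : lc S 1 ≤ E) (hi : E.relIndex S = p) : E = Kc S 1 ∨ E = Kc S (c - 1) ∨
      (c = 2 ∧ Nat.card E = p ^ 3 ∧ IsExtraspecial p E ∧ Monoid.exponent E = p) := by
  have hS := h.isPGroup
  have hES := ess_le hE
  have := finite_of_le hES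
  have hEp := hS.to_le hES
  have hn := le_normalizer_of_lc_le h1 hES
  by_cases e1 : E ≤ Kc S 1
  · exact Or.inl (h.eq_Kc_of_le hi le_rfl hc e1).symm
  by_cases e2 : E ≤ Kc S (c - 1)
  · exact Or.inr (Or.inl (h.eq_Kc_of_le hi (by omega) (by omega) e2).symm)
  refine Or.inr (Or.inr ?_)
  obtain ⟨x, hxE, hx⟩ : ∃ x ∈ E, MxC.Uni S c x := by
    obtain ⟨a, ha, ha'⟩ := SetLike.not_le_iff_exists.1 e1
    obtain ⟨b, hb, hb'⟩ := SetLike.not_le_iff_exists.1 e2
    by_cases h2 : a ∈ Kc S (c - 1)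
    · by_cases h4 : b ∈ Kc S 1
      · exact ⟨a * b, mul_mem ha hb, uni_of h h3 (hES (mul_mem ha hb)) (by rwa [Subgroup.mul_mem_cancel_right _ h4])
          (by rwa [Subgroup.mul_mem_cancel_left _ h2])⟩
      · exact ⟨b, hb, uni_of h h3 (hES hb) h4 hb'⟩
    · exact ⟨a, ha, uni_of h h3 (hES ha) ha' h2⟩
  have hi1 := h.relIndex_lc_one h1 hES hi
  have hl : ∀ i, lc S (i + 1) ≤ E := fun i => (lc_anti (by omega)).trans h1
  have c1 := fun i hi => comm_lc_eq h hx hxE hES hn (i := i) hi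
  have c2 : ⁅E, E⁆ = lc S 2 := le_antisymm (commutator_le_of_conj (triv_of_sup_zpowers (hES.trans (lc_normal 2))
    (sup_zpowers_eq_of_relIndex_dvd h1 hi1.dvd hxE fun e => hx.2 1 le_rfl hc (lc_le_Kc 1 e))
      fun g hg y => lc_conj' (hES hg))) ((c1 1 le_rfl).ge.trans (Subgroup.commutator_mono h1 le_rfl))
  have i0 := autInv_self F E
  have i2 : AutInv F E (lc S 2) := c2 ▸ i0.commutator i0 le_rfl le_rfl
  rcases hc.eq_or_lt with rfl | hc
  · have h4 : Nat.card E = p ^ 3 := by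
      have := card_mul_relIndex' hES
      rw [hi, h.card, pow_succ] at this
      exact Nat.eq_of_mul_eq_mul_right hp.out.pos this
    have h5 : IsExtraspecial p E := isExtraspecial_of_card_cube h4 fun e => h.ne (by
      rw [← c2, eq_bot_iff, Subgroup.commutator_le]
      exact fun a ha b hb => commutatorElement_eq_one_iff_mul_comm.2
        (congrArg Subtype.val (e.is_comm.comm (⟨a, ha⟩ : E) ⟨b, hb⟩)))
    have := H7.omega_characteristic (G := E) p
    have h6 : lc S 1 ≤ (Subgroup.closure {x : E | x ^ p = 1}).map E.subtype := fun y hy =>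
      ⟨⟨y, h1 hy⟩, Subgroup.subset_closure (Subtype.ext ((h.lc_eq_bot (by omega)).le (h.pow_mem_add le_rfl hy))), rfl⟩
    have h7 := (ess_rank_two hS hF hE (relIndex_dvd_pow_of_le hEp (h.relIndex_Phi_le hc hx hES hxE))
      (autInv_char F E _) ((Phi_le_of_relIndex_dvd hEp h1 hi1.dvd).trans h6) (Subgroup.map_subtype_le _)).resolve_left
      fun e => ess_not_relIndex_Phi_dvd hS hF hE ((Subgroup.relIndex_dvd_of_le_left _ (h6.trans e.le)).trans hi1.dvd)
    have : Nontrivial E := Finite.one_lt_card_iff_nontrivial.1 (h4 ▸ Nat.one_lt_pow (by omega) hp.out.one_lt)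
    refine ⟨rfl, h4, h5, (Monoid.exponent_eq_prime_iff hp.out).2 fun g hg => orderOf_eq_prime ?_ hg⟩
    obtain ⟨y, hy, e⟩ := h7.ge g.2
    refine H7.omega_pow_of_class2 hp.out (by omega) ?_ (Subtype.ext e ▸ hy)
    rw [h5.1.2.2, Subgroup.commutator_eq_bot_iff_le_centralizer]
    exact Subgroup.center_le_centralizer _
  · have i3 : AutInv F E (lc S 3) := c1 2 (by omega) ▸ i2.commutator i0 (hl 1) le_rfl
    have i4 : AutInv F E (lc S 4) := c1 3 (by omega) ▸ i3.commutator i0 (hl 2) le_rfl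
    have h4 := hES.trans (lc_normal 4)
    have h5 := (eq_or_eq_of_relIndex_dvd (le_cmod h4 h1 (Subgroup.commutator_le.2 fun _ ha _ hb => comm_mem_lc (i := 1) (j := 2) ha hb) :
      _ ≤ cmod E (lc S 2) (lc S 4)) cmod_le hi1.dvd).resolve_right fun e => hx.2 2 (by omega) hc ⟨hx.1, fun y hy =>
        (comm_mem_iff_conj (lc_normal 4 (lc_le 2 hy))).1 (comm_swap_mem ((e.ge hxE).2.2 y hy))⟩
    exact (ess_not_invChain hS hF hE (((InvChain.base (c2.ge.trans (comm_le_Phi hEp)) i2).step (lc_anti (by omega)) h1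
      (h5 ▸ i2.cmod i4 (hl 1) h4) fun g hg y => lc_conj' (normalizerIn_le hg)).step h1 le_rfl i0
        fun g hg y hy => lc_conj' (i := 0) (normalizerIn_le hg) (hES hy))).elim

end Cfsg.Agent.H5.NE
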