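import Mathlib
import Cfsg.Agent.H5.NE7
import Cfsg.Agent.H5.Tv

/-!
# The filtration `P₁ > P₂ > ⋯` of a `p`-group of maximal class
-/

set_option autoImplicit false
set_option linter.unusedSectionVars false

namespace Cfsg.Agent.H5.PE

open Cfsg Cfsg.FusionSystem Cfsg.Agent.H97 Cfsg.Agent.H98 Cfsg.Agent.H96 Cfsg.Agent.S5264
open scoped commutatorElement

variable {Ω : Type*} [Group Ω] {p : ℕ} {S N C : Subgroup Ω} {c e i j : ℕ} {x y g : Ω}

/-- The two-step centralizer followed by the lower central series, indexed from `0`. -/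
def PP (S : Subgroup Ω) : ℕ → Subgroup Ω
  | 0 => Kc S 1
  | i + 1 => lc S (i + 1)

theorem PP_pos (hi : 1 ≤ i) : PP S i = lc S i := by
  cases i with
  | zero => omega
  | succ i => rfl

theorem PP_le_lc (i : ℕ) : PP S i ≤ lc S i := by
  cases i with
  | zero => exact Kc_le 1
  | succ i => exact le_rfl

theorem PP_le (i : ℕ) : PP S i ≤ S := (PP_le_lc i).trans (lc_le i)

theorem PP_anti (h : i ≤ j) : PP S j ≤ PP S i := by
  cases i with
  | zero =>
    cases j with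
    | zero => exact le_rfl
    | succ j => exact (lc_anti (by omega)).trans (lc_le_Kc 1)
  | succ i => rw [PP_pos (by omega)]; exact lc_anti h

theorem PP_le0 (i : ℕ) : PP S i ≤ PP S 0 := PP_anti i.zero_le

theorem PP_normal (i : ℕ) : S ≤ Subgroup.normalizer (PP S i : Set Ω) := by
  cases i with
  | zero => exact Kc_normal 1
  | succ i => exact lc_normal _

theorem PP_comm (i j : ℕ) : ⁅PP S i, PP S j⁆ ≤ PP S (i + j + 1) :=
  Subgroup.commutator_le.2 fun _ hx _ hy => comm_mem_lc (PP_le_lc i hx) (PP_le_lc j hy)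

theorem PP_comm' {l : ℕ} (h : l ≤ i + j + 1) : ⁅PP S i, PP S j⁆ ≤ PP S l := (PP_comm i j).trans (PP_anti h)

theorem PP_commS (i : ℕ) : ⁅PP S i, S⁆ ≤ PP S (i + 1) :=
  Subgroup.commutator_le.2 fun _ hx _ hy => comm_mem_lc (PP_le_lc i hx) (j := 0) hy

theorem PP_conj (hg : g ∈ S) (hx : x ∈ PP S i) : x⁻¹ * (g * x * g⁻¹) ∈ PP S (i + 1) :=
  PP_commS i (conj_mem_comm hx hg)

theorem iv_PP [Finite S] (β : MulAut S) (i : ℕ) : Iv β (PP S i) := by
  cases i with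
  | zero => exact iv_Kc 1
  | succ i => exact iv_lc _

theorem exists_lev_of {a b : ℕ} (h1 : y ∈ PP S a) (h2 : y ∉ PP S b) :
    ∃ i, a ≤ i ∧ i < b ∧ y ∈ PP S i ∧ y ∉ PP S (i + 1) := by
  induction b with
  | zero => exact absurd (PP_le0 a h1) h2
  | succ b ih =>
    by_cases h3 : y ∈ PP S b
    · exact ⟨b, by by_contra h; exact h2 (PP_anti (by omega) h1), by omega, h3, h2⟩
    · obtain ⟨i, h4, h5, h6⟩ := ih h3
      exact ⟨i, h4, by omega, h6⟩

theorem lt_of_mem {a b : ℕ} (h1 : y ∈ PP S a) (h2 : y ∉ PP S b) : a < b := by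
  by_contra h; exact h2 (PP_anti (by omega) h1)

theorem cmod_normal {A B : Subgroup Ω} [Finite S] (hA : A ≤ S) (nA : S ≤ Subgroup.normalizer (A : Set Ω))
    (nB : S ≤ Subgroup.normalizer (B : Set Ω)) (nC : S ≤ Subgroup.normalizer (C : Set Ω)) :
    S ≤ Subgroup.normalizer (cmod A B C : Set Ω) := fun g hg => by
  have := finite_of_le ((cmod_le (E := A) (C := B) (W := C)).trans hA)
  refine mem_normalizer_of_conj_mem fun x hx => ⟨nconj (nA hg) hx.1, nC (hA (nconj (nA hg) hx.1)), fun y hy => ?_⟩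
  simpa [commutatorElement_def, mul_assoc] using nconj (nC hg) (hx.2.2 _ (nconj' (nB hg) hy))

/-- `x` moves every step of the filtration up to `e` faithfully. -/
def Un (S : Subgroup Ω) (x : Ω) (e : ℕ) : Prop :=
  ∀ i, i + 1 ≤ e → ∀ y ∈ PP S i, y⁻¹ * (x * y * x⁻¹) ∈ PP S (i + 2) → y ∈ PP S (i + 1)

/-- The first term centralizes the two-step sections down to `e`. -/
def CE (S : Subgroup Ω) (e : ℕ) : Prop := ∀ i, i + 2 ≤ e → ⁅PP S i, PP S 0⁆ ≤ PP S (i + 2)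

theorem CE.le (h : CE S e) {l : ℕ} (h1 : l ≤ e) (h2 : l ≤ i + 2) : ⁅PP S i, PP S 0⁆ ≤ PP S l := by
  by_cases h3 : i + 2 ≤ e
  · exact (h i h3).trans (PP_anti h2)
  · exact PP_comm' (by omega)

/-- A `p`-group of maximal class and order at least `p⁴`. -/
structure MX (p : ℕ) (S : Subgroup Ω) (c : ℕ) : Prop extends MxC p S c where
  c2 : 2 ≤ c

namespace MX

variable [hp : Fact p.Prime] [Finite S] (h : MX p S c)
include h

theorem pg : IsPGroup p S := h.toMxC.isPGroup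

theorem pgP (i : ℕ) : IsPGroup p (PP S i) := h.pg.to_le (PP_le i)

theorem bot (hi : c + 1 ≤ i) : PP S i = ⊥ := by rw [PP_pos (by omega)]; exact h.lc_eq_bot hi

theorem eq_one (hi : c + 1 ≤ i) (hy : y ∈ PP S i) : y = 1 := by rwa [h.bot hi] at hy

theorem rel0 : (PP S 0).relIndex S = p := h.relIndex_Kc le_rfl h.c2

theorem relQ : (Kc S (c - 1)).relIndex S = p := h.relIndex_Kc (by have := h.c2; omega) (by have := h.c2; omega)

theorem rel (hi : i ≤ c) : (PP S (i + 1)).relIndex (PP S i) = p := by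
  cases i with
  | zero => exact h.relIndex_lc_one (lc_le_Kc 1) (Kc_le 1) h.rel0
  | succ i => exact (h.relIndex_lc (j := 1) (by omega) (by omega)).trans (pow_one p)

theorem rel_dvd (i : ℕ) : (PP S (i + 1)).relIndex (PP S i) ∣ p := by
  by_cases hi : i ≤ c
  · exact (h.rel hi).dvd
  · rw [h.bot (i := i) (by omega)]; simp

theorem not_le (hi : i ≤ c) (hj : i < j) : ¬ PP S i ≤ PP S j := fun e =>
  not_le_of_relIndex_eq (h.rel hi) (e.trans (PP_anti hj))

theorem le_of_le (hi : i ≤ c + 1) (e : PP S i ≤ PP S j) (hj : j ≤ c + 1) : j ≤ i := by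
  by_contra h1
  exact h.not_le (by omega) (by omega) e

theorem exists_lev (hi : i ≤ c) : ∃ y ∈ PP S i, y ∉ PP S (i + 1) :=
  SetLike.not_le_iff_exists.1 (h.not_le hi i.lt_succ_self)

theorem le_c (hy : y ∈ PP S i) (hy' : y ∉ PP S j) : i ≤ c := by
  by_contra h1
  exact hy' (h.eq_one (by omega) hy ▸ one_mem _)

theorem sup_eq (hy : y ∈ PP S i) (hy' : y ∉ PP S (i + 1)) : PP S (i + 1) ⊔ Subgroup.zpowers y = PP S i :=
  sup_zpowers_eq_of_relIndex_dvd (PP_anti i.le_succ) (h.rel_dvd i) hy hy'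

theorem le_of_lev (hy : y ∈ PP S i) (hy' : y ∉ PP S (i + 1)) (h1 : PP S (i + 1) ≤ N) (h2 : y ∈ N) :
    PP S i ≤ N := (h.sup_eq hy hy').ge.trans (sup_le h1 (Subgroup.zpowers_le.2 h2))

theorem exists_pow (hy : y ∈ PP S i) (hy' : y ∉ PP S (i + 1)) (hx : x ∈ PP S i) :
    ∃ k : ℕ, (y ^ k)⁻¹ * x ∈ PP S (i + 1) := by
  obtain ⟨a, ha, k, rfl⟩ := (mem_sup_zpowers_iff_nat (PP_normal _ (PP_le i hy)) (isOfFinOrder_of_mem (PP_le i hy))).1
    ((h.sup_eq hy hy').ge hx)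
  exact ⟨k, by simpa [mul_assoc] using nconj' (PP_normal _ (S.pow_mem (PP_le i hy) k)) ha⟩

theorem pow_succ_mem (hy : y ∈ PP S i) : y ^ p ∈ PP S (i + 1) :=
  have := finite_of_le (PP_le (S := S) i)
  pow_mem_of_relIndex_dvd (h.pgP i) (PP_anti i.le_succ) (h.rel_dvd i) hy

theorem pow_mem0 (hy : y ∈ S) : y ^ p ∈ PP S 0 := pow_mem_of_relIndex_dvd h.pg (PP_le 0) h.rel0.dvd hy

theorem card_PP (hi : i ≤ c + 1) : Nat.card (PP S i) = p ^ (c + 1 - i) := by
  cases i with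
  | zero =>
    have := card_mul_relIndex' (PP_le (S := S) 0)
    rw [h.rel0, h.card, pow_succ] at this
    exact Nat.eq_of_mul_eq_mul_right hp.out.pos this
  | succ i => exact h.card_lc (by omega) (by omega)

theorem eq_PP (hN : N ≤ PP S 0) (hn : S ≤ Subgroup.normalizer (N : Set Ω)) : ∃ i ≤ c + 1, N = PP S i := by
  rcases h.normal_cases (hN.trans (PP_le 0)) hn with ⟨i, h1, h2, e⟩ | ⟨h1, -⟩
  · exact ⟨i, h2, e.trans (PP_pos h1).symm⟩
  · rcases eq_or_eq_of_relIndex_dvd (A := PP S 1) h1 hN (h.rel_dvd 0) with e | e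
    · exact ⟨1, by omega, e⟩
    · exact ⟨0, by omega, e⟩

theorem le_of_normal (hN : N ≤ PP S 0) (hn : S ≤ Subgroup.normalizer (N : Set Ω)) (h1 : y ∈ N)
    (h2 : y ∉ PP S (i + 1)) : PP S i ≤ N := by
  obtain ⟨j, -, rfl⟩ := h.eq_PP hN hn
  exact PP_anti (Nat.lt_succ_iff.1 (lt_of_mem h1 h2))

theorem center_eq' : centralizerIn S S = PP S c := by
  have := h.c2
  rw [PP_pos (by omega)]; exact h.center_eq (by omega)

theorem Kc_low (hi : 1 ≤ i) (hc : i + 2 ≤ c ∨ p = 2 ∧ i + 1 ≤ c) : Kc S i = Kc S 1 := by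
  by_cases h3 : 3 ≤ p
  · exact h.Kc_eq h3 hi (by omega)
  obtain rfl : p = 2 := by have := hp.out.two_le; omega
  induction i, hi using Nat.le_induction with
  | base => rfl
  | succ i hi ih =>
    exact h.eq_Kc_of_le h.rel0 (by omega) (by omega) ((ih (by omega)).ge.trans (h.Kc_le_period hi (by omega)))

theorem uni_of (hx : x ∈ S) (h1 : x ∉ PP S 0) (h2 : x ∉ Kc S (c - 1)) : MxC.Uni S c x := ⟨hx, fun i hi hc => by
  by_cases e : i + 2 ≤ c
  · rwa [h.Kc_low hi (Or.inl e)]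
  · rwa [show i = c - 1 by omega]⟩

theorem uni0 (hx : MxC.Uni S c x) : x ∉ PP S 0 := hx.2 1 le_rfl h.c2

theorem uniQ (hx : MxC.Uni S c x) : x ∉ Kc S (c - 1) := by
  have := h.c2
  exact hx.2 _ (by omega) (by omega)

theorem exists_uni_of (hN : N ≤ S) (h1 : ¬ N ≤ PP S 0) (h2 : ¬ N ≤ Kc S (c - 1)) : ∃ x ∈ N, MxC.Uni S c x := by
  obtain ⟨a, ha, ha'⟩ := SetLike.not_le_iff_exists.1 h1
  obtain ⟨b, hb, hb'⟩ := SetLike.not_le_iff_exists.1 h2
  by_cases h3 : a ∈ Kc S (c - 1)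
  · by_cases h4 : b ∈ PP S 0
    · exact ⟨a * b, mul_mem ha hb, h.uni_of (hN (mul_mem ha hb)) (by rwa [Subgroup.mul_mem_cancel_right _ h4])
        (by rwa [Subgroup.mul_mem_cancel_left _ h3])⟩
    · exact ⟨b, hb, h.uni_of (hN hb) h4 hb'⟩
  · exact ⟨a, ha, h.uni_of (hN ha) ha' h3⟩

theorem exists_uni : ∃ x, MxC.Uni S c x := by
  obtain ⟨x, -, hx⟩ := h.exists_uni_of le_rfl (not_le_of_relIndex_eq h.rel0) (not_le_of_relIndex_eq h.relQ)
  exact ⟨x, hx⟩

theorem un_of (hx : x ∈ S) (h1 : x ∉ PP S 0) (h2 : ∀ i, 1 ≤ i → i + 1 ≤ e → x ∉ Kc S i) : Un S x e :=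
  fun i hi y hy e => by
  cases i with
  | zero => exact h.mem_of_not_mem (by have := h.c2; omega) (lc_le_Kc 1) (Kc_le 1) h.rel0 hx h1 hy e
  | succ i => exact h.mem_of_not_mem_Kc (by omega) hx (h2 _ (by omega) hi) hy e

theorem un (hx : x ∈ S) (h1 : x ∉ PP S 0) : Un S x (c - 1) :=
  h.un_of hx h1 fun i h2 h3 => by rwa [h.Kc_low h2 (Or.inl (by omega))]

theorem un_uni (hx : MxC.Uni S c x) : Un S x c := h.un_of hx.1 (h.uni0 hx) hx.2

theorem le_of_un (hx : x ∈ S) (hu : Un S x e) (hn : x ∈ Subgroup.normalizer (N : Set Ω))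
    (h1 : PP S (e + 1) ≤ N) (h2 : y ∈ N) (hy : y ∈ PP S i) (hy' : y ∉ PP S (i + 1)) : PP S i ≤ N := by
  by_cases hi : e + 1 ≤ i
  · exact (PP_anti hi).trans h1
  obtain ⟨d, hd⟩ : ∃ d, i + d = e := ⟨e - i, by omega⟩
  induction d generalizing i y with
  | zero => exact h.le_of_lev hy hy' (by rwa [show i = e from hd]) h2
  | succ d ih =>
    exact h.le_of_lev hy hy' (ih (N.mul_mem (N.inv_mem h2) (nconj hn h2)) (PP_conj hx hy)
      (fun e => hy' (hu i (by omega) y hy e)) (by omega) (by omega)) h2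

theorem inf_eq_PP (hx : x ∈ S) (hu : Un S x e) (hn : x ∈ Subgroup.normalizer (N : Set Ω))
    (h1 : PP S (e + 1) ≤ N) : ∃ j ≤ e + 1, N ⊓ PP S 0 = PP S j := by
  classical
  have ex : ∃ j, PP S j ≤ N := ⟨_, h1⟩
  refine ⟨Nat.find ex, Nat.find_min' ex h1, le_antisymm (fun y hy => ?_) (le_inf (Nat.find_spec ex) (PP_le0 _))⟩
  by_contra hy'
  obtain ⟨i, -, h3, h4, h5⟩ := exists_lev_of hy.2 hy'
  exact Nat.find_min ex h3 (h.le_of_un hx hu hn h1 hy.1 h4 h5)

theorem comm00 : ⁅PP S 0, PP S 0⁆ ≤ PP S 2 := by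
  obtain ⟨t, ht, ht'⟩ := h.exists_lev (i := 0) (by omega)
  exact commutator_le_of_conj (triv_of_sup_zpowers ((PP_le 0).trans (PP_normal 2)) (h.sup_eq ht ht')
    fun g hg y hy => PP_conj (PP_le 0 hg) hy)

theorem comm_self (i : ℕ) : ⁅PP S i, PP S i⁆ ≤ PP S (2 * i + 2) := by
  cases i with
  | zero => exact h.comm00
  | succ i => exact h.comm_lc_self (by omega)

theorem ce_of (h1 : ∀ i, 1 ≤ i → i + 2 ≤ e → Kc S i = Kc S 1) : CE S e := fun i hi => by
  cases i with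
  | zero => exact h.comm00
  | succ i => exact commutator_le_of_conj fun g hg => ((h1 (i + 1) (by omega) hi).ge hg).2

theorem ce : CE S c := h.ce_of fun _ h1 h2 => h.Kc_low h1 (Or.inl h2)

theorem ce_nx (hx : Kc S (c - 1) = PP S 0) : CE S (c + 1) := h.ce_of fun i h1 h2 => by
  by_cases h3 : i + 2 ≤ c
  · exact h.Kc_low h1 (Or.inl h3)
  · rwa [show i = c - 1 by omega]

theorem le_commS (i : ℕ) : PP S (i + 1) ≤ ⁅PP S i, S⁆ := by
  cases i with
  | succ i => exact le_rfl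
  | zero =>
    obtain ⟨s, hs⟩ := h.exists_uni
    exact commutator_le_of_conj (triv_of_sup_zpowers (H4.le_normalizer_commutator (PP_normal 0) Subgroup.le_normalizer)
      (sup_zpowers_eq_of_relIndex_dvd (PP_le 0) h.rel0.dvd hs.1 (h.uni0 hs)) fun g hg y hy => conj_mem_comm hy hg)

theorem comm_step {l : ℕ} (hN : N ≤ S) (hn : S ≤ Subgroup.normalizer (N : Set Ω))
    (h1 : ⁅PP S (j + 1), PP S i⁆ ≤ N) (h2 : ⁅PP S j, PP S i⁆ ≤ PP S l) (h3 : PP S (l + 1) ≤ N) :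
    ⁅PP S (i + 1), PP S j⁆ ≤ N :=
  (Subgroup.commutator_mono (h.le_commS i) le_rfl).trans (three_subgroups (PP_le i) le_rfl (PP_le j) hN hn
    ((Subgroup.commutator_mono (comm_le_symm (PP_commS j)) le_rfl).trans h1)
    ((Subgroup.commutator_mono h2 le_rfl).trans ((PP_commS l).trans h3)))

theorem comm_strong (hc : CE S e) (h1 : i + j + 2 ≤ e) : ⁅PP S j, PP S i⁆ ≤ PP S (i + j + 2) := by
  induction i generalizing j with
  | zero => simpa using hc j (by omega)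
  | succ i ih =>
    exact comm_le_symm (h.comm_step (PP_le _) (PP_normal _) ((ih (by omega)).trans (PP_anti (by omega)))
      (ih (by omega)) (PP_anti (by omega)))

theorem comm_le (hc : CE S e) {l : ℕ} (h1 : l ≤ e) (h2 : l ≤ i + j + 2) : ⁅PP S i, PP S j⁆ ≤ PP S l := by
  by_cases h3 : i + j + 2 ≤ e
  · exact (h.comm_strong hc (by omega)).trans (PP_anti (by omega))
  · exact PP_comm' (by omega)

theorem mem_Q_iff (hx : x ∈ S) : x ∈ Kc S (c - 1) ↔ ∀ y ∈ PP S (c - 1), x * y * x⁻¹ = y := by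
  have := h.c2
  rw [mem_Kc, PP_pos (by omega), h.lc_eq_bot (i := c - 1 + 2) (by omega)]
  exact ⟨fun e y hy => (inv_mul_eq_one.1 (e.2 y hy)).symm, fun e => ⟨hx, fun y hy => by simp [e y hy]⟩⟩

theorem nondeg (hx : Kc S (c - 1) ≠ PP S 0) (hij : i + j + 1 = c) : ¬ ⁅PP S j, PP S i⁆ ≤ ⊥ := by
  induction i generalizing j with
  | zero =>
    refine fun e => hx (h.eq_Kc_of_le h.rel0 (by have := h.c2; omega) (by omega) fun g hg =>
      (h.mem_Q_iff (PP_le 0 hg)).2 fun y hy => ?_)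
    exact (inv_mul_eq_one.1 (e (conj_mem_comm (by rwa [show j = c - 1 by omega]) hg))).symm
  | succ i ih =>
    exact fun e => ih (j := j + 1) (by omega) (h.comm_step bot_le nbot (comm_le_symm e)
      (h.comm_le h.ce le_rfl (by omega)) (h.bot le_rfl).le)

theorem nondeg' (hx : Kc S (c - 1) ≠ PP S 0) (hij : i + j + 1 = c) (h1 : x ∈ PP S i) (h2 : x ∉ PP S (i + 1))
    (h3 : y ∈ PP S j) (h4 : y ∉ PP S (j + 1)) : ⁅x, y⁆ ≠ 1 := fun e => by
  have k : ∀ {i j}, i + j + 1 = c → ⁅PP S (i + 1), PP S j⁆ ≤ ⊥ := fun hij =>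
    (PP_comm' (by omega)).trans (h.bot le_rfl).le
  refine h.nondeg hx hij (comm_sup_zpowers_le nbot (h.sup_eq h3 h4) (k (by omega)) ?_)
  exact comm_mem_sup_zpowers nbot (h.sup_eq h1 h2) (nbot h3)
    (fun z hz => comm_swap_mem (k hij (Subgroup.commutator_mem_commutator hz h3))) (comm_swap_mem e)

theorem exc (hx : Kc S (c - 1) ≠ PP S 0) : Even c ∧ 4 ≤ c ∧ c + 1 ≤ p := by
  have h2 := h.c2
  have hp2 := hp.out.two_le
  have h1 : Even c := by
    rcases Nat.even_or_odd' c with ⟨a, e | e⟩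
    · exact ⟨a, by omega⟩
    · exact (h.nondeg hx (i := a) (j := a) (by omega) ((h.comm_self a).trans (h.bot (by omega)).le)).elim
  have h3 : c ≠ 2 := by rintro rfl; exact hx rfl
  obtain ⟨a, ha⟩ := h1
  refine ⟨⟨a, ha⟩, by omega, ?_⟩
  by_contra h4
  rcases hp.out.eq_two_or_odd' with rfl | ⟨b, hb⟩
  · exact hx (h.Kc_low (by omega) (Or.inr ⟨rfl, by omega⟩))
  · refine hx (h.eq_Kc_of_le h.rel0 (by omega) (by omega) ?_)
    have := h.Kc_le_period (j := c - p) (by omega) (by omega)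
    rwa [h.Kc_low (by omega) (Or.inl (by omega)), show c - p + p - 1 = c - 1 by omega] at this

theorem nx_of (hc : p ≤ c) : Kc S (c - 1) = PP S 0 := by
  by_contra hx
  have := h.exc hx
  omega

theorem inf_Q (hx : Kc S (c - 1) ≠ PP S 0) : Kc S (c - 1) ⊓ PP S 0 = PP S 1 :=
  (eq_or_eq_of_relIndex_dvd (le_inf (lc_le_Kc _) (PP_le0 1)) inf_le_right (h.rel_dvd 0)).resolve_right fun e =>
    hx (h.eq_Kc_of_le h.rel0 (by have := h.c2; omega) (by have := h.c2; omega) (inf_eq_right.1 e))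

theorem pow_mem' {m : ℕ} (hy : y ∈ PP S i) (h1 : m + 1 ≤ i + p) (h2 : m ≤ c ∨ 1 ≤ i) : y ^ p ∈ PP S m := by
  rcases i.eq_zero_or_pos with rfl | hi
  · rcases m.eq_zero_or_pos with rfl | hm
    · exact pow_mem hy p
    · rw [PP_pos hm]; exact h.pow_mem (by omega) (by omega) (PP_le 0 hy)
  · have := hp.out.two_le
    refine PP_anti (i := m) (j := i + p - 1) (by omega) ?_
    rw [PP_pos (by omega)]
    exact h.pow_mem_add hi (PP_le_lc i hy)

theorem pow_not_mem0 (hc : p ≤ c) (hy : y ∈ PP S 0) (hy' : y ∉ PP S 1) : y ^ p ∉ lc S p := fun e => by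
  have h2 := hp.out.two_le
  obtain ⟨x, hx, hx'⟩ := h.exists_pow_not_mem (by omega)
  have hx0 : x ∈ PP S 0 := by
    by_contra h0
    have hu := h.uni_of hx h0 (by rwa [h.nx_of hc])
    exact hx' (lc_anti hc (h.centralizer_inf_le (by omega) (lc_le_Kc 1) (Kc_le 1) h.rel0 hu h0
      ⟨Subgroup.mem_centralizer_singleton_iff.2 ((Commute.refl x).pow_left p).eq, h.pow_mem0 hx⟩))
  let y' : S := ⟨y, PP_le 0 hy⟩
  have := H90.MaxCl.normal_zpowers_sup y'
  obtain ⟨A, -, -, -, hA, -⟩ := H90.exists_omega_mod h.pg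
    (B := Subgroup.zpowers y' ⊔ (⊤ : Subgroup S).lowerCentralSeries 1) (Z := (⊤ : Subgroup S).lowerCentralSeries p)
    ((Subgroup.lowerCentralSeries_antitone _ (by omega)).trans le_sup_right) (H90.MaxCl.lcs_zpowers_sup_le y')
  refine hx' (h.le_of_lev (N := (A.map S.subtype) ⊓ ⊤) hy hy' (fun z hz => ⟨⟨⟨z, PP_le 1 hz⟩, (hA _).2
    ⟨Subgroup.mem_sup_right (mem_lc.2 hz), mem_lc.2 (by simpa using h.pow_mem_add le_rfl hz)⟩, rfl⟩, trivial⟩)
    ⟨⟨y', (hA _).2 ⟨Subgroup.mem_sup_left (Subgroup.mem_zpowers _), mem_lc.2 e⟩, rfl⟩, trivial⟩ hx0 |>.1.elim ?_)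
  rintro z ⟨hz, rfl⟩
  exact mem_lc.1 ((hA z).1 hz).2

theorem mem_of_pow_mem (hy : y ∈ PP S j) (hj : 1 ≤ j ∨ p ≤ c) (hi : i + p - 1 ≤ c + 1)
    (e : y ^ p ∈ PP S (i + p - 1)) : y ∈ PP S i := by
  by_contra hy'
  have h2 := hp.out.two_le
  obtain ⟨l, h1, h3, h4, h5⟩ := exists_lev_of hy hy'
  have e' := PP_le_lc _ (PP_anti (i := l + p) (by omega) e)
  rcases l.eq_zero_or_pos with rfl | hl
  · exact h.pow_not_mem0 (by omega) h4 h5 (by simpa using e')
  · exact h.pow_not_mem_add hl (by omega) (PP_le_lc _ h4) h5 e'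

theorem exists_rep (hy : y ∈ PP S 0) (hy' : y ∉ C) : ∃ z ∈ C, ∃ l ≤ c,
    y * z ∈ PP S l ∧ y * z ∉ PP S (l + 1) ∧ C ⊓ PP S l ≤ PP S (l + 1) := by
  classical
  have ex : ∃ l, ∀ z ∈ C, y * z ∉ PP S (l + 1) :=
    ⟨c, fun z hz e => hy' (by simpa [eq_inv_of_mul_eq_one_left (h.eq_one le_rfl e)] using hz)⟩
  have h1 := Nat.find_spec ex
  obtain ⟨z, hz, h2⟩ : ∃ z ∈ C, y * z ∈ PP S (Nat.find ex) := by
    rcases e : Nat.find ex with _ | l
    · exact ⟨1, C.one_mem, by simpa using hy⟩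
    · simpa using Nat.find_min ex (m := l) (by omega)
  refine ⟨z, hz, _, h.le_c h2 (h1 z hz), h2, h1 z hz, fun w hw => ?_⟩
  by_contra hw'
  obtain ⟨k, hk⟩ := h.exists_pow hw.2 hw' h2
  refine h1 (z * (w ^ k)⁻¹) (C.mul_mem hz (C.inv_mem (C.pow_mem hw.1 k))) ?_
  simpa [mul_assoc] using nconj (PP_normal _ (S.pow_mem (PP_le _ hw.2) k)) hk

end MX

/-- The weights of an automorphism on the steps of the filtration. -/
structure Wt (p : ℕ) (β : MulAut S) (α : ZMod p) (u : ℕ → ZMod p) : Prop where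
  top : Sc (ext β) (PP S 0) S α.val
  lev : ∀ i, Sc (ext β) (PP S (i + 1)) (PP S i) (u i).val

namespace MX

variable [hp : Fact p.Prime] [Finite S] (h : MX p S c) {β : MulAut S} {α : ZMod p} {u : ℕ → ZMod p}
include h

theorem exists_wt (β : MulAut S) : ∃ α u, Wt p β α u := by
  obtain ⟨a, ha⟩ := Sc.exists h.pg (PP_le 0) h.rel0.dvd (homOn_ext β) (iv_PP β 0) iv_top
  have : ∀ i, ∃ k : ZMod p, Sc (ext β) (PP S (i + 1)) (PP S i) k.val := fun i => by
    have := finite_of_le (PP_le (S := S) i)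
    obtain ⟨k, hk⟩ := Sc.exists (h.pgP i) (PP_anti i.le_succ) (h.rel_dvd i) ((homOn_ext β).mono (PP_le i))
      (iv_PP β _) (iv_PP β _)
    exact ⟨k, hk.cast (fun _ => h.pow_succ_mem) (ZMod.natCast_zmod_val _)⟩
  choose u hu using this
  exact ⟨a, u, ha.cast (fun _ => h.pow_mem0) (ZMod.natCast_zmod_val _), hu⟩

variable (w : Wt p β α u)
include w

theorem wt_ne0 : α ≠ 0 := by
  simpa using Sc.ne_zero h.pg (PP_le 0) h.rel0.dvd (iv_PP β 0) (not_le_of_relIndex_eq h.rel0) w.top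

theorem wt_ne (hi : i ≤ c) : u i ≠ 0 := by
  have := finite_of_le (PP_le (S := S) i)
  simpa using Sc.ne_zero (h.pgP i) (PP_anti i.le_succ) (h.rel_dvd i) (iv_PP β _) (h.not_le hi i.lt_succ_self) (w.lev i)

theorem wt_top (hy : y ∈ S) (hy' : y ∉ PP S 0) {k : ℕ} (e : (y ^ k)⁻¹ * ext β y ∈ PP S 0) : α = k := by
  simpa using eig_unique hy' (h.pow_mem0 hy) (w.top y hy) e

theorem wt_eq (hy : y ∈ PP S i) (hy' : y ∉ PP S (i + 1)) {k : ℕ} (e : (y ^ k)⁻¹ * ext β y ∈ PP S (i + 1)) :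
    u i = k := by
  simpa using eig_unique hy' (h.pow_succ_mem hy) (w.lev i y hy) e

theorem wt_step (hc : CE S e) (he : e ≤ c + 1) (hi : i + 2 ≤ e) : u (i + 1) = α * u i := by
  have := Sc.comm (homOn_ext β) (PP_normal (i + 2)) (PP_le i) le_rfl (PP_anti i.le_succ) (PP_le 0) (PP_commS i)
    (PP_commS (i + 1)) (hc i hi) (comm_le_symm (PP_commS (i + 1))) (fun _ => h.pow_succ_mem) (w.lev i) w.top
    (w.lev (i + 1)) fun e => h.not_le (by omega) (i + 1).lt_succ_self ((h.le_commS i).trans e)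
  simpa [mul_comm] using this.symm

theorem wt_add (hc : CE S e) (he : e ≤ c + 1) (hi : i + j + 1 ≤ e) : u (i + j) = α ^ j * u i := by
  induction j with
  | zero => simp
  | succ j ih => rw [← add_assoc, h.wt_step w hc he (by omega), ih (by omega), pow_succ', mul_assoc]

theorem wt_comm {l : ℕ} (h1 : ⁅PP S i, PP S j⁆ ≤ PP S l) (h2 : ⁅PP S (i + 1), PP S j⁆ ≤ PP S (l + 1))
    (h3 : ⁅PP S i, PP S (j + 1)⁆ ≤ PP S (l + 1)) (h4 : ¬ ⁅PP S i, PP S j⁆ ≤ PP S (l + 1)) : u l = u i * u j := by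
  simpa using (Sc.comm (homOn_ext β) (PP_normal (l + 1)) (PP_le i) (PP_le j) (PP_anti i.le_succ) (PP_anti j.le_succ) h1
    h2 h3 (comm_le_symm (PP_commS l)) (fun _ => h.pow_succ_mem) (w.lev i) (w.lev j) (w.lev l) h4).symm

theorem wt_exc (hx : Kc S (c - 1) ≠ PP S 0) (hij : i + j + 1 = c) : u c = u i * u j :=
  h.wt_comm w (PP_comm' hij.ge) (PP_comm' (by omega)) (PP_comm' (by omega))
    (by rw [h.bot le_rfl]; exact h.nondeg hx (by omega))

end MX

end Cfsg.Agent.H5.PE
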