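import Mathlib
import Cfsg.Agent.H5.PE1
import Cfsg.Agent.H58.LinO3
import Cfsg.Agent.H58.LinF
import Cfsg.Agent.H29.PSL2Sub

/-!
# Groups with a self-centralizing Sylow subgroup of prime order and a small module are real
-/

set_option autoImplicit false
set_option linter.unusedSectionVars false

namespace Cfsg.Agent.H5.PE

open Polynomial Cfsg.Agent.H29 Cfsg.Agent.H58 Cfsg.Agent.H8
open scoped MatrixGroups TensorProduct

variable {p : ℕ} [hp : Fact p.Prime]

theorem exists_traceless {k : Type*} [Field k] [Finite k] (h2 : (2 : k) ≠ 0) {δ b c : k}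
    (hD : δ ^ 2 + 4 * b * c ≠ 0) :
    ∃ x y z w : k, w ≠ 0 ∧ x * δ + y * c + z * b = 0 ∧ x * -x - y * z = w * w := by
  have := Fintype.ofFinite k
  have key : ∀ b c : k, b ≠ 0 → δ ^ 2 + 4 * b * c ≠ 0 →
      ∃ x y z w : k, w ≠ 0 ∧ x * δ + y * c + z * b = 0 ∧ x * -x - y * z = w * w := fun b c hb hD => by
    obtain ⟨u, y, e⟩ := FiniteField.exists_root_sum_quadratic (f := X ^ 2 + C (4 * b ^ 2))
      (g := C (-(δ ^ 2 + 4 * b * c)) * X ^ 2) (degree_X_pow_add_C two_pos _) (degree_C_mul_X_pow 2 (neg_ne_zero.2 hD))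
      (FiniteField.odd_card_of_char_ne_two fun e => h2 (by exact_mod_cast e ▸ ringChar.Nat.cast_ringChar (R := k)))
    simp only [eval_add, eval_pow, eval_X, eval_C, eval_mul] at e
    exact ⟨b * (u + δ * y), 2 * b ^ 2 * y, -(δ * (u + δ * y) + 2 * b * c * y), 2 * b ^ 2,
      mul_ne_zero h2 (pow_ne_zero _ hb), by ring, by linear_combination -b ^ 2 * e⟩
  by_cases hb : b = 0
  · by_cases hc : c = 0
    · exact ⟨0, 1, -1, 1, one_ne_zero, by simp [hb, hc], by simp⟩
    · obtain ⟨x, y, z, w, h1, h3, h4⟩ := key c b hc (by rwa [mul_right_comm])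
      exact ⟨x, z, y, w, h1, by linear_combination h3, by linear_combination h4⟩
  · exact key b c hb hD

theorem real_pgl2 {k : Type*} [Field k] [Finite k] [CharP k p] (hp2 : p ≠ 2) (g : PGL(2, k)) :
    g ^ p = 1 ∨ ∃ n ∈ Lsub k, n * g * n⁻¹ = g⁻¹ := by
  have h2 : (2 : k) ≠ 0 := by exact_mod_cast cast_ne_zero_of_lt (k := k) (p := p) two_pos (by have := hp.out.two_le; omega)
  obtain ⟨A, rfl⟩ := pmk_surj g
  by_cases hD : (A 0 0 - A 1 1) ^ 2 + 4 * A 0 1 * A 1 0 = 0
  · left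
    obtain ⟨t, ht⟩ : ∃ t, 2 * t = A 0 0 + A 1 1 := ⟨_, mul_div_cancel₀ _ h2⟩
    have h1 : (A.val - Matrix.scalar (Fin 2) t) ^ 2 = 0 := by
      have h4 : (2 * 2 : k) ≠ 0 := mul_ne_zero h2 h2
      ext i j
      fin_cases i <;> fin_cases j <;> simp [sq, Matrix.mul_apply, Fin.sum_univ_two]
      · exact mul_left_cancel₀ h4 (by linear_combination hD + (2 * t - 3 * A 0 0 + A 1 1) * ht)
      · linear_combination -A 0 1 * ht
      · linear_combination -A 1 0 * ht
      · exact mul_left_cancel₀ h4 (by linear_combination hD + (2 * t - 3 * A 1 1 + A 0 0) * ht)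
    have h3 := sub_pow_char_of_commute p (Matrix.scalar_commute t (fun _ => Commute.all _ _) A.val).symm
    rw [pow_eq_zero_of_le hp.out.two_le h1, eq_comm, sub_eq_zero, ← map_pow] at h3
    rw [← map_pow, pmk_eq_one_iff]
    simp [h3]
  · obtain ⟨x, y, z, w, h1, h3, h4⟩ := exists_traceless h2 hD
    have h5 : x * -x - y * z ≠ 0 := h4 ▸ mul_ne_zero h1 h1
    refine Or.inr ⟨pmk (mat x y z (-x) h5), (pmk_mem_L _).2 ⟨w, h4⟩, ?_⟩
    have h6 : (pmk (mat x y z (-x) h5))⁻¹ = pmk (mat x y z (-x) h5) := inv_eq_of_mul_eq_one_right (by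
      rw [← map_mul, pmk_eq_one_iff]
      simp only [GL2_mul_apply, mat_00, mat_01, mat_10, mat_11]
      exact ⟨by ring, by ring, by ring⟩)
    rw [h6, eq_inv_iff_mul_eq_one, ← map_mul, ← map_mul, ← map_mul, pmk_eq_one_iff]
    simp only [GL2_mul_apply, mat_00, mat_01, mat_10, mat_11]
    exact ⟨by linear_combination (x * A 0 1 + y * A 1 1) * h3, by linear_combination (z * A 0 0 - x * A 1 0) * h3,
      by linear_combination (x * A 0 0 + y * A 1 0 - z * A 0 1 + x * A 1 1) * h3⟩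

variable {G : Type*} [Group G] [Finite G]

theorem frob_triv {A : Type*} [Ring A] [Algebra (ZMod p) A] (K : Subgroup G) [hK : K.Normal]
    (h1 : ¬ p ∣ Nat.card K) {u : G} (hc : ∀ k ∈ K, ∀ i, 0 < i → i < p → Commute (u ^ i) k → k = 1)
    (ρ : G →* A) (h : (ρ u - 1) ^ (p - 1) = 0) {k : G} (hk : k ∈ K) : ρ k = 1 := by
  classical
  have := Fintype.ofFinite K
  have e := H4.HH.sub_one_pow_eq_geom_sum (ZMod p) p (ρ u) 1
  rw [pow_one, h] at e
  have h2 : ∀ i ∈ Finset.range (p - 1), ∑ x : K, ρ x * ρ u ^ (i + 1) * ρ (x : G)⁻¹ = (∑ x : K, ρ x) * ρ u ^ (i + 1) :=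
    fun i hi => by
    let f : K → K := fun x => ⟨x * (u ^ (i + 1) * (x : G)⁻¹ * (u ^ (i + 1))⁻¹), K.mul_mem x.2 (hK.conj_mem _ (K.inv_mem x.2) _)⟩
    have hf : Function.Injective f := fun x y e => by
      have e' : (x : G) * (u ^ (i + 1) * (x : G)⁻¹ * (u ^ (i + 1))⁻¹) = y * (u ^ (i + 1) * (y : G)⁻¹ * (u ^ (i + 1))⁻¹) :=
        congrArg Subtype.val e
      refine (Subtype.ext (inv_mul_eq_one.1 (hc _ (K.mul_mem (K.inv_mem y.2) x.2) (i + 1) (by omega)
        (by have := Finset.mem_range.1 hi; omega) ?_))).symm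
      calc u ^ (i + 1) * ((y : G)⁻¹ * x) = (y : G)⁻¹ * (y * (u ^ (i + 1) * (y : G)⁻¹ * (u ^ (i + 1))⁻¹)) * u ^ (i + 1) * x := by group
        _ = _ := by rw [← e']; group
    rw [Finset.sum_mul, ← Equiv.sum_comp (Equiv.ofBijective f (Finite.injective_iff_bijective.1 hf))
      fun x : K => ρ x * ρ u ^ (i + 1)]
    refine Finset.sum_congr rfl fun x _ => ?_
    simp only [← map_pow, ← map_mul, Equiv.ofBijective_apply, f]
    congr 1; group
  have h3 : ∑ x : K, ρ x = (Fintype.card K : ZMod p) • (1 : A) := by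
    have e1 : ∑ i ∈ Finset.range (p - 1), ρ u ^ (i + 1) = -1 := by
      rw [← Nat.sub_add_cancel hp.out.one_le, Finset.sum_range_succ', pow_zero] at e
      exact eq_neg_of_add_eq_zero_left e.symm
    have e2 := Finset.sum_congr rfl h2
    rw [← Finset.mul_sum, e1, Finset.sum_comm] at e2
    simp only [← Finset.sum_mul, ← Finset.mul_sum, e1, mul_neg, mul_one, neg_mul, ← map_mul, mul_inv_cancel, map_one,
      Finset.sum_neg_distrib, neg_inj, Finset.sum_const, Finset.card_univ] at e2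
    rw [← e2, Nat.cast_smul_eq_nsmul]
  have h4 : ρ k * ∑ x : K, ρ x = ∑ x : K, ρ x := by
    rw [Finset.mul_sum, ← Equiv.sum_comp (Equiv.mulLeft (⟨k, hk⟩ : K)) fun x : K => ρ x]
    simp
  rw [h3, mul_smul_comm, mul_one] at h4
  exact smul_right_injective A (by rwa [Ne, ZMod.natCast_eq_zero_iff, ← Nat.card_eq_fintype_card]) h4

theorem pow_sub_one_pow {A : Type*} [Ring A] {U : A} {s : ℕ} (h : (U - 1) ^ s = 0) (n : ℕ) : (U ^ n - 1) ^ s = 0 := by
  rw [← mul_geom_sum, Commute.mul_pow, h, zero_mul]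
  exact Commute.sum_right _ _ _ fun i _ => ((Commute.refl U).pow_right i).sub_left (Commute.one_left _)

theorem real_of_small (P : Sylow p G) (hP : Nat.card P = p) (hn : ¬ (P : Subgroup G).Normal)
    (hC : ∀ g, (∀ u ∈ (P : Subgroup G), Commute u g) → ∃ k, g ^ p ^ k = 1)
    {W : Type*} [AddCommGroup W] [Module (ZMod p) W] [Finite W] (ρ : G →* Module.End (ZMod p) W) {s : ℕ}
    (h0 : ∃ u ∈ (P : Subgroup G), ρ u ≠ 1) (hs : ∀ u ∈ (P : Subgroup G), (ρ u - 1) ^ s = 0) (h2 : 2 * s ≤ p)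
    {A : Type*} [Ring A] [Algebra (ZMod p) A] (σ : G →* A) (h3 : ∀ u ∈ (P : Subgroup G), (σ u - 1) ^ (p - 1) = 0)
    (hf : ∀ g, σ g = 1 → ∃ k, g ^ p ^ k = 1) (h : G) : h ^ p = 1 ∨ ∃ n, n * h * n⁻¹ = h⁻¹ := by
  obtain ⟨u, x, α, e, S⟩ := exists_sett P hP
  let k := AlgebraicClosure (ZMod p)
  let β := Module.End.baseChangeHom (ZMod p) k W
  have hβ : Function.Injective β := LinearMap.baseChangeHom_injective (ZMod p) W k
  obtain ⟨hp5, φ, hu⟩ := S.exists_pgl2_of_small (β.toMonoidHom.comp ρ) (s := s) (fun e => by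
    obtain ⟨v, hv, hv'⟩ := h0
    obtain ⟨i, rfl⟩ := exists_upow S.ou (S.hP ▸ hv)
    have : ρ u = 1 := hβ ((sub_eq_zero.1 e).trans (map_one β).symm)
    exact hv' (by rw [map_upow, this, one_pow])) (by
      simpa using congrArg β (hs u S.u_mem)) h2
  have := Fintype.ofFinite G
  have hK := S.not_dvd_card (K := φ.ker) hu
  have h4 : ∀ y ∈ φ.ker, (∃ k, y ^ p ^ k = 1) → y = 1 := fun y hy ⟨j, hj⟩ =>
    orderOf_eq_one_iff.1 (Nat.eq_one_of_dvd_coprimes (Nat.Coprime.pow_left j ((hp.out.coprime_iff_not_dvd).2 hK))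
      (orderOf_dvd_of_pow_eq_one hj) (φ.ker.orderOf_dvd_natCard hy))
  have hφ : Function.Injective φ := (injective_iff_map_eq_one φ).2 fun y hy => h4 y hy (hf y
    (frob_triv φ.ker hK (fun z hz i h5 h6 h7 => h4 z hz (hC z fun v hv => by
      have h8 : u ^ i ≠ 1 := fun e => absurd (Nat.le_of_dvd h5 (S.ou ▸ orderOf_dvd_of_pow_eq_one e)) (by omega)
      obtain ⟨j, rfl⟩ := mem_zpowers_of_card_eq S.card_P (pow_mem S.u_mem i) h8 hv
      exact h7.zpow_left j)) σ (h3 u S.u_mem) hy))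
  have : Finite φ.range := Finite.of_surjective _ φ.rangeRestrict_surjective
  have hup : φ u ^ p = 1 := by rw [← map_pow, S.up, map_one]
  have h1 : ∀ z : P1 k, φ u • z = z → φ u ∈ uni z := fun z hz => by
    by_contra h
    obtain ⟨-, y, hy, h⟩ := exists_fix_of_not_mem_uni hz h
    exact hu (eq_one_of_fix_two_of_pow_char hy h hz p hup)
  obtain ⟨z, hz⟩ := exists_fixed_of_isAlgClosed (φ u)
  rcases dickson_core φ.range fun g _ => exists_fixed_of_isAlgClosed g with
    ⟨y, h⟩ | ⟨y, y', hy, -, h⟩ | ⟨h, -⟩ | ⟨h, -⟩ | ⟨y, q, hq, h4, h5, h6⟩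
  · have h5 : (uni y).comap φ = P := P.is_maximal' (fun g => ⟨1, Subtype.ext (hφ (by
      simpa using (uni_pow_eq_one_iff g.2 _).2 (Or.inr (by simp))))⟩)
      (S.hP.le.trans (Subgroup.zpowers_le.2 (h1 y (h _ ⟨u, rfl⟩))))
    refine (hn (h5 ▸ ⟨fun a ha g => ?_⟩)).elim
    simpa using conj_mem_uni_of_fix (h _ ⟨g, rfl⟩) ha
  · rcases h _ ⟨u, rfl⟩ with ⟨h4, h5⟩ | ⟨h4, h5⟩
    · exact (hu (eq_one_of_fix_two_of_pow_char hy h4 h5 p hup)).elim
    · have := Nat.le_of_dvd two_pos (orderOf_eq_prime hup hu ▸ orderOf_dvd_of_pow_eq_one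
        ((pow_two _).trans (mul_self_eq_one_of_swap hy h4 h5)))
      omega
  · exact (hu (h z _ ⟨u, rfl⟩ (h1 z hz))).elim
  · have := Nat.le_of_dvd three_pos ((CharP.cast_eq_zero_iff k p 3).1 (by simpa using h))
    omega
  obtain ⟨c, F, hF, h7⟩ := identify φ.range (by omega) y h4 h5 h6
  have : Finite F := Nat.finite_of_card_ne_zero (by omega)
  obtain ⟨g, hg⟩ := (h7.elim (·.le) fun e => e.le.trans (PSLsub_le_PGLsub _))
    (conj_mem_map_conj_iff.2 (⟨h, rfl⟩ : φ h ∈ φ.range))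
  refine (real_pgl2 (p := p) (by omega) g).imp (fun e => hφ ?_) fun ⟨n, hn, e⟩ => ?_
  · have := congrArg (pmap F.subtype) e
    rwa [map_pow, hg, conj_pow, map_one, mul_inv_eq_one, mul_eq_left, ← map_pow, ← map_one φ] at this
  · obtain ⟨_, ⟨m, rfl⟩, hm⟩ := (h7.elim (fun e => (PSLsub_le_PGLsub _).trans e.ge) (·.ge)) ⟨n, hn, rfl⟩
    refine ⟨m, hφ ((MulAut.conj c).injective ?_)⟩
    have := congrArg (pmap F.subtype) e
    rw [map_mul, map_mul, map_inv, map_inv, hg, ← hm] at this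
    simpa [mul_assoc, -EmbeddingLike.apply_eq_iff_eq] using this

section Lin

variable {W : Type*} [AddCommGroup W] [Module (ZMod p) W]

theorem eval_eq_zero_of {H : Module.End (ZMod p) W} {A B : Submodule (ZMod p) W} (hBA : B ≤ A) {u : ZMod p}
    (h : ∀ v ∈ A, H v - u • v ∈ B) {w : W} (hw : w ∈ A) (hw' : w ∉ B) {q : (ZMod p)[X]} (e : aeval H q w = 0) :
    q.eval u = 0 := by
  have h1 : ∀ n : ℕ, (H ^ n) w - u ^ n • w ∈ B := fun n => by
    induction n with
    | zero => simp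
    | succ n ih =>
      have := add_mem (add_mem (h _ (hBA ih)) (B.smul_mem u ih)) (B.smul_mem (u ^ n) (h w hw))
      convert this using 1
      simp only [pow_succ', Module.End.mul_apply, map_sub, map_smul]; module
  have h2 : ∀ q : (ZMod p)[X], aeval H q w - q.eval u • w ∈ B := fun q => by
    induction q using Polynomial.induction_on' with
    | add p q hp hq => simpa [add_smul, add_sub_add_comm] using add_mem hp hq
    | monomial n a => simpa [aeval_monomial, smul_sub, smul_smul] using B.smul_mem a (h1 n)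
  by_contra h3
  exact hw' ((B.smul_mem_iff h3).1 (by simpa [e] using h2 q))

theorem exists_XX_poly (hp2 : p ≠ 2) : ∃ q : (ZMod p)[X], ∀ U : Module.End (ZMod p) W, U ^ p = 1 →
    U = aeval (XX p (ZMod p) U) q := by
  obtain ⟨q, hq⟩ := exists_aeval_XX (k := ZMod p) hp2 (U := AdjoinRoot.root (X ^ p - 1 : (ZMod p)[X])) (by
    rw [← sub_eq_zero, ← AdjoinRoot.mk_X, ← map_pow, ← map_one (AdjoinRoot.mk _), ← map_sub, AdjoinRoot.mk_self]) X
  rw [XX, ← aeval_comp, AdjoinRoot.aeval_eq, AdjoinRoot.aeval_eq, AdjoinRoot.mk_eq_mk] at hq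
  obtain ⟨r, hr⟩ := hq
  refine ⟨q, fun U hU => ?_⟩
  have := congrArg (aeval U) hr
  rwa [map_mul, map_sub, map_sub, map_pow, aeval_X, hU, map_one, sub_self, zero_mul, sub_eq_zero, aeval_comp] at this

/-- `ν` is an eigenvalue. -/
def Ev (H : Module.End (ZMod p) W) (ν : ZMod p) : Prop := ∃ w, w ≠ 0 ∧ H w = ν • w

/-- The element of the normalizer of the torus. -/
def nn {G : Type*} [Group G] (x y : G) (s : ZMod p) : G := upow x s * upow y (-s⁻¹) * upow x s

theorem map_nn {G G' : Type*} [Group G] [Group G'] (f : G →* G') (x y : G) (s : ZMod p) :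
    f (nn x y s) = nn (f x) (f y) s := by simp [nn, upow]

theorem exists_pow_eq {l ν : ZMod p} (hl : orderOf l = p - 1) (hν : ν ≠ 0) : ∃ s < p - 1, l ^ s = ν :=
  have : NeZero (p - 1) := ⟨by have := hp.out.two_le; omega⟩
  (hl ▸ IsPrimitiveRoot.orderOf l : IsPrimitiveRoot l (p - 1)).eq_pow_of_pow_eq_one (ZMod.pow_card_sub_one_eq_one hν)

/-- Highest weight vectors of `SL₂(p)`. -/
theorem sl2_weights (h5 : 5 ≤ p) {l : ZMod p} (hl : orderOf l = p - 1) {x y h : (Module.End (ZMod p) W)ˣ}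
    (hx : x ^ p = 1) (hy : y ^ p = 1) (h1 : h * x * h⁻¹ = upow x (l ^ 2)) (h2 : h * y * h⁻¹ = upow y (l ^ 2)⁻¹)
    (h3 : nn x y (1 : ZMod p) * h = nn x y l⁻¹) {v : W} {χ : ZMod p} (hv : x.val v = v) (hv' : h.val v = χ • v)
    (hn : y.val v ≠ v) : Ev h.val (χ * (l ^ 2)⁻¹) ∧ (Ev h.val (l ^ 2) ∨ Ev h.val l⁻¹) := by
  classical
  have hp2 : p ≠ 2 := by omega
  have hl0 : l ≠ 0 := by rintro rfl; rw [orderOf_zero] at hl; omega
  have hl2 := pow_ne_zero 2 hl0
  have hv0 : v ≠ 0 := by rintro rfl; exact hn (map_zero _)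
  have hχ : χ ≠ 0 := by rintro rfl; exact hv0 (by simpa [NE.inv_app] using congrArg (h⁻¹).val hv')
  obtain ⟨q, hq⟩ := exists_XX_poly (W := W) hp2
  have q0 : q.coeff 0 • v = v := by
    have := hq 1 (one_pow p)
    rw [XX_eq] at this
    simp only [one_pow, ← Finset.sum_smul, sum_zc_inv hp2, zero_smul, ← coeff_zero_eq_aeval_zero'] at this
    exact (congrArg (· v) this).symm
  let ι := Units.coeHom (Module.End (ZMod p) W)
  have e1 := rho_mul_XX_pow (k := ZMod p) ι hx hl2 h1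
  have e2 := rho_mul_XX_pow (k := ZMod p) ι hy (inv_ne_zero hl2) h2
  have e3 : ∀ s : ZMod p, s ≠ 0 → (upow y s).val v = ∑ b ∈ Finset.range (q.natDegree + 1),
      s ^ b • q.coeff b • (XX p (ZMod p) y.val ^ b) v := fun s hs => by
    have := hq _ (rho_pow_p ι (upow_pow_p hy s))
    rw [XX_upow (k := ZMod p) ι hy hs, aeval_eq_sum_range] at this
    refine (congrArg (· v) this).trans ?_
    simp [zc, _root_.smul_pow, smul_smul, mul_comm, ι]
  obtain ⟨qx, e4⟩ := exists_sub_one_eq (k := ZMod p) hp2 (rho_pow_p ι hx)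
  obtain ⟨qy, e5⟩ := exists_sub_one_eq (k := ZMod p) hp2 (rho_pow_p ι hy)
  obtain ⟨qz, e6⟩ := exists_aeval_XX (k := ZMod p) hp2 (rho_pow_p ι hx) (∑ i ∈ Finset.range (1 - l⁻¹).val, X ^ i)
  simp only [zc, ZMod.castHom_self, RingHom.id_apply, ι, Units.coeHom_apply, map_sum, map_pow, aeval_X] at e1 e2 e4 e5 e6
  generalize XX p (ZMod p) x.val = A at *
  generalize XX p (ZMod p) y.val = B at *
  have e7 : ∀ a b, h.val ((A ^ a) ((B ^ b) v)) = (χ * (l ^ 2) ^ a * (l ^ 2)⁻¹ ^ b) • (A ^ a) ((B ^ b) v) := fun a b => by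
    rw [← Module.End.mul_apply, e1, LinearMap.smul_apply, Module.End.mul_apply, ← Module.End.mul_apply h.val, e2]
    simp only [LinearMap.smul_apply, Module.End.mul_apply, hv', map_smul, smul_smul]
    congr 1; ring
  have hB : B v ≠ 0 := fun e => hn (sub_eq_zero.1 (by
    have := congrArg (· v) e5
    rwa [show B * aeval B qy = aeval B qy * B by simpa using (NE.commute_pow_aeval B 1 qy).eq, Module.End.mul_apply, e,
      map_zero] at this))
  refine ⟨⟨_, hB, by simpa using e7 0 1⟩, by_contra fun hc => ?_⟩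
  have ex : ∃ b, 1 ≤ b ∧ b ≤ q.natDegree ∧ q.coeff b • (B ^ b) v ≠ 0 := by
    by_contra h4
    push Not at h4
    have := e3 1 one_ne_zero
    rw [upow_one, Finset.sum_range_succ', Finset.sum_eq_zero fun b hb => by
      rw [h4 _ (by omega) (by have := Finset.mem_range.1 hb; omega), smul_zero]] at this
    exact hn (by simpa [q0] using this)
  obtain ⟨b₀, b1, b2, b3⟩ := ex
  have r1 := Nat.le_findGreatest (P := fun b => q.coeff b • (B ^ b) v ≠ 0) b2 b3
  have r2 := Nat.findGreatest_spec (P := fun b => q.coeff b • (B ^ b) v ≠ 0) b2 b3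
  have r3 := Nat.findGreatest_le (P := fun b => q.coeff b • (B ^ b) v ≠ 0) q.natDegree
  have r4 := fun k => Nat.findGreatest_is_greatest (P := fun b => q.coeff b • (B ^ b) v ≠ 0) (n := q.natDegree) (k := k)
  generalize Nat.findGreatest (fun b => q.coeff b • (B ^ b) v ≠ 0) q.natDegree = r at r1 r2 r3 r4
  set ν := χ * (l ^ 2)⁻¹ ^ r with hν
  have up : ∀ (C : Module.End (ZMod p) W) (w : W) {i j : ℕ}, i ≤ j → (C ^ j) w ≠ 0 → (C ^ i) w ≠ 0 :=
    fun C w i j hij e e' => e (by rw [← Nat.sub_add_cancel hij, pow_add, Module.End.mul_apply, e', map_zero])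
  have v1 : ∀ a b j, b ≤ r → (A ^ a) ((B ^ b) v) ≠ 0 → j + b ≤ a + r → Ev h.val (ν * l ^ (2 * j)) := fun a b j hb e hj => by
    rcases le_total (j + b) r with h4 | h4
    · obtain ⟨i, rfl⟩ : ∃ i, r = i + j := ⟨r - j, by omega⟩
      refine ⟨_, up B v (by omega : i ≤ i + j) fun e => r2 (by rw [e, smul_zero]), (e7 0 i).trans ?_⟩
      congr 1; simp only [hν, pow_mul, inv_pow]; field_simp; ring
    · obtain ⟨i, rfl⟩ : ∃ i, r = i + b := ⟨r - b, by omega⟩
      obtain ⟨j, rfl⟩ : ∃ j', j = j' + i := ⟨j - i, by omega⟩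
      refine ⟨_, up A _ (by omega : j ≤ a) e, (e7 j b).trans ?_⟩
      congr 1; simp only [hν, pow_mul, inv_pow]; field_simp; ring
  let P : Module.End (ZMod p) W := 1 - (h.val - ν • 1) ^ (p - 1)
  have hP : ∀ (μ : ZMod p) w, h.val w = μ • w → P w = (1 - (μ - ν) ^ (p - 1)) • w := fun μ w e => by
    have : ∀ n : ℕ, ((h.val - ν • 1 : Module.End (ZMod p) W) ^ n) w = (μ - ν) ^ n • w := fun n => by
      induction n with
      | zero => simp
      | succ n ih => rw [pow_succ', Module.End.mul_apply, ih]; simp [e, smul_smul, pow_succ, mul_sub, sub_smul, smul_sub]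
    simp [P, this, sub_smul]
  clear_value P
  have v2 : ∀ a b, b ≤ q.natDegree → (a ≠ 0 ∨ b ≠ r) → P ((A ^ a) (q.coeff b • (B ^ b) v)) = 0 := fun a b hb h4 => by
    by_cases h6 : r < b
    · rw [not_not.1 (r4 b h6 hb), map_zero, map_zero]
    rw [map_smul, map_smul, hP _ _ (e7 a b)]
    by_cases h7 : χ * (l ^ 2) ^ a * (l ^ 2)⁻¹ ^ b - ν = 0
    swap
    · rw [ZMod.pow_card_sub_one_eq_one h7, sub_self, zero_smul, smul_zero]
    suffices (A ^ a) ((B ^ b) v) = 0 by rw [this, smul_zero, smul_zero]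
    by_contra h8
    obtain ⟨i, rfl⟩ : ∃ i, r = i + b := ⟨r - b, by omega⟩
    have h9 : l ^ (2 * (a + i)) = 1 := by
      rw [hν, sub_eq_zero, inv_pow, inv_pow] at h7
      field_simp at h7
      rw [← pow_mul, ← pow_mul, ← pow_mul] at h7
      exact mul_right_cancel₀ (pow_ne_zero (2 * b) hl0) (by linear_combination h7)
    have h10 := Nat.le_of_dvd (by omega) (hl ▸ orderOf_dvd_of_pow_eq_one h9)
    obtain ⟨s, hs, e⟩ := exists_pow_eq hl (ν := ν) (mul_ne_zero hχ (pow_ne_zero _ (inv_ne_zero hl2)))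
    have h11 := ZMod.pow_card_sub_one_eq_one hl0
    obtain ⟨M, hM⟩ := hp.out.even_sub_one hp2
    obtain ⟨j, hj, h12⟩ : ∃ j ≤ M, s + 2 * j = p - 1 + 2 ∨ s + 2 * j = 2 ∨ s + 2 * j + 1 = p - 1 := by
      rcases Nat.even_or_odd' s with ⟨t, rfl | rfl⟩
      · by_cases h0 : t = 0
        · exact ⟨1, by omega, by omega⟩
        · exact ⟨M + 1 - t, by omega, by omega⟩
      · exact ⟨M - 1 - t, by omega, by omega⟩
    have h13 := v1 a b j (by omega) h8 (by omega)
    rw [← e, ← pow_add] at h13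
    rcases h12 with h12 | h12 | h12
    · exact hc (Or.inl (by rwa [h12, pow_add, h11, one_mul] at h13))
    · exact hc (Or.inl (h12 ▸ h13))
    · exact hc (Or.inr (by rwa [eq_inv_of_mul_eq_one_left ((pow_succ _ _).symm.trans (h12 ▸ h11))] at h13))
  have v3 : ∀ s : ZMod p, s ≠ 0 → P ((upow y s).val v) = s ^ r • q.coeff r • (B ^ r) v := fun s hs => by
    rw [e3 s hs, map_sum, Finset.sum_eq_single_of_mem r (Finset.mem_range.2 (by omega)) fun b hb hb' => by
      simpa using Or.inr (v2 0 b (by have := Finset.mem_range.1 hb; omega) (Or.inr hb'))]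
    have := hP _ _ (e7 0 r)
    simp only [pow_zero, mul_one, Module.End.one_apply, ← hν, sub_self, zero_pow (show p - 1 ≠ 0 by omega), sub_zero,
      one_smul] at this
    rw [map_smul, map_smul, this]
  have v4 : P (((upow x (1 - l⁻¹)).val - 1 : Module.End (ZMod p) W) ((upow y (-1 : ZMod p)).val v)) = 0 := by
    rw [upow, Units.val_pow_eq_pow_val, ← mul_geom_sum, e4, e6, mul_assoc, ← map_mul, aeval_eq_sum_range,
      e3 _ (neg_ne_zero.2 one_ne_zero), Finset.mul_sum, LinearMap.sum_apply, map_sum]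
    refine Finset.sum_eq_zero fun a _ => ?_
    rw [mul_smul_comm, ← pow_succ', LinearMap.smul_apply, map_smul, map_sum, map_sum, Finset.sum_eq_zero, smul_zero]
    exact fun b hb => by
      rw [map_smul, map_smul, v2 _ b (by have := Finset.mem_range.1 hb; omega) (Or.inl (by omega)), smul_zero]
  have v5 : ∀ s : ZMod p, (upow x s).val v = v := fun s => by
    rw [upow, Units.val_pow_eq_pow_val]; exact (Module.End.pow_apply _ _ _).trans (Function.iterate_fixed hv _)
  have v6 : (upow y (-l)).val v = χ • (upow x (1 - l⁻¹)).val ((upow y (-1 : ZMod p)).val v) := by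
    have := congrArg (fun g => (upow x (-l⁻¹) * g).val v) h3
    simp only [nn, ← mul_assoc, ← upow_add hx, neg_add_cancel, upow_zero, one_mul, inv_inv, inv_one, Units.val_mul,
      Module.End.mul_apply, v5, hv', map_smul] at this
    rw [← this, neg_add_eq_sub]
  have v7 := v3 _ (neg_ne_zero.2 hl0)
  rw [LinearMap.sub_apply, map_sub, sub_eq_zero, Module.End.one_apply, v3 _ (neg_ne_zero.2 one_ne_zero)] at v4
  rw [v6, map_smul, v4, smul_smul] at v7
  have v8 : χ = l ^ r := mul_right_cancel₀ (pow_ne_zero r (neg_ne_zero.2 one_ne_zero))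
    ((smul_left_injective _ r2 v7).trans (by rw [neg_pow, mul_comm]))
  have v9 := fun j => v1 0 r j le_rfl (fun e => r2 (by rw [show (B ^ r) v = 0 from e, smul_zero]))
  have v10 := fun j => v1 0 0 j r.zero_le hv0
  rcases Nat.even_or_odd' r with ⟨t, ht | ht⟩
  · refine hc (Or.inl ?_)
    convert v10 (t + 1) (by omega) using 1
    rw [hν, v8, ht, inv_pow]; field_simp; ring
  · refine hc (Or.inr ?_)
    convert v10 t (by omega) using 1
    rw [hν, v8, ht, inv_pow]; field_simp; ring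

/-- A matched pair of quadratic elements and the torus element it defines. -/
structure SP (l : ZMod p) (x y : (Module.End (ZMod p) W)ˣ) (a b : Module.End (ZMod p) W) : Prop where
  xa : x.val = 1 + a
  yb : y.val = 1 + b
  aa : a * a = 0
  bb : b * b = 0
  aba : a * b * a = a
  bab : b * a * b = b
  l0 : l ≠ 0
  l2 : l ^ 2 ≠ 1

/-- The torus element. -/
def tor {G : Type*} [Group G] (l : ZMod p) (x y : G) : G := (nn x y (1 : ZMod p))⁻¹ * nn x y l⁻¹

theorem map_tor {G G' : Type*} [Group G] [Group G'] (f : G →* G') (l : ZMod p) (x y : G) :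
    f (tor l x y) = tor l (f x) (f y) := by simp [tor, map_nn]

theorem tor_mem {G : Type*} [Group G] {H : Subgroup G} (l : ZMod p) {x y : G} (hx : x ∈ H) (hy : y ∈ H) :
    tor l x y ∈ H :=
  have : ∀ s : ZMod p, nn x y s ∈ H := fun _ => mul_mem (mul_mem (pow_mem hx _) (pow_mem hy _)) (pow_mem hx _)
  mul_mem (inv_mem (this _)) (this _)

theorem val_upow {x : (Module.End (ZMod p) W)ˣ} {a : Module.End (ZMod p) W} [Finite W] (h : x.val = 1 + a)
    (ha : a * a = 0) (s : ZMod p) : (upow x s).val = 1 + s • a := by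
  rw [upow, NE.val_pow_quad (by simpa [h]), h]; simp

namespace SP

variable [Finite W] {l ν : ZMod p} {x y : (Module.End (ZMod p) W)ˣ} {a b : Module.End (ZMod p) W} {w : W}
  (h : SP l x y a b)
include h

theorem val_nn {s : ZMod p} (hs : s ≠ 0) : (nn x y s).val = 1 - (a * b + b * a) + s • a - s⁻¹ • b := by
  have h1 : a * (b * a) = a := by rw [← mul_assoc, h.aba]
  simp only [nn, Units.val_mul, val_upow h.xa h.aa, val_upow h.yb h.bb, mul_add, add_mul, one_mul, mul_one,
    smul_mul_assoc, mul_smul_comm, smul_smul, h.aa, mul_assoc, h1, smul_add]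
  match_scalars <;> (field_simp; try ring)

theorem val_tor : (tor l x y).val = 1 - (a * b + b * a) + l • (a * b) + l⁻¹ • (b * a) := by
  have h1 : a * (b * a) = a := by rw [← mul_assoc, h.aba]
  have h2 : b * (a * b) = b := by rw [← mul_assoc, h.bab]
  have h3 : ∀ z, a * (a * z) = 0 := fun z => by rw [← mul_assoc, h.aa, zero_mul]
  have h4 : ∀ z, b * (b * z) = 0 := fun z => by rw [← mul_assoc, h.bb, zero_mul]
  rw [tor, Units.val_mul, Units.inv_mul_eq_iff_eq_mul, h.val_nn one_ne_zero, h.val_nn (inv_ne_zero h.l0)]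
  simp only [mul_add, add_mul, mul_sub, sub_mul, one_mul, mul_one, smul_mul_assoc, mul_smul_comm, mul_assoc, h1, h2, h3,
    h4, h.aa, h.bb, smul_zero, mul_zero, inv_inv]
  module

theorem tor_a : (tor l x y).val * a = l • a ∧ a * (tor l x y).val = l⁻¹ • a := by
  have h1 : a * (b * a) = a := by rw [← mul_assoc, h.aba]
  have h3 : ∀ z, a * (a * z) = 0 := fun z => by rw [← mul_assoc, h.aa, zero_mul]
  simp [h.val_tor, mul_add, add_mul, mul_sub, sub_mul, mul_assoc, h1, h3, h.aa]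

theorem tor_b : (tor l x y).val * b = l⁻¹ • b ∧ b * (tor l x y).val = l • b := by
  have h1 : b * (a * b) = b := by rw [← mul_assoc, h.bab]
  have h3 : ∀ z, b * (b * z) = 0 := fun z => by rw [← mul_assoc, h.bb, zero_mul]
  simp [h.val_tor, mul_add, add_mul, mul_sub, sub_mul, mul_assoc, h1, h3, h.bb]

theorem conj_x : tor l x y * x * (tor l x y)⁻¹ = upow x (l ^ 2) := by
  rw [mul_inv_eq_iff_eq_mul]
  refine Units.ext ?_
  rw [Units.val_mul, Units.val_mul, val_upow h.xa h.aa, h.xa, mul_add, add_mul, smul_mul_assoc, h.tor_a.1, h.tor_a.2,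
    smul_smul, sq, mul_inv_cancel_right₀ h.l0, mul_one, one_mul]

theorem conj_y : tor l x y * y * (tor l x y)⁻¹ = upow y (l ^ 2)⁻¹ := by
  rw [mul_inv_eq_iff_eq_mul]
  refine Units.ext ?_
  rw [Units.val_mul, Units.val_mul, val_upow h.yb h.bb, h.yb, mul_add, add_mul, smul_mul_assoc, h.tor_b.1, h.tor_b.2,
    smul_smul, sq, mul_inv, inv_mul_cancel_right₀ h.l0, mul_one, one_mul]

theorem l1 : l ≠ 1 := fun e => h.l2 (by rw [e, one_pow])

theorem quad (hw : a w = 0) : aeval (tor l x y).val ((X - C l) * (X - C 1)) w = 0 := by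
  have h1 : aeval (tor l x y).val (X - C (1 : ZMod p)) w = a ((l - 1) • b w) := by
    simp [h.val_tor, hw, sub_smul]; abel
  rw [map_mul, Module.End.mul_apply, h1]
  generalize (l - 1) • b w = v
  simpa [sub_eq_zero] using congrArg (· v) h.tor_a.1

theorem cubic (w : W) : aeval (tor l x y).val ((X - C l) * (X - C 1) * (X - C l⁻¹)) w = 0 := by
  rw [map_mul, Module.End.mul_apply]
  refine h.quad ?_
  have h2 := congrArg (· w) h.tor_a.2
  simpa [sub_eq_zero] using h2

theorem eq_l (hw' : b w ≠ 0) (e : (tor l x y).val w = ν • w) : ν = l := by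
  have h2 := congrArg (· w) h.tor_b.2
  simp only [Module.End.mul_apply, e, map_smul, LinearMap.smul_apply] at h2
  exact smul_left_injective _ hw' h2

theorem eq_zero (hw : a w = 0) (e : (tor l x y).val w = l⁻¹ • w) : w = 0 := by
  have h1 : l⁻¹ ≠ l := fun e => h.l2 (by rw [sq]; nth_rw 1 [← e]; exact inv_mul_cancel₀ h.l0)
  have h2 : b w = 0 := by_contra fun hb => h1 (h.eq_l hb e)
  by_contra h3
  exact h.l1 (inv_eq_one.1 (smul_left_injective _ h3 (e.symm.trans (by simp [h.val_tor, hw, h2]))))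

end SP

end Lin

end Cfsg.Agent.H5.PE
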