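import Mathlib
import Cfsg.Agent.H5.PE2

/-!
# Linear sections in a `p`-group of maximal class
-/

set_option autoImplicit false
set_option linter.unusedSectionVars false

namespace Cfsg.Agent.H5.PE

open Cfsg Cfsg.FusionSystem Cfsg.Agent.H97 Cfsg.Agent.H98 Cfsg.Agent.H96 Cfsg.Agent.S5264 Cfsg.Agent.H5.NE
open Polynomial
open scoped commutatorElement

universe u

variable {Ω : Type u} [Group Ω] {p : ℕ} [hp : Fact p.Prime] {S E B C N V : Subgroup Ω} {X : Type*} [Group X]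
  {ι : X →* MulAut E} {c e i j : ℕ} {x y g : Ω}

/-- The section `B / C` of `E` as a module for a group of automorphisms. -/
structure Sx (ι : X →* MulAut E) (B C : Subgroup Ω) {W : Type*} [AddCommGroup W] [Module (ZMod p) W]
    (π : Ω → W) (ρ : X →* (W →ₗ[ZMod p] W)ˣ) : Prop where
  le : C ≤ B
  leE : B ≤ E
  inv : ∀ α, Iv (ι α) B
  add : ∀ x ∈ B, ∀ y ∈ B, π (x * y) = π x + π y
  surj : ∀ w, ∃ x ∈ B, π x = w
  ker : ∀ x ∈ B, π x = 0 ↔ x ∈ C
  act : ∀ α, ∀ x ∈ B, (ρ α).val (π x) = π (ext (ι α) x)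

theorem exists_sx [Finite B] (ι : X →* MulAut E) (hCB : C ≤ B) (hBE : B ≤ E) (hB : ∀ α, Iv (ι α) B)
    (hC : ∀ α, Iv (ι α) C) (h1 : ⁅B, B⁆ ≤ C) (h2 : ∀ x ∈ B, x ^ p ∈ C) :
    ∃ (W : Type u) (_ : AddCommGroup W) (_ : Module (ZMod p) W) (_ : Finite W) (π : Ω → W)
      (ρ : X →* (W →ₗ[ZMod p] W)ˣ), Sx ι B C π ρ := by
  have hn : (C.subgroupOf B).Normal := ⟨fun a ha b => by
    simpa [mul_assoc, Subgroup.mem_subgroupOf] using C.mul_mem ha (h1 (conj_mem_comm a.2 b.2))⟩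
  let i : CommGroup (B ⧸ C.subgroupOf B) := { (inferInstance : Group (B ⧸ C.subgroupOf B)) with
    mul_comm := fun a b => by
      obtain ⟨a, rfl⟩ := QuotientGroup.mk_surjective a
      obtain ⟨b, rfl⟩ := QuotientGroup.mk_surjective b
      rw [← QuotientGroup.mk_mul, ← QuotientGroup.mk_mul, QuotientGroup.eq]
      simpa [mul_assoc, Subgroup.mem_subgroupOf, commutatorElement_def] using
        h1 (Subgroup.commutator_mem_commutator (B.inv_mem b.2) (B.inv_mem a.2)) }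
  have hV : ∀ a : Additive (B ⧸ C.subgroupOf B), p • a = 0 := fun a => by
    obtain ⟨b, hb⟩ := QuotientGroup.mk_surjective a.toMul
    change a.toMul ^ p = 1
    rw [← hb, ← QuotientGroup.mk_pow, QuotientGroup.eq_one_iff]
    exact h2 _ b.2
  let m := AddCommGroup.zmodModule hV
  let r : X → (B →* B) := fun α => ((homOn_ext (ι α)).mono hBE).toHom.codRestrict B fun x => hB α x x.2
  let b : X → (B ⧸ C.subgroupOf B →* B ⧸ C.subgroupOf B) := fun α =>
    QuotientGroup.map _ _ (r α) fun x hx => hC α x hx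
  have hb : ∀ α (x : B), b α (x : B ⧸ C.subgroupOf B) = (r α x : B) := fun _ _ => rfl
  obtain ⟨e, he⟩ := exists_rep (p := p) (fun α => MonoidHom.toAdditive (b α)) (fun y => by
        obtain ⟨x, hx⟩ := QuotientGroup.mk_surjective y.toMul
        change b 1 y.toMul = y.toMul
        rw [← hx, hb]; congr 1; exact Subtype.ext (by change ext (ι 1) x = x; rw [map_one, ext_one])) fun α β y => by
        obtain ⟨x, hx⟩ := QuotientGroup.mk_surjective y.toMul
        change b (α * β) y.toMul = b α (b β y.toMul)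
        rw [← hx, hb, hb, hb]; congr 1
        exact Subtype.ext (by change ext (ι (α * β)) x = ext (ι α) (ext (ι β) x); rw [map_mul, ext_mul])
  let q := fn (QuotientGroup.mk' (C.subgroupOf B))
  refine ⟨_, inferInstance, m, inferInstance, fun x => Additive.ofMul (q x), e, hCB, hBE, hB,
    fun x hx y hy => congrArg Additive.ofMul (homOn_fn (QuotientGroup.mk' (C.subgroupOf B)) x hx y hy),
    fun w => ?_, fun x hx => ?_, fun α x hx => ?_⟩
  · obtain ⟨x, hx⟩ := QuotientGroup.mk_surjective w.toMul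
    exact ⟨x, x.2, by simp only [q, fn_coe]; exact congrArg Additive.ofMul hx⟩
  · change q x = 1 ↔ _
    simp only [q, fn_apply _ hx]; exact QuotientGroup.eq_one_iff _
  · rw [he]
    change b α (q x) = q _
    simp only [q, fn_apply _ hx, fn_apply _ (hB α x hx)]; rfl

variable {W : Type*} [AddCommGroup W] [Module (ZMod p) W] {π : Ω → W} {ρ : X →* (W →ₗ[ZMod p] W)ˣ}

namespace Sx

variable (h : Sx ι B C π ρ)
include h

theorem map_one : π 1 = 0 := (h.ker 1 B.one_mem).2 C.one_mem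

theorem map_pow (hy : y ∈ B) (n : ℕ) : π (y ^ n) = (n : ZMod p) • π y := by
  induction n with
  | zero => simpa using h.map_one
  | succ n ih => rw [pow_succ, h.add _ (pow_mem hy n) _ hy, ih, Nat.cast_succ, add_smul, one_smul]

theorem map_val (hy : y ∈ B) (n : ZMod p) : π (y ^ n.val) = n • π y := by rw [h.map_pow hy, ZMod.natCast_zmod_val]

theorem map_inv (hy : y ∈ B) : π y⁻¹ = -π y := by
  rw [eq_neg_iff_add_eq_zero, ← h.add _ (inv_mem hy) _ hy, inv_mul_cancel, h.map_one]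

theorem sub (hx : x ∈ B) (hy : y ∈ B) : π (x⁻¹ * y) = π y - π x := by
  rw [h.add _ (inv_mem hx) _ hy, h.map_inv hx, neg_add_eq_sub]

theorem eq_iff (hx : x ∈ B) (hy : y ∈ B) : π y = π x ↔ x⁻¹ * y ∈ C := by
  rw [← h.ker _ (mul_mem (inv_mem hx) hy), h.sub hx hy, sub_eq_zero]

theorem sub_one (α : X) (hy : y ∈ B) : ((ρ α).val - 1) (π y) = π (y⁻¹ * ext (ι α) y) := by
  rw [h.sub hy (h.inv α y hy), ← h.act α y hy]; rfl

theorem fix_iff {α : X} (hy : y ∈ B) : (ρ α).val (π y) = π y ↔ y⁻¹ * ext (ι α) y ∈ C := by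
  rw [h.act α y hy, h.eq_iff hy (h.inv α y hy)]

theorem eq_one_iff {α : X} : ρ α = 1 ↔ ∀ y ∈ B, y⁻¹ * ext (ι α) y ∈ C := by
  refine ⟨fun e y hy => (h.fix_iff hy).1 (by simp [e]), fun e => Units.ext (LinearMap.ext fun w => ?_)⟩
  obtain ⟨y, hy, rfl⟩ := h.surj w
  exact (h.fix_iff hy).2 (e y hy)

theorem eq_one_of_inn (hc : ⁅B, E⁆ ≤ C) {α : X} (e : ι α ∈ Inn E) : ρ α = 1 := by
  obtain ⟨g, hg, e⟩ := mem_inn_iff.1 e
  exact h.eq_one_iff.2 fun y hy => e y (h.leE hy) ▸ hc (conj_mem_comm hy hg)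

theorem exists_of_mem (hN : N ≤ B) {w : W} (hw : w ∈ Us p π N) : ∃ y ∈ N, π y = w := by
  induction hw using Submodule.span_induction with
  | mem w hw => exact hw
  | zero => exact ⟨1, N.one_mem, h.map_one⟩
  | add _ _ _ _ h1 h2 =>
    obtain ⟨y, hy, rfl⟩ := h1
    obtain ⟨z, hz, rfl⟩ := h2
    exact ⟨y * z, N.mul_mem hy hz, h.add _ (hN hy) _ (hN hz)⟩
  | smul a _ _ h1 =>
    obtain ⟨y, hy, rfl⟩ := h1
    exact ⟨y ^ a.val, N.pow_mem hy _, h.map_val (hN hy) a⟩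

theorem mem_of_mem (hC : C ≤ N) (hN : N ≤ B) (hy : y ∈ B) (hw : π y ∈ Us p π N) : y ∈ N := by
  obtain ⟨z, hz, e⟩ := h.exists_of_mem hN hw
  simpa using N.mul_mem hz (hC ((h.eq_iff (hN hz) hy).1 e.symm))

/-- Eigenvalues on a section are weights. -/
theorem root [Finite S] (m : MX p S c) (hB : B ≤ PP S 0) {β : MulAut S} {α : ZMod p} {u : ℕ → ZMod p}
    (w : Wt p β α u) {η : X} (e : ∀ y ∈ B, ext (ι η) y = ext β y) (hy : y ∈ B) (hy' : y ∉ C) :
    ∃ l ≤ c, C ⊓ PP S l ≤ PP S (l + 1) ∧ (∃ z ∈ C, y * z ∈ PP S l ∧ y * z ∉ PP S (l + 1)) ∧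
      ∀ q : (ZMod p)[X], aeval (ρ η).val q (π y) = 0 → q.eval (u l) = 0 := by
  obtain ⟨z, hz, l, h1, h2, h3, h4⟩ := m.exists_rep (hB hy) hy'
  have h5 := B.mul_mem hy (h.le hz)
  refine ⟨l, h1, h4, ⟨z, hz, h2, h3⟩, fun q hq => eval_eq_zero_of (A := Us p π (B ⊓ PP S l))
    (B := Us p π (B ⊓ PP S (l + 1))) (Submodule.span_mono (Set.image_mono (inf_le_inf_left _ (PP_anti l.le_succ))))
    (fun v hv => ?_) ((h.eq_iff hy h5).2 (by simpa using hz) ▸ mem_Us ⟨h5, h2⟩) (fun hv => ?_) hq⟩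
  · obtain ⟨x, hx, rfl⟩ := h.exists_of_mem inf_le_left hv
    rw [h.act η x hx.1, ← h.map_val hx.1, ← h.sub (pow_mem hx.1 _) (h.inv η x hx.1)]
    exact mem_Us ⟨B.mul_mem (B.inv_mem (B.pow_mem hx.1 _)) (h.inv η x hx.1), e x hx.1 ▸ w.lev l x hx.2⟩
  · obtain ⟨x, hx, e⟩ := h.exists_of_mem inf_le_left hv
    have := C.mul_mem ((h.eq_iff hx.1 hy).1 e.symm) hz
    exact h3 (by simpa [mul_assoc] using mul_mem hx.2 (h4 ⟨this, by
      simpa [mul_assoc] using mul_mem (inv_mem (PP_anti l.le_succ hx.2)) h2⟩))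

theorem nil {a d : ℕ} (h : Sx ι (PP S a) (PP S (a + d)) π ρ) {α : X} (hg : g ∈ S)
    (e : ∀ y ∈ PP S a, ext (ι α) y = g * y * g⁻¹) : ((ρ α).val - 1) ^ d = 0 := by
  have : ∀ n, ∀ y ∈ PP S a, ∃ z ∈ PP S (a + n), (((ρ α).val - 1) ^ n) (π y) = π z := fun n y hy => by
    induction n with
    | zero => exact ⟨y, hy, rfl⟩
    | succ n ih =>
      obtain ⟨z, hz, e'⟩ := ih
      have := PP_anti (Nat.le_add_right a n) hz
      exact ⟨_, PP_conj hg hz, by rw [pow_succ', Module.End.mul_apply, e', h.sub_one α this, e z this]⟩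
  refine LinearMap.ext fun w => ?_
  obtain ⟨y, hy, rfl⟩ := h.surj w
  obtain ⟨z, hz, e⟩ := this d y hy
  rw [e, (h.ker z (h.le hz)).2 hz]; rfl

end Sx

/-- `V / C` is the largest central elementary abelian subgroup of `E / C`. -/
def IsOZ (p : ℕ) (E C V : Subgroup Ω) : Prop := ∀ y, y ∈ V ↔ y ∈ E ∧ (∀ x ∈ E, ⁅y, x⁆ ∈ C) ∧ y ^ p ∈ C

omit hp in
theorem exists_oz (p : ℕ) (hn : E ≤ Subgroup.normalizer (C : Set Ω)) : ∃ V, IsOZ p E C V := by
  obtain ⟨Q, _, π, h, k⟩ := exists_quot hn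
  refine ⟨{ carrier := {y | y ∈ E ∧ (∀ x ∈ E, Commute (π y) (π x)) ∧ π y ^ p = 1}
            one_mem' := ⟨one_mem _, by simp [h.map_one], by simp [h.map_one]⟩
            mul_mem' := fun {a b} ha hb => ⟨mul_mem ha.1 hb.1, fun x hx => by
              rw [h a ha.1 b hb.1]; exact (ha.2.1 x hx).mul_left (hb.2.1 x hx), by
              rw [h a ha.1 b hb.1, (ha.2.1 b hb.1).mul_pow, ha.2.2, hb.2.2, one_mul]⟩
            inv_mem' := fun {a} ha => ⟨inv_mem ha.1, fun x hx => by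
              rw [h.map_inv ha.1]; exact (ha.2.1 x hx).inv_left, by rw [h.map_inv ha.1, inv_pow, ha.2.2, inv_one]⟩ },
    fun y => and_congr_right fun hy => and_congr (forall₂_congr fun x hx => ?_) ?_⟩
  · rw [← k _ (comm_mem_self hy hx), homOn_comm' h hy hx, commutatorElement_eq_one_iff_commute]
  · rw [← k _ (pow_mem hy p), h.map_pow hy]

namespace IsOZ

variable (h : IsOZ p E C V)
include h

theorem le : V ≤ E := fun y hy => ((h y).1 hy).1

theorem comm : ⁅V, E⁆ ≤ C := Subgroup.commutator_le.2 fun y hy => ((h y).1 hy).2.1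

theorem pow (hy : y ∈ V) : y ^ p ∈ C := ((h y).1 hy).2.2

theorem ge (h1 : B ≤ E) (h2 : ⁅B, E⁆ ≤ C) (h3 : ∀ y ∈ B, y ^ p ∈ C) : B ≤ V := fun y hy =>
  (h y).2 ⟨h1 hy, Subgroup.commutator_le.1 h2 y hy, h3 y hy⟩

theorem ge' (h1 : C ≤ E) (hn : E ≤ Subgroup.normalizer (C : Set Ω)) : C ≤ V :=
  h.ge h1 (comm_le_of_le_normalizer hn) fun _ hy => pow_mem hy p

theorem iv {α : MulAut E} (hC : Iv α C) : Iv α V := fun y hy => by
  have h1 := h.le hy
  refine (h _).2 ⟨ext_mem α h1, fun x hx => ?_, (homOn_ext α).map_pow h1 p ▸ hC _ (h.pow hy)⟩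
  rw [← ext_ext_inv α x, ← homOn_comm (homOn_ext α) h1 (ext_mem _ hx)]
  exact hC _ (((h y).1 hy).2.1 _ (ext_mem _ hx))

theorem normal (h1 : S ≤ Subgroup.normalizer (E : Set Ω)) (hC : C ≤ E)
    (h2 : S ≤ Subgroup.normalizer (C : Set Ω)) : S ≤ Subgroup.normalizer (V : Set Ω) :=
  Subgroup.le_normalizer_iff.2 fun _ hg y hy =>
    ext_conjAut (h1 hg) (h.le hy) ▸ h.iv (iv_conj (h1 hg) hC (h2 hg)) y hy

theorem exists_sx [Finite E] (ι : X →* MulAut E) (h1 : C ≤ E) (hn : E ≤ Subgroup.normalizer (C : Set Ω))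
    (hC : ∀ α, Iv (ι α) C) : ∃ (W : Type u) (_ : AddCommGroup W) (_ : Module (ZMod p) W) (_ : Finite W) (π : Ω → W)
      (ρ : X →* (W →ₗ[ZMod p] W)ˣ), Sx ι V C π ρ :=
  have := finite_of_le h.le
  PE.exists_sx ι (h.ge' h1 hn) h.le (fun α => h.iv (hC α)) hC ((Subgroup.commutator_mono le_rfl h.le).trans h.comm)
    fun _ => h.pow

end IsOZ

theorem ext_conj (g : S) (hy : y ∈ S) : ext (MulAut.conj g) y = g * y * (g : Ω)⁻¹ := ext_apply _ hy

namespace MX

variable [Finite S] (h : MX p S c)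
include h

theorem exists_oz (m : ℕ) : ∃ j ≤ c + 1, IsOZ p (PP S 0) (PP S m) (PP S j) := by
  obtain ⟨V, hV⟩ := PE.exists_oz p ((PP_le (S := S) 0).trans (PP_normal m))
  obtain ⟨j, hj, rfl⟩ := h.eq_PP hV.le (hV.normal (PP_normal 0) (PP_le0 m) (PP_normal m))
  exact ⟨j, hj, hV⟩

theorem flag {a d : ℕ} {ρ : S →* (W →ₗ[ZMod p] W)ˣ} (k : Sx MulAut.conj (PP S a) (PP S (a + d)) π ρ)
    (had : a + d ≤ c + 1) {s : S} (hs : MxC.Uni S c s) : RN ((ρ s).val - 1) d ∧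
    ∀ j ≤ d, Us p π (PP S (a + j)) = Wf ((ρ s).val - 1) j := by
  have hl : ∀ j, PP S (a + j) ≤ PP S a := fun j => PP_anti (by omega)
  refine rn_of_flag (fun j => Us p π (PP S (a + j))) (eq_top_iff.2 fun w _ => ?_) (eq_bot_iff.2 fun w hw => ?_)
    (fun j w hw => ?_) (fun j w hw hw' v hv => ?_) (fun j hj w hw hw' => ?_) fun hd e => ?_
  · obtain ⟨y, hy, rfl⟩ := k.surj w
    exact mem_Us hy
  · obtain ⟨y, hy, rfl⟩ := k.exists_of_mem (hl d) hw
    exact (k.ker y (hl d hy)).2 hy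
  · obtain ⟨y, hy, rfl⟩ := k.exists_of_mem (hl j) hw
    rw [k.sub_one s (hl j hy), ext_conj s (PP_le _ hy)]
    exact mem_Us (PP_conj s.2 hy)
  · obtain ⟨y, hy, rfl⟩ := k.exists_of_mem (hl j) hw
    obtain ⟨z, hz, rfl⟩ := k.exists_of_mem (hl j) hv
    obtain ⟨n, hn⟩ := h.exists_pow hy (fun e => hw' (mem_Us e)) hz
    exact ⟨n, by rw [← k.map_pow (hl j hy), ← k.sub (pow_mem (hl j hy) n) (hl j hz)]; exact mem_Us hn⟩
  · obtain ⟨y, hy, rfl⟩ := k.exists_of_mem (hl j) hw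
    rw [k.sub_one s (hl j hy), ext_conj s (PP_le _ hy)] at hw'
    exact mem_Us (h.un_uni hs (a + j) (by omega) y hy
      (k.mem_of_mem (PP_anti (by omega)) (hl (j + 2)) (hl (j + 1) (PP_conj s.2 hy)) hw'))
  · obtain ⟨y, hy, hy'⟩ := h.exists_lev (i := a) (by omega)
    exact hy' (k.mem_of_mem (PP_anti (by omega)) (hl 1) hy (e.ge (Submodule.mem_top)))

/-- The commutator of a uniform element with an element two levels above acts quadratically. -/
theorem quad {a d κ : ℕ} (had : a + d ≤ c + 1) (hd : d < p) (h1 : κ + 2 ≤ a) (h2 : ⁅PP S a, PP S (κ + 2)⁆ ≤ PP S (a + d))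
    (h3 : ∀ y ∈ PP S a, y ^ p ∈ PP S (a + d)) {s b t : Ω} (hs : MxC.Uni S c s) (hb : b ∈ PP S κ)
    (ht : t = s⁻¹ * (b * s * b⁻¹)) (hy : y ∈ PP S a) :
    (y⁻¹ * (t * y * t⁻¹))⁻¹ * (t * (y⁻¹ * (t * y * t⁻¹)) * t⁻¹) ∈ PP S (a + d) := by
  have := finite_of_le (PP_le (S := S) a)
  obtain ⟨W, _, _, _, π, ρ, k⟩ := exists_sx (p := p) (MulAut.conj : S →* MulAut S) (PP_anti (Nat.le_add_right a d))
    (PP_le a) (fun α => iv_PP _ _) (fun α => iv_PP _ _) ((Subgroup.commutator_mono le_rfl (PP_anti h1)).trans h2) h3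
  have ht1 : t ∈ PP S (κ + 1) := ht ▸ comm_le_symm (PP_commS κ) (conj_mem_comm hs.1 hb)
  lift s to S using hs.1
  lift b to S using PP_le _ hb
  lift t to S using PP_le _ ht1
  obtain rfl : t = s⁻¹ * (b * s * b⁻¹) := Subtype.ext ht
  set t := s⁻¹ * (b * s * b⁻¹) with ht'
  obtain ⟨hr, hf⟩ := h.flag k had hs
  have hF : (ρ t).val - 1 ∈ Fil ((ρ s).val - 1) 1 := mem_Fil_of fun j w hw => by
    rcases lt_or_ge j d with hj | hj
    · obtain ⟨y, hy, rfl⟩ := k.exists_of_mem (PP_anti (by omega)) ((hf j hj.le).ge hw)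
      rw [k.sub_one t (PP_anti (by omega) hy), ext_conj t (PP_le _ hy)]
      exact (hf (j + 1) hj).le (mem_Us (PP_conj t.2 hy))
    · rw [hr.eq_zero (by exact_mod_cast hj) hw, map_zero]; exact zero_mem _
  have hc : ∀ g : S, ρ g * ρ t = ρ t * ρ g := fun g => by
    have : ρ ⁅g, t⁆ = 1 := k.eq_one_iff.2 fun y hy => by
      rw [ext_conj _ (PP_le _ hy)]
      exact h2 (conj_mem_comm hy (comm_le_symm (PP_commS (κ + 1)) (Subgroup.commutator_mem_commutator g.2 ht1)))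
    rwa [map_commutatorElement, commutatorElement_eq_one_iff_mul_comm] at this
  have hq := hr.heis (u := ρ b) (fun n h0 hn e =>
    absurd (Nat.le_of_dvd h0 ((ZMod.natCast_eq_zero_iff _ _).1 e)) (by omega)) hF (by
      have := congrArg Units.val (hc s)
      simp only [Units.val_mul] at this
      simp only [mul_sub, sub_mul, this, mul_one, one_mul]; abel) (by
      rw [mul_sub, sub_mul, ← Units.val_mul, hc b, ← Units.val_mul, mul_one, ← Units.val_mul]; simp) (by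
      have : ρ b * ρ s * (ρ b)⁻¹ = ρ s * ρ t := by simp [ht']
      rw [mul_sub, sub_mul, ← Units.val_mul, ← Units.val_mul, this, mul_one, ← Units.val_mul, mul_inv_cancel,
        add_sub_cancel, mul_sub, Units.val_mul, Units.val_one, mul_one]; abel)
  have h4 := PP_anti a.le_succ (PP_conj t.2 hy)
  have := congrArg (· (π y)) hq
  simp only [Module.End.mul_apply, k.sub_one t hy, ext_conj t (PP_le _ hy), k.sub_one t h4, ext_conj t (PP_le _ h4),
    LinearMap.zero_apply] at this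
  exact (k.ker _ (PP_anti a.le_succ (PP_conj t.2 h4))).1 this

/-- A short invariant section centralized by the two-step centralizer. -/
theorem small (hc : CE S e) {Y : Set (MulAut (PP S 0))} {A B : ℕ} (h1 : B ≤ e) (h2 : B ≤ c + 1) (h3 : B ≤ A + p)
    (hA : Inv Y (PP S A)) (hB : Inv Y (PP S B)) (hn : ¬ ⁅PP S A, PP S 1⁆ ≤ PP S B) :
    ∃ a d, Inv Y (PP S a) ∧ Inv Y (PP S (a + d)) ∧ 2 ≤ d ∧ a + d ≤ c + 1 ∧ 2 * d ≤ p ∧
      ⁅PP S a, PP S 0⁆ ≤ PP S (a + d) ∧ ∀ y ∈ PP S a, y ^ p ∈ PP S (a + d) := by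
  have := finite_of_le (PP_le (S := S) 0)
  have hn' : ¬ ⁅PP S A, PP S 0⁆ ≤ PP S B := fun e => hn ((Subgroup.commutator_mono le_rfl (PP_le0 1)).trans e)
  have n0 := (PP_le (S := S) 0).trans (PP_normal B)
  have c0 : ⁅PP S A, PP S 0⁆ ≤ PP S 0 := PP_comm' (by omega)
  obtain ⟨m, m1, em⟩ := h.eq_PP (N := cmod (PP S 0) (PP S 0) (PP S B)) cmod_le
    (cmod_normal (PP_le 0) (PP_normal 0) (PP_normal 0) (PP_normal B))
  obtain ⟨d, d1, ed⟩ := h.eq_PP (N := ⁅PP S A, PP S 0⁆ ⊔ PP S B) (sup_le c0 (PP_le0 B))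
    (H4.le_normalizer_sup (H4.le_normalizer_commutator (PP_normal A) (PP_normal 0)) (PP_normal B))
  have hm : Inv Y (PP S m) := fun α hα => em ▸ iv_cmod iv_top iv_top (hB α hα) le_rfl le_rfl n0
  have hd : Inv Y (PP S d) := fun α hα => ed ▸ iv_sup (Iv.comm (hA α hα) iv_top (PP_le0 A) le_rfl) (hB α hα) c0 (PP_le0 B)
  have c1 : ⁅PP S m, PP S 0⁆ ≤ PP S B := comm_le_of_le_cmod em.ge
  have c2 : ⁅PP S A, PP S 0⁆ ≤ PP S d := le_sup_left.trans ed.le
  have l1 : A < m := lt_of_not_ge fun e => hn' ((Subgroup.commutator_mono (PP_anti e) le_rfl).trans c1)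
  have l2 : d < B := lt_of_not_ge fun e => hn' (c2.trans (PP_anti e))
  have l0 : A + 2 < B := lt_of_not_ge fun e => hn' (hc.le h1 e)
  have l3 : m ≤ B - 2 := h.le_of_le (by omega) ((le_cmod n0 (PP_le0 _) (hc.le h1 (by omega))).trans em.le) m1
  have l4 : A + 2 ≤ d := h.le_of_le d1 (ed.ge.trans (sup_le (hc A (by omega)) (PP_anti l0.le))) (by omega)
  have key : ∀ a b, Inv Y (PP S a) → Inv Y (PP S b) → a + 2 ≤ b → b ≤ B → 2 * (b - a) ≤ p → (b < B ∨ 1 ≤ a) →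
      ⁅PP S a, PP S 0⁆ ≤ PP S b → ∃ a d, Inv Y (PP S a) ∧ Inv Y (PP S (a + d)) ∧ 2 ≤ d ∧ a + d ≤ c + 1 ∧ 2 * d ≤ p ∧
      ⁅PP S a, PP S 0⁆ ≤ PP S (a + d) ∧ ∀ y ∈ PP S a, y ^ p ∈ PP S (a + d) := fun a b h4 h5 h6 h7 h8 h9 h10 => by
    obtain ⟨d, rfl⟩ : ∃ d, b = a + d := ⟨b - a, by omega⟩
    exact ⟨a, d, h4, h5, by omega, by omega, by omega, h10, fun y hy => h.pow_mem' hy (by omega) (by omega)⟩
  by_cases e1 : 2 * (d - A) ≤ p
  · exact key A d hA hd l4 l2.le e1 (Or.inl l2) c2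
  by_cases e2 : 2 * (B - m) ≤ p
  · exact key m B hm hB (by omega) le_rfl e2 (by omega) c1
  by_cases e3 : A + 2 ≤ m
  · exact key A m hA hm e3 (by omega) (by omega) (by omega) (c2.trans (PP_anti (by omega)))
  by_cases e4 : d + 2 ≤ B
  · exact key d B hd hB e4 le_rfl (by omega) (by omega) ((Subgroup.commutator_mono (PP_anti (by omega)) le_rfl).trans c1)
  exact (hn (comm_le_symm (h.comm_step (PP_le B) (PP_normal B) (by rwa [show A + 1 = m by omega]) c2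
    (PP_anti (by omega))))).elim

variable {β : MulAut S} {α : ZMod p} {u : ℕ → ZMod p} (w : Wt p β α u)
include w

theorem wt_one (hc : CE S e) (he : e = c + 1 ∨ e = c ∧ Kc S (c - 1) ≠ PP S 0) (hn : ¬ ⁅PP S 0, PP S 0⁆ ≤ PP S e)
    (h1 : α = 1) (hi : i ≤ c) : u i = 1 := by
  classical
  have c2 := h.c2
  have k : ∀ i, i + 1 ≤ e → u i = u 0 := fun i hi => by
    simpa [h1] using h.wt_add w hc (by omega) (i := 0) (j := i) (by omega)
  have h0 : u 0 = 1 := by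
    obtain ⟨l, l1, el⟩ := h.eq_PP (N := ⁅PP S 0, PP S 0⁆) (PP_comm' (by omega))
      (H4.le_normalizer_commutator (PP_normal 0) (PP_normal 0))
    have l2 : l < e := lt_of_not_ge fun e => hn (el.le.trans (PP_anti e))
    have ex : ∃ n, ∀ i j, n + 1 ≤ i + j → ⁅PP S i, PP S j⁆ ≤ PP S (l + 1) := ⟨l, fun i j e => PP_comm' (by omega)⟩
    have h2 := Nat.find_spec ex
    obtain ⟨i, j, h3, h4⟩ : ∃ i j, Nat.find ex ≤ i + j ∧ ¬ ⁅PP S i, PP S j⁆ ≤ PP S (l + 1) := by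
      rcases e : Nat.find ex with _ | n
      · exact ⟨0, 0, le_rfl, el ▸ h.not_le (by omega) l.lt_succ_self⟩
      · simpa using Nat.find_min ex (m := n) (by omega)
    have h5 : i + j < l := lt_of_not_ge fun e => h4 (PP_comm' (by omega))
    have := h.wt_comm w ((Subgroup.commutator_mono (PP_le0 i) (PP_le0 j)).trans el.le) (h2 _ _ (by omega))
      (h2 _ _ (by omega)) h4
    rw [k l l2, k i (by omega), k j (by omega)] at this
    exact (mul_eq_left₀ (h.wt_ne w (by omega))).1 this.symm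
  by_cases h6 : i + 1 ≤ e
  · exact (k i h6).trans h0
  · obtain ⟨rfl, hx⟩ := he.resolve_left (by omega)
    rw [show i = e by omega, h.wt_exc w hx (i := 0) (j := e - 1) (by omega), k (e - 1) (by omega), h0, one_mul]

theorem parity (hx : Kc S (c - 1) ≠ PP S 0) (hj : j + 2 ≤ c) (h1 : u (j + 1) = -1) (h2 : u j = 1)
    (h3 : u (c - 1) ^ 2 = 1) (h4 : u c = 1) : False := by
  obtain ⟨⟨a, ha⟩, h5, h6⟩ := h.exc hx
  have e1 := h.wt_step w h.ce (by omega) hj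
  have e2 := h.wt_add w h.ce (by omega) (i := 0) (j := c - 1) (by omega)
  have e3 := h.wt_exc w hx (i := 0) (j := c - 1) (by omega)
  rw [h1, h2, mul_one] at e1
  rw [← e1, zero_add, Odd.neg_one_pow ⟨a - 1, by omega⟩] at e2
  exact (H58.cast_ne_zero_of_lt (k := ZMod p) (p := p) two_pos (by omega))
    (by push_cast; linear_combination -h4 + e3 - h3 + u (c - 1) * e2)

end MX

end Cfsg.Agent.H5.PE
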