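import Mathlib
import Cfsg.Agent.H5.PE3

/-!
# Essential subgroups of a `p`-group of maximal class: pearls and the easy cases
-/

set_option autoImplicit false
set_option linter.unusedSectionVars false

namespace Cfsg.Agent.H5.PE

open Cfsg Cfsg.FusionSystem Cfsg.Agent.H97 Cfsg.Agent.H98 Cfsg.Agent.H96 Cfsg.Agent.S5264 Cfsg.Agent.H5.NE
open scoped commutatorElement

universe u

variable {Ω : Type u} [Group Ω] {p : ℕ} [hp : Fact p.Prime] {S E N A : Subgroup Ω} {F : FusionSystem S}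
  {c e i j : ℕ} {x y g : Ω} {f : Ω → Ω}

omit hp in
theorem le_norm [Finite A] (h : ⁅A, N⁆ ≤ A) : N ≤ Subgroup.normalizer (A : Set Ω) := fun _ hg =>
  mem_normalizer_of_conj_mem fun x hx => by simpa using A.mul_mem hx (h (conj_mem_comm hx hg))

omit hp in
theorem nmem (hg : g ∈ Subgroup.normalizer (A : Set Ω)) (hy : y ∈ A) : y⁻¹ * (g * y * g⁻¹) ∈ A :=
  A.mul_mem (A.inv_mem hy) (nconj hg hy)

omit hp in
theorem swap_conj (hx : x ∈ Subgroup.normalizer (A : Set Ω)) (hg : g ∈ Subgroup.normalizer (A : Set Ω))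
    (h : x⁻¹ * (g * x * g⁻¹) ∈ A) : g⁻¹ * (x * g * x⁻¹) ∈ A :=
  (comm_mem_iff_conj hg).1 (comm_swap_mem ((comm_mem_iff_conj hx).2 h))

theorem card_dvd_of_lt [Finite N] (hN : IsPGroup p N) (h : A < N) {k : ℕ} (e : Nat.card N ∣ p ^ (k + 1)) :
    Nat.card A ∣ p ^ k := by
  simpa using relIndex_dvd_of_lt_right hN bot_le h (by simpa using e)

theorem cast_pred' : ((p - 1 : ℕ) : ZMod p) = -1 := by
  rw [Nat.cast_sub hp.out.one_le, ZMod.natCast_self]; simp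

/-- An essential subgroup of a group of maximal class. -/
structure EX (p : ℕ) (F : FusionSystem S) (E : Subgroup Ω) (c : ℕ) : Prop extends MX p S c where
  sat : F.IsSaturated p
  ess : F.IsEssential p E

/-- The three kinds of essential subgroups. -/
def Tri (S E : Subgroup Ω) (c : ℕ) : Prop := (∃ x ∈ E, MxC.Uni S c x) ∨ E = PP S 0 ∨ E = Kc S (c - 1)

/-- The larger essential subgroups are of one of the three kinds. -/
def IH (p : ℕ) (F : FusionSystem S) (E : Subgroup Ω) (c : ℕ) : Prop :=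
  ∀ E', F.IsEssential p E' → Nat.card E < Nat.card E' → Tri S E' c

variable [Finite S]

theorem MX.Z_le (h : MX p S c) (hN : N ≤ PP S 0) (hn : S ≤ Subgroup.normalizer (N : Set Ω)) (h1 : ¬ N ≤ ⊥) :
    PP S c ≤ N := by
  obtain ⟨y, hy, hy'⟩ := SetLike.not_le_iff_exists.1 h1
  exact h.le_of_normal hN hn hy (by rwa [h.bot le_rfl])

theorem MX.Z_le_comm (h : MX p S c) (hx : Kc S (c - 1) ≠ PP S 0) (hi : i ≤ c - 1) {l : ℕ}
    (hl : l ≤ i) : PP S c ≤ ⁅PP S l, PP S (c - 1 - i)⁆ :=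
  h.Z_le (PP_comm' (by omega)) (H4.le_normalizer_commutator (PP_normal _) (PP_normal _)) fun e =>
    h.nondeg hx (i := c - 1 - i) (j := i) (by have := h.c2; omega)
      ((Subgroup.commutator_mono (PP_anti hl) le_rfl).trans e)

theorem MX.Q_conj (h : MX p S c) (hx : x ∈ Kc S (c - 1)) (hy : y ∈ PP S (c - 1)) : x * y * x⁻¹ = y :=
  (h.mem_Q_iff hx.1).1 hx y hy

theorem MX.Q_conj' (h : MX p S c) (hx : x ∈ Kc S (c - 1)) (hy : y ∈ PP S (c - 1)) : y * x * y⁻¹ = x := by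
  have := h.Q_conj hx hy
  rw [mul_inv_eq_iff_eq_mul] at this ⊢
  exact this.symm

theorem MX.Z_conj (h : MX p S c) (hx : x ∈ S) (hy : y ∈ PP S c) : x * y * x⁻¹ = y :=
  (inv_mul_eq_one.1 (h.eq_one le_rfl (PP_conj hx hy))).symm

theorem MX.card_Q (h : MX p S c) : Nat.card (Kc S (c - 1)) = p ^ (c + 1) := by
  have := card_mul_relIndex' (Kc_le (S := S) (c - 1))
  rw [h.relQ, h.card, pow_succ] at this
  exact Nat.eq_of_mul_eq_mul_right hp.out.pos this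

theorem MX.layer (h : MX p S c) (hc : p ≤ c) {m : ℕ} (hm : m ≤ c + 1) (hE : E ≤ PP S 0) {α : MulAut E}
    (hα : Iv α (E ⊓ PP S m)) : Iv α (E ⊓ PP S (m + 1 - p)) := fun y hy => by
  refine ⟨ext_mem α hy.1, ?_⟩
  by_cases h1 : m + 1 ≤ p
  · rw [show m + 1 - p = 0 by omega]; exact hE (ext_mem α hy.1)
  refine h.mem_of_pow_mem (j := 0) (hE (ext_mem α hy.1)) (Or.inr hc) (by omega) ?_
  rw [← (homOn_ext α).map_pow hy.1, show m + 1 - p + p - 1 = m by omega]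
  exact (hα _ ⟨pow_mem hy.1 p, h.pow_mem' hy.2 (by omega) (by omega)⟩).2

namespace EX

variable (h : EX p F E c)
include h

theorem leS : E ≤ S := ess_le h.ess

theorem fin : Finite E := finite_of_le h.leS

theorem pgE : IsPGroup p E := h.pg.to_le h.leS

theorem of (hE : F.IsEssential p N) : EX p F N c := ⟨h.toMX, h.sat, hE⟩

theorem ZE : PP S c ≤ E := h.center_eq' ▸ ess_center_le h.ess

theorem mem_of_comm (hx : x ∈ S) (e : ∀ y ∈ E, x * y * x⁻¹ = y) : x ∈ E :=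
  ess_centralizerIn_le h.ess (mem_centralizerIn_conj.2 ⟨hx, e⟩)

theorem fn (hf : Mor F E f) (hN : N ≤ S) (hn : ⁅img E f, N⁆ ≤ img E f) :
    Nat.card N ≤ Nat.card (normalizerIn S E) :=
  have := finite_of_le hf.img_le
  have := finite_of_le (H97.normalizerIn_le (S := S) (P := img E f))
  (Subgroup.card_le_of_le (K := normalizerIn S (img E f)) (le_inf hN (le_norm hn))).trans ((isFullyNormalized_iff.1 h.ess.2.1).2 f hf)

theorem cent (hf : Mor F E f) (hx : x ∈ S) (e : ∀ y ∈ E, x * f y * x⁻¹ = f y) : x ∈ img E f :=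
  (isCentric_iff.1 h.ess.1).2 f hf (mem_centralizerIn_conj.2 ⟨hx, fun y hy => by
    obtain ⟨z, hz, rfl⟩ := hf.mem_img.1 hy
    exact e z hz⟩)

theorem commS (i : ℕ) : ⁅E, PP S i⁆ ≤ PP S (i + 1) :=
  (Subgroup.commutator_mono h.leS le_rfl).trans (comm_le_symm (PP_commS i))

theorem le_T (h1 : PP S (i + 1) ≤ E) : PP S i ≤ normalizerIn S E :=
  have := h.fin
  le_inf (PP_le i) (le_norm ((h.commS i).trans h1))

theorem rel_dvd' (hj : E ⊓ PP S 0 = PP S j) : (PP S j).relIndex E ∣ p := by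
  rw [← hj, inf_comm]; exact relIndex_inf_dvd h.pg h.leS h.rel0.dvd

theorem card_of (hx : x ∈ E) (h0 : x ∉ PP S 0) (hj : E ⊓ PP S 0 = PP S j) (h1 : j ≤ c + 1) :
    Nat.card E = p ^ (c + 2 - j) := by
  have := h.fin
  rw [← card_mul_relIndex' (hj.ge.trans inf_le_left), h.card_PP h1, relIndex_eq_of_dvd_of_not_le h.pgE
    (fun e => h0 (PP_le0 j (e hx))) (h.rel_dvd' hj), ← pow_succ]
  congr 1; omega

theorem not_card_dvd : ¬ Nat.card E ∣ p := fun e =>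
  ess_not_relIndex_Phi_dvd h.pg h.sat h.ess ((Subgroup.relIndex_dvd_card _ _).trans e)

theorem ch (hx : x ∈ E) (hu : Un S x e) (he : e ≤ c) (hj : E ⊓ PP S 0 = PP S j)
    (h1 : j + 2 ≤ e) (h2 : ∀ i, j ≤ i → i ≤ j + 2 → PP S (e + 1) ≤ ⁅PP S i, E⁆) : False := by
  have := h.fin
  have hxS := h.leS hx
  have hl : ∀ {i}, j ≤ i → PP S i ≤ E := fun hi => (PP_anti hi).trans (hj.ge.trans inf_le_left)
  have c1 : ∀ i, j ≤ i → i ≤ j + 2 → ⁅PP S i, E⁆ = PP S (i + 1) := fun i h3 h4 => by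
    refine le_antisymm (comm_le_symm (h.commS i)) ?_
    by_cases h5 : e ≤ i
    · exact (PP_anti (by omega)).trans (h2 i h3 h4)
    obtain ⟨y, hy, hy'⟩ := h.exists_lev (i := i) (by omega)
    exact h.le_of_un hxS hu (H4.le_normalizer_commutator (h.leS.trans (PP_normal i)) Subgroup.le_normalizer hx)
      (h2 i h3 h4) (conj_mem_comm hy hx) (PP_conj hxS hy) fun e => hy' (hu i (by omega) y hy e)
  have hi := h.rel_dvd' hj
  have c2 : ⁅E, E⁆ = PP S (j + 1) := le_antisymm (comm_le_of_relIndex_dvd (h.leS.trans (PP_normal _)) (hl le_rfl) hi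
    (c1 j le_rfl (by omega)).le) ((c1 j le_rfl (by omega)).ge.trans (Subgroup.commutator_mono (hl le_rfl) le_rfl))
  have i0 := autInv_self F E
  have i1 : AutInv F E (PP S (j + 1)) := c2 ▸ i0.commutator i0 le_rfl le_rfl
  have i2 : AutInv F E (PP S (j + 2)) := c1 (j + 1) (by omega) (by omega) ▸ i1.commutator i0 (hl (by omega)) le_rfl
  have i3 : AutInv F E (PP S (j + 3)) := c1 (j + 2) (by omega) le_rfl ▸ i2.commutator i0 (hl (by omega)) le_rfl
  have h4 := h.leS.trans (PP_normal (j + 3))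
  have h5 : ⁅PP S j, PP S (j + 1)⁆ ≤ PP S (j + 3) := by
    cases j with
    | zero => exact comm_le_symm (commutator_le_of_conj fun g hg => hg.2)
    | succ j => exact PP_comm' (by omega)
  obtain ⟨y, hy, hy'⟩ := h.exists_lev (i := j + 1) (by omega)
  have h6 := eq_of_relIndex_dvd_of_lt (le_cmod h4 (hl le_rfl) h5) cmod_le (fun e => hy' (hu _ (by omega) y hy
    ((comm_mem_iff_conj (PP_normal _ (PP_le _ hy))).1 (comm_swap_mem ((e hx).2.2 y hy))))) hi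
  exact ess_not_invChain h.pg h.sat h.ess (((InvChain.base (K := normalizerIn S E) (c2.ge.trans (comm_le_Phi h.pgE)) i1).step
    (PP_anti j.le_succ) (hl le_rfl) (h6 ▸ i1.cmod i3 (hl j.le_succ) h4) fun g hg y => PP_conj hg.1).step (hl le_rfl)
      le_rfl i0 fun g hg y hy => hj.le ⟨nmem hg.2 hy,
        PP_le0 1 (lc_conj' (i := 0) hg.1 (h.leS hy))⟩)

theorem uni_inf (hx : x ∈ E) (hu : MxC.Uni S c x) : E ⊓ PP S 0 = PP S c ∨ E ⊓ PP S 0 = PP S (c - 1) := by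
  have hb := h.bot (i := c + 1) le_rfl
  obtain ⟨j, h1, e⟩ := h.inf_eq_PP hu.1 (h.un_uni hu) (Subgroup.le_normalizer hx) (hb.le.trans bot_le)
  have h2 := h.le_of_le c.le_succ ((le_inf h.ZE (PP_le0 c)).trans e.le) h1
  have h3 : ¬ j + 2 ≤ c := fun h3 =>
    h.ch hx (h.un_uni hu) le_rfl e h3 fun _ _ _ => hb.le.trans bot_le
  rcases h2.eq_or_lt with rfl | h2
  · exact Or.inl e
  · exact Or.inr (by rwa [show c - 1 = j by omega])

theorem uni_le (hx : x ∈ E) (hu : MxC.Uni S c x) : E ⊓ PP S 0 ≤ PP S (c - 1) :=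
  (h.uni_inf hx hu).elim (fun e => e.le.trans (PP_anti (by omega))) fun e => e.le

theorem pearl (hx : x ∈ E) (hu : MxC.Uni S c x) : (Nat.card E = p ^ 2 ∧ IsElementaryAbelian p E) ∨
    (Nat.card E = p ^ 3 ∧ IsExtraspecial p E ∧ (p ≠ 2 → Monoid.exponent E = p) ∧
      (p = 2 → Nonempty (E ≃* QuaternionGroup 2))) := by
  have c2 := h.c2
  have := h.fin
  refine (h.uni_inf hx hu).imp (fun e => ?_) fun e => ?_
  · have := h.card_of hx (h.uni0 hu) e (by omega)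
    rw [show c + 2 - c = 2 by omega] at this
    exact ⟨this, ess_elementary_of_card_sq h.pg h.sat h.ess this⟩
  have h1 := h.card_of hx (h.uni0 hu) e (by omega)
  rw [show c + 2 - (c - 1) = 3 by omega] at h1
  have h2 : ¬ IsMulCommutative E := fun e' => by
    obtain ⟨y, hy, hy'⟩ := h.exists_lev (i := c - 1) (by omega)
    refine hy' (h.un_uni hu _ (by omega) y hy ?_)
    have := congrArg Subtype.val (e'.is_comm.comm (⟨x, hx⟩ : E) ⟨y, (e.ge hy).1⟩)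
    simp only [Subgroup.coe_mul] at this
    simp [this]
  have : Nontrivial E := Finite.one_lt_card_iff_nontrivial.1 (h1 ▸ Nat.one_lt_pow (by omega) hp.out.one_lt)
  refine ⟨h1, isExtraspecial_of_card_cube h1 h2, ?_⟩
  rcases (ess_noChain h.pg h.sat h.ess).card_cube h1 with e | ⟨e1, -, e2⟩ | e
  · exact (h2 e.1).elim
  · exact ⟨fun _ => (Monoid.exponent_eq_prime_iff hp.out).2 fun g hg => orderOf_eq_prime (e2 g) hg, fun e => (e1 e).elim⟩
  · exact ⟨fun e' => (e' e.1).elim, fun _ => e.2⟩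

theorem Q_ess (hx : Kc S (c - 1) ≠ PP S 0) (hE : E = Kc S (c - 1)) : c = 4 := by
  obtain ⟨⟨a, ha⟩, h1, -⟩ := h.exc hx
  by_contra h2
  obtain ⟨x, h3, h4⟩ := h.exists_mem_Kc (i := c - 1) (by omega) (by omega)
  have h5 : x ∉ PP S 0 := fun e => h4 ((h.inf_Q hx).le ⟨h3, e⟩)
  refine h.ch (j := 1) (hE.ge h3) (h.un h3.1 h5) (by omega) (hE ▸ h.inf_Q hx) (by omega) fun i h6 h7 => ?_
  rw [show c - 1 + 1 = c by omega]
  exact (h.Z_le_comm hx (i := i) (by omega) le_rfl).trans (Subgroup.commutator_mono le_rfl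
    ((PP_anti (i := 1) (by omega)).trans ((lc_le_Kc _).trans hE.ge)))

theorem tor (hx : Kc S (c - 1) ≠ PP S 0) {W D : Subgroup Ω} (t : Tv p F E W E D g) (hj : j + 2 ≤ c)
    (hg : g ∈ PP S j) (hg' : g ∉ PP S (j + 1)) (h1 : E ⊓ PP S 0 ≤ PP S (j + 1)) (hy : y ∈ D)
    (hy1 : y ∈ PP S (j + 1)) (hy2 : y ∉ PP S (j + 2)) (hW : W ≤ PP S (j + 2))
    (hn : ∀ E', F.IsEssential p E' → ¬ E ⊔ Subgroup.zpowers g ≤ E')
    (h2 : (AutInv F E (PP S (c - 1)) ∧ g ∈ Kc S (c - 1) ∧ PP S (c - 1) ≤ E) ∨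
      (j + 2 = c ∧ (AutInv F E (PP S c) ∨ D ⊓ PP S c ≤ ⊥))) : False := by
  obtain ⟨w, w1, w2, w3, w4, -, w5, w6⟩ := t.torus' h.pg h.sat h.ess neg_mul_neg_modEq
  obtain ⟨β, -, hβ⟩ := exists_aut_of_not_le h.pg h.sat hn w1
  obtain ⟨α, u, k⟩ := h.exists_wt β
  have hE : ∀ {y}, y ∈ E → w y = ext β y := fun hy => hβ _ (Subgroup.mem_sup_left hy)
  have e1 : u (j + 1) = -1 := by
    rw [h.wt_eq k hy1 hy2 (hE (t.le2 hy) ▸ hW (w4 y hy)), cast_pred']
  have e2 : u j = 1 := by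
    rw [hβ g (Subgroup.mem_sup_right (Subgroup.mem_zpowers g))] at w3
    have := nconj' (PP_normal _ (S.pow_mem (PP_le _ hg) ((p - 1) ^ 2)))
      (h1 ⟨w3, PP_le0 j (mul_mem (iv_PP β j g hg) (inv_mem (pow_mem hg _)))⟩)
    rw [h.wt_eq k hg hg' (k := (p - 1) ^ 2) (by simpa [mul_assoc] using this), Nat.cast_pow, cast_pred']; simp
  have e3 : ∀ i ≤ c, (∀ y ∈ PP S i, y ∈ E ∧ y⁻¹ * w y ∈ (⊥ : Subgroup Ω)) → u i = 1 := fun i hi e => by
    obtain ⟨y, hy, hy'⟩ := h.exists_lev hi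
    simpa using h.wt_eq k hy hy' (k := 1) (by rw [pow_one, ← hE (e y hy).1]; exact bot_le (a := PP S _) (e y hy).2)
  rcases h2 with ⟨h2, h3, h4⟩ | ⟨h2, h3⟩
  · have := sc_one.1 (w6 ⊥ _ bot_le h4 (autInv_bot F E) h2 fun y hy => by simp [h.Q_conj h3 hy])
    have h5 := PP_anti (S := S) (Nat.sub_le c 1)
    exact h.parity k hx hj e1 e2 (by rw [e3 _ (by omega) fun y hy => ⟨h4 hy, this y hy⟩, one_pow])
      (e3 c le_rfl fun y hy => ⟨h.ZE hy, this y (h5 hy)⟩)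
  refine h.parity k hx hj e1 e2 (by rw [show c - 1 = j + 1 by omega, e1]; simp) (e3 c le_rfl fun y hy => ⟨h.ZE hy, ?_⟩)
  have h4 : ∀ y ∈ PP S c, y⁻¹ * (g * y * g⁻¹) = 1 := fun y hy => by simp [h.Z_conj (PP_le _ hg) hy]
  rcases h3 with h3 | h3
  · exact sc_one.1 (w6 ⊥ _ bot_le h.ZE (autInv_bot F E) h3 h4) y hy
  · exact h3 ⟨w5 y (h.ZE hy) (h4 y hy ▸ W.one_mem), hE (h.ZE hy) ▸ (PP S c).mul_mem ((PP S c).inv_mem hy) (iv_PP β c y hy)⟩

theorem not_le_uni (hg : g ∈ PP S j) (hg' : g ∉ PP S (j + 1)) (hj : j + 2 ≤ c) (hN : F.IsEssential p N)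
    (hx : x ∈ N) (hu : MxC.Uni S c x) : g ∉ N := fun e =>
  hg' (PP_anti (by omega) ((h.of hN).uni_le hx hu ⟨e, PP_le0 j hg⟩))

theorem exc_pearl (hx : Kc S (c - 1) ≠ PP S 0) (hxE : x ∈ E) (hu : MxC.Uni S c x) (hc : Nat.card E = p ^ 3) :
    False := by
  have c4 := (h.exc hx).2.1
  have := h.fin
  have e := (h.uni_inf hxE hu).resolve_left fun e => by
    have := h.card_of hxE (h.uni0 hu) e (by omega)
    rw [hc] at this
    have := Nat.pow_right_injective hp.out.two_le this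
    omega
  have hl := e.ge.trans inf_le_left
  have hi := h.rel_dvd' e
  obtain ⟨g, hg, hg'⟩ := h.exists_lev (i := c - 2) (by omega)
  obtain ⟨y, hy, hy'⟩ := h.exists_lev (i := c - 1) (by omega)
  have e1 : c - 2 + 1 = c - 1 := by omega
  have e2 : c - 1 + 1 = c := by omega
  have h1 := Phi_le_of_relIndex_dvd h.pgE hl hi
  have h2 : PP S c ≤ Phi E := h.le_of_lev (e2 ▸ PP_conj hu.1 hy) (fun e => hy' (h.un_uni hu _ e2.le y hy
    (by rwa [show c - 1 + 2 = c + 1 by omega]))) ((h.bot le_rfl).le.trans bot_le)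
    (comm_le_Phi h.pgE (conj_mem_comm (hl hy) hxE))
  have h3 : (PP S c).relIndex (PP S (c - 1)) ∣ p := by simpa [e2] using h.rel_dvd (c - 1)
  have h4 := eq_of_relIndex_dvd_of_lt h2 h1 (fun e => ess_not_relIndex_Phi_dvd h.pg h.sat h.ess
    ((Subgroup.relIndex_dvd_of_le_left _ e).trans hi)) h3
  have h5 : ∀ y ∈ PP S (c - 1), y⁻¹ * (g * y * g⁻¹) ∈ Phi E := fun y hy => h2 (e2 ▸ PP_conj (PP_le _ hg) hy)
  refine h.tor hx (tv_of_le h.pg h.ess (h.le_T (e1 ▸ hl) hg) (fun e' => hg' (e1 ▸ e.le ⟨e', PP_le0 _ hg⟩))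
    le_rfl h1 hl (autInv_Phi F E) (h4 ▸ h3) (fun y hy => e1 ▸ h.commS _ (conj_mem_comm hy hg)) h5 fun y hy => h5 y (h1 hy))
    (by omega) hg hg' (e1 ▸ e.le) hy (e1 ▸ hy) (by rwa [show c - 2 + 2 = c - 1 + 1 by omega])
    (h4.le.trans (PP_anti (by omega))) (fun E' hE' e => h.not_le_uni hg hg' (by omega) hE' (e (Subgroup.mem_sup_left hxE)) hu
      (e (Subgroup.mem_sup_right (Subgroup.mem_zpowers g)))) (Or.inr ⟨by omega, Or.inl (h4 ▸ autInv_Phi F E)⟩)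

theorem eq_of_comm (hE : E ≤ PP S 0) (h1 : ⁅PP S 0, PP S 0⁆ ≤ ⊥) : E = PP S 0 :=
  le_antisymm hE fun _ hx => h.mem_of_comm (PP_le 0 hx) fun _ hy =>
    (inv_mul_eq_one.1 (h1 (conj_mem_comm (hE hy) hx))).symm

theorem small_p (hp3 : p ≤ 3) (hE : E ≤ PP S 0) : E = PP S 0 := by
  have c2 := h.c2
  have hx : Kc S (c - 1) = PP S 0 := by
    by_contra hx
    have := h.exc hx
    omega
  have hc := h.ce_nx hx
  by_cases h1 : p ≤ c
  swap
  · exact h.eq_of_comm hE (comm_le_of_relIndex_dvd nbot (PP_le0 1) (h.rel_dvd 0)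
      ((hc 1 (by omega)).trans (h.bot (by omega)).le))
  by_contra h2
  have := finite_of_le (PP_le (S := S) 0)
  have h3 : normalizerIn (PP S 0) E ≤ normalizerIn S E := inf_le_inf_right _ (PP_le 0)
  refine (lt_normalizerIn (h.pgP 0) (lt_of_le_of_ne hE h2)).not_ge (ess_le_of_invChain h.pg h.ess h3 ?_)
  have key : ∀ m ≤ c + 1, InvChain F E (normalizerIn (PP S 0) E) (E ⊓ PP S m) →
      InvChain F E (normalizerIn (PP S 0) E) E := fun m => by
    induction m using Nat.strong_induction_on with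
    | _ m ih =>
    intro hm k
    rcases m.eq_zero_or_pos with rfl | h0
    · rwa [inf_eq_left.2 hE] at k
    have := hp.out.two_le
    exact ih (m + 1 - p) (by omega) (by omega) (k.step (inf_le_inf_left _ (PP_anti (by omega))) inf_le_left
      (fun α hα => h.layer h1 hm hE (k.autInv α hα)) fun g hg y hy => ⟨nmem hg.2 hy.1,
        hc.le hm (by omega) (conj_mem_comm hy.2 hg.1)⟩)
  exact key (c + 1) le_rfl (by rw [h.bot le_rfl, inf_bot_eq]; exact .bot)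

theorem case_uni (hn : ∀ x ∈ E, ¬ MxC.Uni S c x) (h5 : 5 ≤ p) (hx : x ∈ normalizerIn S E) (hu : MxC.Uni S c x) :
    E = PP S 0 ∨ E = Kc S (c - 1) := by
  have c2 := h.c2
  obtain ⟨j, h1, e⟩ := h.inf_eq_PP hu.1 (h.un_uni hu) hx.2 ((h.bot le_rfl).le.trans bot_le)
  by_cases hE : E ≤ PP S 0
  · rw [inf_eq_left.2 hE] at e
    exact Or.inl (h.eq_Kc_of_le (index_eq h.toMxC h.sat h5 c2 h.ess (e ▸ PP_normal j)).2 le_rfl c2 hE).symm
  have hQ : E ≤ Kc S (c - 1) := by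
    by_contra hQ
    obtain ⟨x, h1, h2⟩ := h.exists_uni_of h.leS hE hQ
    exact hn x h1 h2
  obtain ⟨q, hq, hq'⟩ := SetLike.not_le_iff_exists.1 hE
  have h2 : PP S 1 ≤ E := (PP_anti (Nat.lt_succ_iff.1 (lt_of_mem (e.le ⟨nmem hx.2 hq,
    PP_le0 1 (lc_conj' (i := 0) hu.1 (h.leS hq))⟩) fun e => hq' (PP_le0 1 (h.mem_of_not_mem (by omega) (lc_le_Kc _)
      (Kc_le _) h.relQ hu.1 (h.uniQ hu) (hQ hq) e))))).trans (e.ge.trans inf_le_left)
  exact Or.inr (eq_of_relIndex_dvd_of_gt h2 hQ (fun e => hq' (PP_le0 1 (e hq)))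
    (h.relIndex_lc_one (lc_le_Kc _) (Kc_le _) h.relQ).dvd)

theorem Q_ess_false (hx : Kc S (c - 1) ≠ PP S 0) (hT : normalizerIn S E ≤ Kc S (c - 1))
    (k : F.IsEssential p (Kc S (c - 1))) (hj : E ⊓ PP S 0 = PP S j) (h1 : 2 ≤ j) (h2 : j + 1 ≤ c) {q : Ω} (hq : q ∈ E)
    (hq' : q ∉ PP S 0) : False := by
  have c5 := (h.exc hx).2.2
  obtain rfl := (h.of k).Q_ess hx rfl
  have hQ := (le_normalizerIn h.leS).trans hT
  have := finite_of_le (Kc_le (S := S) 3)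
  have hQp := h.pg.to_le (Kc_le (S := S) 3)
  have l1 : PP S 1 ≤ Kc S 3 := lc_le_Kc 3
  have hu := h.un (h.leS hq) hq'
  obtain ⟨y, hy, hy'⟩ := h.exists_lev (i := 1) (by omega)
  obtain ⟨g, hg, hg'⟩ := h.exists_lev (i := 0) (by omega)
  have hgQ : g ∉ Kc S 3 := fun e => hg' ((h.inf_Q hx).le ⟨e, hg⟩)
  have c1 : ⁅Kc S 3, Kc S 3⁆ ≤ PP S 2 := comm_le_of_relIndex_dvd ((Kc_le 3).trans (PP_normal 2)) l1
    (h.relIndex_lc_one l1 (Kc_le _) h.relQ).dvd ((Subgroup.commutator_mono le_rfl (Kc_le 3)).trans (PP_commS 1))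
  have e1 : Phi (Kc S 3) = PP S 2 := le_antisymm (Phi_le_of' c1 fun x hx => h.pow_mem (m := 2) (by omega) (by omega) hx.1)
    ((h.le_of_normal (c1.trans (PP_le0 2)) (H4.le_normalizer_commutator (Kc_normal 3) (Kc_normal 3))
      (conj_mem_comm (l1 hy) (hQ hq)) fun e => hy' (hu 1 (by omega) y hy e)).trans (comm_le_Phi hQp))
  have l2 : PP S 2 ≤ PP S 1 := PP_anti one_le_two
  obtain ⟨γ, hγ, e⟩ := ((tv_of_le h.pg k ⟨PP_le 0 hg, Kc_normal 3 (PP_le 0 hg)⟩ hgQ le_rfl (e1.le.trans l2) l1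
    (autInv_Phi F _) (e1 ▸ h.rel_dvd 1) (fun x hx => lc_conj' (i := 0) (PP_le 0 hg) hx.1)
    (fun x hx => e1.ge (PP_conj (PP_le 0 hg) hx)) fun x hx => e1.ge (PP_conj (PP_le 0 hg) (l2 (e1.le hx)))).axis
      h.pg h.sat k).1 q (hQ hq)
  have h3 := h.mem_of_not_mem (by omega) l1 (Kc_le _) h.relQ (PP_le 0 hg) hgQ (ext_mem γ (hQ hq)) (e1.le e)
  have hf := (iso_of_mem_autGroup (Kc_le 3) hγ).mor.mono hQ
  have hl := hj.ge.trans inf_le_left
  have i2 : Iv γ (PP S 2) := e1 ▸ autInv_Phi F _ γ hγ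
  have h4 : img E (ext γ) ≤ PP S 1 := by
    have e := sup_zpowers_eq_of_relIndex_dvd hl (h.rel_dvd' hj) hq fun e => hq' (PP_le0 j e)
    refine img_le_iff.2 (e ▸ HomOn.mem_of_sup (e.symm ▸ hf.homOn) (fun x hx => l2 (i2 x (PP_anti h1 hx))) ?_)
    rintro _ ⟨n, rfl⟩
    exact hf.map_zpow hq n ▸ zpow_mem h3 n
  have h5 := Subgroup.card_le_of_le hT
  rcases h1.eq_or_lt with rfl | h1
  · have := (h.fn hf le_rfl (((Subgroup.commutator_mono h4 le_rfl).trans (PP_commS 1)).trans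
      ((img_ext_of_inv i2).ge.trans (img_mono _ hl)))).trans h5
    rw [h.card, h.card_Q, Nat.pow_le_pow_iff_right hp.out.one_lt] at this
    omega
  have h6 := h.fn hf (PP_le 0) (((Subgroup.commutator_mono h4 le_rfl).trans (h.ce 1 (by omega))).trans fun x hx =>
    h.cent hf (PP_le _ hx) fun y hy => h.Q_conj' (ext_mem γ (hQ hy)) hx)
  rw [h.card_PP (by omega), ← h.card_Q] at h6
  have h7 := (eq_of_le_of_card_ge' hT h6).ge (l1 hy)
  exact hy' (hu 1 (by omega) y hy (PP_anti h1 (hj.le ⟨by simpa [mul_assoc] using E.mul_mem (nconj' h7.2 hq) (E.inv_mem hq),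
    PP_le0 _ (PP_conj (h.leS hq) hy)⟩)))

theorem case_Q (ih : IH p F E c) (hT : normalizerIn S E ≤ Kc S (c - 1)) (hT' : ¬ normalizerIn S E ≤ PP S 0) :
    E = Kc S (c - 1) := by
  have hx : Kc S (c - 1) ≠ PP S 0 := fun e => hT' (e ▸ hT)
  obtain ⟨-, c4, c5⟩ := h.exc hx
  have := h.fin
  have hQ := (le_normalizerIn h.leS).trans hT
  have ec : c - 1 + 1 = c := by omega
  obtain ⟨t, ht, ht'⟩ := SetLike.not_le_iff_exists.1 hT'
  obtain ⟨j, -, hj⟩ := h.inf_eq_PP ht.1 (h.un ht.1 ht') ht.2 (ec.symm ▸ h.ZE)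
  have hl := hj.ge.trans inf_le_left
  have h1 : PP S (c - 1) ≤ E := fun x hx => h.mem_of_comm (PP_le _ hx) fun y hy => h.Q_conj' (hQ hy) hx
  have h2 : j + 1 ≤ c := by
    by_contra h2
    exact h.not_le (i := c - 1) (by omega) (by omega) ((le_inf h1 (PP_le0 _)).trans hj.le)
  obtain ⟨q, hq, hq'⟩ : ∃ q ∈ E, q ∉ PP S 0 := SetLike.not_le_iff_exists.1 fun e => not_le_of_relIndex_eq h.relQ
    ((le_inf le_rfl (by rw [← inf_eq_left.2 e, hj]; exact PP_normal j)).trans hT)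
  by_contra hne
  have h3 : 2 ≤ j := by
    by_contra h3
    exact hne (eq_of_relIndex_dvd_of_gt ((PP_anti (j := 1) (by omega)).trans hl) hQ (fun e => hq' (PP_le0 1 (e hq)))
      (h.relIndex_lc_one (lc_le_Kc _) (Kc_le _) h.relQ).dvd)
  obtain ⟨i, rfl⟩ : ∃ i, j = i + 1 := ⟨j - 1, by omega⟩
  obtain ⟨g, hg, hg'⟩ := h.exists_lev (i := i) (by omega)
  obtain ⟨y, hy, hy'⟩ := h.exists_lev (i := i + 1) (by omega)
  have hgT := h.le_T hl hg
  have hgE : g ∉ E := fun e => hg' (hj.le ⟨e, PP_le0 _ hg⟩)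
  have hqS := h.leS hq
  have hu := h.un hqS hq'
  have hi := h.rel_dvd' hj
  have hn : ∀ E', F.IsEssential p E' → ¬ E ⊔ Subgroup.zpowers g ≤ E' := fun E' k e => by
    have h4 := e (Subgroup.mem_sup_right (Subgroup.mem_zpowers g))
    have h5 := le_sup_left.trans e
    rcases ih E' k (card_lt_of_lt (lt_of_le_of_ne h5 fun e => hgE (e ▸ h4)) (ess_le k)) with ⟨x, h6, h7⟩ | rfl | rfl
    · exact h.not_le_uni hg hg' h2 k h6 h7 h4
    · exact hq' (h5 hq)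
    · exact h.Q_ess_false hx hT k hj h3 h2 hq hq'
  have hp1 : ∀ x ∈ E, x ^ p ∈ PP S c := fun x hx => (PP_pos (by omega)).ge (h.pow_mem c5 le_rfl (h.leS hx))
  have hc1 : ∀ x ∈ PP S (c - 1), x⁻¹ * (g * x * g⁻¹) = 1 := fun x hx => by simp [h.Q_conj (hT hgT) hx]
  rcases h2.eq_or_lt with h2 | h2
  · have e1 : c - 1 = i + 1 := by omega
    have c1 : ⁅E, E⁆ ≤ ⊥ := comm_le_of_relIndex_dvd nbot hl hi
      (commutator_le_of_conj fun g hg x hx => by simp [h.Q_conj (hQ hg) (e1 ▸ hx)])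
    have h4 : Phi E ≤ PP S c := Phi_le_of' (c1.trans bot_le) hp1
    have h5 := h.commS i (conj_mem_comm hq hg)
    have h6 : q⁻¹ * (g * q * g⁻¹) ∉ PP S (i + 2) := fun e =>
      hg' (hu i e1.ge g hg (swap_conj (PP_normal _ hqS) (PP_normal _ hgT.1) e))
    set d := q⁻¹ * (g * q * g⁻¹) with hd
    have h7 : Phi E ⊔ Subgroup.zpowers d ≤ PP S (c - 1) :=
      sup_le (h4.trans (PP_anti (by omega))) (Subgroup.zpowers_le.2 (e1 ▸ h5))
    have h8 := relIndex_sup_zpowers_dvd (normalizer_le_normalizer_Phi E (Subgroup.le_normalizer (hl h5)))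
      (pow_mem_Phi h.pgE (hl h5))
    have h9 : d ∈ Phi E ⊔ Subgroup.zpowers d := Subgroup.mem_sup_right (Subgroup.mem_zpowers d)
    have := finite_of_le (h7.trans h1)
    have n1 := le_norm (((Subgroup.commutator_mono (h7.trans h1) le_rfl).trans c1).trans bot_le)
    have n2 : g ∈ Subgroup.normalizer (Phi E ⊔ Subgroup.zpowers d : Subgroup Ω) :=
      mem_normalizer_of_conj_mem fun x hx => by rwa [h.Q_conj (hT hgT) (h7 hx)]
    have c2 : ⁅E, Subgroup.zpowers g⁆ ≤ Phi E ⊔ Subgroup.zpowers d := comm_sup_zpowers_le n1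
      (sup_zpowers_eq_of_relIndex_dvd hl hi hq fun e => hq' (PP_le0 _ e)) (commutator_le_of_conj fun g hg x hx => by
        simp [h.Q_conj (Subgroup.zpowers_le.2 (hT hgT) hg) (e1 ▸ hx)])
      (comm_zpowers_mem n2 ((comm_mem_iff_conj (n1 hq)).2 h9))
    refine h.tor hx (tv_of_le h.pg h.ess hgT hgE le_rfl le_sup_left (h7.trans h1) (autInv_Phi F E) h8
      (fun x hx => c2 (conj_mem_comm hx (Subgroup.mem_zpowers g))) (fun x hx => hc1 x (h7 hx) ▸ one_mem _)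
      fun x hx => hc1 x (h7 (Subgroup.mem_sup_left hx)) ▸ one_mem _) h2.le hg hg' hj.le h9 h5 h6 (h2 ▸ h4) hn
      (Or.inr ⟨h2, ?_⟩)
    rw [eq_of_relIndex_dvd_of_lt (le_inf le_sup_left h4) inf_le_left (fun e => h6 (h2 ▸ (e h9).2)) h8]
    exact (eq_or_eq_of_relIndex_dvd bot_le h4 (by simpa [h.bot le_rfl] using h.rel_dvd c)).symm.imp
      (fun e => by rw [← e]; exact autInv_Phi F E) fun e => e.le
  have e1 : centralizerIn E E = PP S (c - 1) := by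
    refine le_antisymm (fun x hx => ?_) fun x hx => mem_centralizerIn_conj.2 ⟨h1 hx, fun y hy => h.Q_conj' (hQ hy) hx⟩
    have h4 := (mem_centralizerIn_conj.1 hx).2
    have h5 : x ∈ PP S 0 := by
      by_contra h5
      exact hy' (h.un (h.leS hx.1) h5 _ (by omega) y hy (by simp [h4 y (hl hy)]))
    by_contra h6
    obtain ⟨l, -, h7, h8, h9⟩ := exists_lev_of h5 h6
    exact h9 (hu l h7 x h8 (swap_conj (PP_normal _ hqS) (PP_normal _ (PP_le _ h8)) (by simp [h4 q hq])))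
  have h4 : Phi E ≤ PP S (i + 2) := Phi_le_of' (comm_le_of_relIndex_dvd (h.leS.trans (PP_normal _)) hl hi
    (comm_le_symm (h.commS _))) fun x hx => PP_anti h2.le (hp1 x hx)
  have nq := normalizer_le_normalizer_Phi E (Subgroup.le_normalizer hq)
  have key : ∀ N : Subgroup Ω, q ∈ Subgroup.normalizer (N : Set Ω) → Phi E ≤ N → PP S c ≤ N → PP S (i + 2) ≤ N :=
    fun N h5 h6 h7 => h.le_of_un hqS hu h5 (ec.symm ▸ h7) (h6 (comm_le_Phi h.pgE (conj_mem_comm (hl hy) hq)))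
      (PP_conj hqS hy) fun e => hy' (hu _ (by omega) y hy e)
  have e2 : Phi E ⊔ PP S (c - 1) = PP S (i + 2) := le_antisymm (sup_le h4 (PP_anti (by omega))) (key _
    (H4.le_normalizer_sup (Subgroup.zpowers_le.2 nq) (Subgroup.zpowers_le.2 (PP_normal _ hqS)) (Subgroup.mem_zpowers q))
    le_sup_left ((PP_anti (by omega)).trans le_sup_right))
  have i1 : AutInv F E (PP S (c - 1)) := e1 ▸ autInv_center F E
  refine h.tor hx (tv_of_le h.pg h.ess hgT hgE h4 (PP_anti (by omega)) hl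
    (e2 ▸ (autInv_Phi F E).sup i1 (Phi_le E) h1) (h.rel_dvd _) (fun x hx => h.commS i (conj_mem_comm hx hg))
    (fun x => PP_conj hgT.1) fun x hx' => ?_) h2.le hg hg' hj.le hy hy hy' le_rfl hn (Or.inl ⟨i1, hT hgT, h1⟩)
  by_cases h5 : c ≤ 2 * (i + 1)
  · exact (h.bot le_rfl).le.trans bot_le (PP_comm' (by omega) (conj_mem_comm hx' hg))
  · exact key _ nq le_rfl (((h.Z_le_comm hx (i := i + 1) (by omega) le_rfl).trans (Subgroup.commutator_mono hl
      ((PP_anti (by omega)).trans hl))).trans (comm_le_Phi h.pgE)) (PP_anti (by omega) (PP_conj hgT.1 hx'))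

theorem ext0 (ih : IH p F E c) (hN : E < N) (hN' : N ≤ PP S 0) (hf : Mor F N f) :
    ∃ γ ∈ F.autGroup (PP S 0), ∀ x ∈ N, f x = ext γ x := by
  have c2 := h.c2
  have := finite_of_le hf.le
  have hNp := h.pg.to_le hf.le
  refine alperin_induction' h.pg h.sat (fun P f => P = N → ∃ γ ∈ F.autGroup (PP S 0), ∀ x ∈ N, f x = ext γ x)
    ?_ (fun _ _ _ => ⟨1, one_mem _, fun x _ => (ext_one x).symm⟩) ?_ N f hf rfl
  · rintro _ f g - e h1 rfl
    obtain ⟨γ, hγ, e'⟩ := h1 rfl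
    exact ⟨γ, hγ, fun x hx => e x hx ▸ e' x hx⟩
  intro P Q f g hf hQ hg h1 h2 hP
  subst P
  obtain ⟨γ, hγ, e⟩ := h2 rfl
  have h3 : ∀ x ∈ N, f x ∈ PP S 0 := fun x hx => e x hx ▸ ext_mem γ (hN' hx)
  obtain ⟨β, hβ, e'⟩ := hg.exists_aut
  have key : ∀ l k, k + 1 + l = c + 1 → Q ⊓ PP S 0 ≤ PP S l → Nat.card E ∣ p ^ k := fun l k h4 h5 =>
    card_dvd_of_lt hNp hN (by
      rw [← hf.card_img, show k + 1 = c + 1 - l by omega, ← h.card_PP (by omega)]
      exact Subgroup.card_dvd_of_le (img_le_iff.2 fun x hx => h5 ⟨h1 x hx, h3 x hx⟩))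
  suffices ∃ δ ∈ F.autGroup (PP S 0), ∀ x ∈ N, g (f x) = ext δ (f x) by
    obtain ⟨δ, hδ, e'⟩ := this
    exact ⟨δ * γ, mul_mem hδ hγ, fun x hx => by rw [ext_mul, ← e x hx, ← e' x hx]⟩
  rcases hQ with rfl | hQ
  · obtain ⟨δ, hδ, e⟩ := exists_res le_rfl (PP_le 0) hβ (iv_PP β 0)
    exact ⟨δ, hδ, fun x hx => by rw [e _ (h3 x hx), e' _ (h1 x hx)]⟩
  by_cases h0 : Q = PP S 0
  · subst h0
    exact ⟨β, hβ, fun x hx => (e' _ (h1 x hx)).symm⟩
  have := finite_of_le (ess_le hQ)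
  rcases ih Q hQ ((card_lt_of_lt hN hf.le).trans_le (mor_card_le hf h1)) with ⟨x, h4, h5⟩ | h4 | rfl
  · exact (h.not_card_dvd (by simpa using key _ 1 (by omega) ((h.of hQ).uni_le h4 h5))).elim
  · exact (h0 h4).elim
  obtain rfl := (h.of hQ).Q_ess h0 rfl
  have h4 := key 1 3 rfl (h.inf_Q h0).le
  have h5 := ess_relIndex_dvd_of_rank_three h.pg h.sat h.ess ((Subgroup.relIndex_dvd_card _ _).trans h4)
  have hf' := hf.mono hN.le
  have h6 := h.fn hf' (PP_le 0) (((Subgroup.commutator_mono (img_le_iff.2 fun x hx => (h.inf_Q h0).le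
    ⟨h1 x (hN.le hx), h3 x (hN.le hx)⟩) le_rfl).trans (h.ce 1 (by omega))).trans fun x hx =>
      h.cent hf' (PP_le _ hx) fun y hy => h.Q_conj' (h1 y (hN.le hy)) hx)
  rw [h.card_PP (by omega), ← card_mul_relIndex' (le_normalizerIn h.leS)] at h6
  have := h6.trans (Nat.le_of_dvd (Nat.mul_pos (pow_pos hp.out.pos 3) hp.out.pos) (mul_dvd_mul h4 h5))
  rw [← pow_succ, Nat.pow_le_pow_iff_right hp.out.one_lt] at this
  omega

theorem extM (ih : IH p F E c) (hT : normalizerIn S E ≤ PP S 0) {μ : MulAut E} (hμ : μ ∈ extAut F E) :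
    ∃ γ ∈ F.autGroup (PP S 0), ∀ x ∈ E, ext μ x = ext γ x := by
  induction hμ using Subgroup.closure_induction with
  | mem α hα =>
    obtain ⟨Q, g, h1, h2, e⟩ := hα
    have := finite_of_le h2.le
    have h3 := lt_normalizerIn (h.pg.to_le h2.le) h1
    obtain ⟨γ, hγ, e'⟩ := h.ext0 ih h3 ((inf_le_inf_right _ h2.le).trans hT) (h2.mono inf_le_left)
    exact ⟨γ, hγ, fun x hx => by rw [← e x hx, e' x (h3.le hx)]⟩
  | one => exact ⟨1, one_mem _, fun x _ => by rw [ext_one, ext_one]⟩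
  | mul α β _ _ h1 h2 =>
    obtain ⟨γ, hγ, e⟩ := h1
    obtain ⟨δ, hδ, e'⟩ := h2
    exact ⟨γ * δ, mul_mem hγ hδ, fun x hx => by rw [ext_mul, ext_mul, e _ (ext_mem β hx), e' x hx]⟩
  | inv α _ h1 =>
    obtain ⟨γ, hγ, e⟩ := h1
    exact ⟨γ⁻¹, Subgroup.inv_mem _ hγ, fun x hx => by
      rw [← ext_inv_ext γ (ext α⁻¹ x), ← e _ (ext_mem _ hx), ext_ext_inv]⟩

end EX

end Cfsg.Agent.H5.PE
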