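import Mathlib
import Cfsg.Agent.H5.PE4

/-!
# Essential subgroups with normalizer inside the two-step centralizer: the quadratic module
-/

set_option autoImplicit false
set_option linter.unusedSectionVars false

namespace Cfsg.Agent.H5.PE

open Cfsg Cfsg.FusionSystem Cfsg.Agent.H97 Cfsg.Agent.H98 Cfsg.Agent.H96 Cfsg.Agent.S5264 Cfsg.Agent.H5.NE
open Cfsg.Agent.H8 Cfsg.Agent.H36
open scoped commutatorElement Pointwise

universe u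

variable {Ω : Type u} [Group Ω] {p : ℕ} [hp : Fact p.Prime] {S E N V : Subgroup Ω} {F : FusionSystem S}
  {c e i j k m m' : ℕ} {x y g a : Ω} {Γ : Subgroup (MulAut E)}

/-- The configuration of a counterexample with normalizer inside the two-step centralizer. -/
structure MC (F : FusionSystem S) (c k m m' : ℕ) (a : Ω) (Γ : Subgroup (MulAut E)) (V : Subgroup Ω) {W : Type*}
    [AddCommGroup W] [Module (ZMod p) W] (π : Ω → W) (ρ : Γ →* (W →ₗ[ZMod p] W)ˣ) : Prop extends EX p F E c where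
  h5 : 5 ≤ p
  T0 : normalizerIn S E ≤ PP S 0
  extM : ∀ μ ∈ extAut F E, ∃ γ ∈ F.autGroup (PP S 0), ∀ x ∈ E, ext μ x = ext γ x
  kE : PP S (k + 2) ≤ E
  kE' : E ⊓ PP S (k + 1) ≤ PP S (k + 2)
  kc : k + 2 ≤ c
  a2 : a ∉ PP S (k + 2)
  aq : ∃ s b, MxC.Uni S c s ∧ b ∈ PP S k ∧ a = s⁻¹ * (b * s * b⁻¹)
  MG : extAut F E < Γ
  GA : Γ ≤ F.autGroup E
  mx : ∀ H, extAut F E < H → H ≤ Γ → Γ ≤ H
  m0 : 1 ≤ m
  mc : m ≤ c + 1
  mc' : m' ≤ c + 1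
  invP : AutInv F (PP S 0) (PP S m)
  invE : Inv (Γ : Set (MulAut E)) (E ⊓ PP S m)
  desc : ∀ j < m, AutInv F (PP S 0) (PP S j) → ⁅PP S j, PP S 0⁆ ≤ PP S m → ¬ Inv (Γ : Set (MulAut E)) (E ⊓ PP S j)
  oz' : IsOZ p (PP S 0) (PP S m) (PP S m')
  oz : IsOZ p E (E ⊓ PP S m) V
  sx : Sx Γ.subtype V (E ⊓ PP S m) π ρ

variable [Finite S]

theorem EX.exists_mc (h : EX p F E c) (ih : IH p F E c) (h5 : 5 ≤ p) (hT : normalizerIn S E ≤ PP S 0)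
    (hne : E ≠ PP S 0) : ∃ (k m m' : ℕ) (a : Ω) (Γ : Subgroup (MulAut E)) (V : Subgroup Ω) (W : Type u)
      (_ : AddCommGroup W) (_ : Module (ZMod p) W) (_ : Finite W) (π : Ω → W) (ρ : Γ →* (W →ₗ[ZMod p] W)ˣ),
      MC F c k m m' a Γ V π ρ := by
  classical
  have := h.fin
  have := finite_mulAut h.leS
  have hE := (le_normalizerIn h.leS).trans hT
  have ex : ∃ i, PP S i ≤ E := ⟨c, h.ZE⟩
  have h1 := Nat.find_spec ex
  have h2 := Nat.find_min' ex h.ZE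
  have h3 : ∀ i, i < Nat.find ex → ¬ PP S i ≤ E := fun i => Nat.find_min ex
  obtain ⟨k, hk⟩ : ∃ k, Nat.find ex = k + 2 := by
    refine ⟨Nat.find ex - 2, ?_⟩
    by_contra h4
    have h6 := eq_of_relIndex_dvd_of_lt ((PP_anti (j := 1) (by omega)).trans h1) hE (fun e => hne (le_antisymm hE e))
      (h.rel_dvd 0)
    exact not_le_of_relIndex_eq h.rel0 ((le_inf le_rfl (h6 ▸ PP_normal 1)).trans hT)
  rw [hk] at h1 h2 h3
  obtain ⟨s, hs⟩ := h.exists_uni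
  obtain ⟨b, hb, hb'⟩ := h.exists_lev (i := k) (by omega)
  have a1 : s⁻¹ * (b * s * b⁻¹) ∈ PP S (k + 1) := comm_le_symm (PP_commS k) (conj_mem_comm hs.1 hb)
  have a2 : s⁻¹ * (b * s * b⁻¹) ∉ PP S (k + 2) := fun e =>
    hb' (h.un_uni hs k (by omega) b hb (swap_conj (PP_normal _ hs.1) (PP_normal _ (PP_le _ hb)) e))
  have h4 : E ⊓ PP S (k + 1) ≤ PP S (k + 2) := fun y hy => by
    by_contra hy'
    exact h3 (k + 1) (by omega) (h.le_of_lev hy.2 hy' h1 hy.1)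
  set a := s⁻¹ * (b * s * b⁻¹) with ha
  have aT := h.le_T h1 a1
  have aE : a ∉ E := fun e => a2 (h4 ⟨e, a1⟩)
  obtain ⟨γ₁, hγ₁, hγ₁'⟩ := ess_exists_not_mem_extAut h.pg h.sat h.ess
  obtain ⟨Γ, ⟨MG, GA⟩, hΓ⟩ := exists_minimal_of_wellFoundedLT (fun H => extAut F E < H ∧ H ≤ F.autGroup E)
    ⟨_, lt_of_le_of_ne extAut_le_autGroup fun e => hγ₁' (e ▸ hγ₁), le_rfl⟩
  obtain ⟨γ, hγ, hγ'⟩ := SetLike.exists_of_lt MG
  have ex2 : ∃ i, i ≤ c + 1 ∧ AutInv F (PP S 0) (PP S i) ∧ Inv (Γ : Set (MulAut E)) (E ⊓ PP S i) ∧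
      UniChain E {conjAut E aT.2, γ * conjAut E aT.2 * γ⁻¹} (E ⊓ PP S i) := ⟨c + 1, le_rfl, by
    rw [h.bot le_rfl, inf_bot_eq]; exact ⟨autInv_bot F _, inv_bot, .bot⟩⟩
  obtain ⟨m1, m2, m3, m4⟩ := Nat.find_spec ex2
  have m5 := fun j => Nat.find_min ex2 (m := j)
  generalize Nat.find ex2 = m at m1 m2 m3 m4 m5
  have m0 : 1 ≤ m := Nat.pos_of_ne_zero fun e => ess_not_uniChain h.pg h.sat h.ess (GA hγ) hγ' aT aE aT aE
    (by rwa [e, inf_eq_left.2 hE] at m4)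
  obtain ⟨m', m6, m7⟩ := h.exists_oz m
  have hn := H4.le_normalizer_inf (Subgroup.le_normalizer (H := E)) (h.leS.trans (PP_normal m))
  obtain ⟨V, hV⟩ := exists_oz p hn
  obtain ⟨W, _, _, _, π, ρ, k'⟩ := hV.exists_sx Γ.subtype inf_le_left hn fun α => m3 α α.2
  refine ⟨k, m, m', a, Γ, V, W, _, _, inferInstance, π, ρ, h, h5, hT, fun μ => h.extM ih hT, h1, h4, h2, a2,
    ⟨s, b, hs, hb, rfl⟩, MG, GA, fun H h6 h7 => hΓ ⟨h6, h7.trans GA⟩ h7, m0, m1, m6, m2, m3,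
    fun j h6 h7 h8 h9 => m5 j h6 ⟨by omega, h7, h9, m4.step (inf_le_inf_left _ (PP_anti h6.le)) ?_⟩, m7, hV, k'⟩
  have : ∀ x ∈ E ⊓ PP S j, x⁻¹ * ext (conjAut E aT.2) x ∈ E ⊓ PP S m := fun x hx => by
    rw [ext_conjAut _ hx.1]; exact ⟨nmem aT.2 hx.1, h8 (conj_mem_comm hx.2 (hT aT))⟩
  rintro _ (rfl | rfl) x - hx
  · exact this x hx
  · exact tr_conj inf_le_left (h9 _ (Γ.inv_mem hγ)) (m3 _ hγ) this x hx

variable {W : Type*} [AddCommGroup W] [Module (ZMod p) W] [Finite W] {π : Ω → W} {ρ : Γ →* (W →ₗ[ZMod p] W)ˣ}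

namespace MC

theorem TM (h : MC F c k m m' a Γ V π ρ) : autInducedBy S E ≤ extAut F E := ess_autInducedBy_le h.pg h.sat h.ess

/-- Conjugation by the normalizer of `E`. -/
def ct (h : MC F c k m m' a Γ V π ρ) : normalizerIn S E →* Γ :=
  (conjAutHom S E).codRestrict Γ fun s => h.MG.le (h.TM (range_conjAutHom S E ▸ ⟨s, rfl⟩))

variable (h : MC F c k m m' a Γ V π ρ) {t : normalizerIn S E} {γ μ : Γ}
include h

theorem ext_ct (t : normalizerIn S E) (hx : x ∈ E) : ext (h.ct t).1 x = t * x * (t : Ω)⁻¹ := ext_conjAutHom t hx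

theorem ct_mem (t : normalizerIn S E) : (h.ct t).1 ∈ extAut F E := h.TM (range_conjAutHom S E ▸ ⟨t, rfl⟩)

theorem E0 : E ≤ PP S 0 := (le_normalizerIn h.leS).trans h.T0

theorem a1 : a ∈ PP S (k + 1) := by
  obtain ⟨s, b, hs, hb, rfl⟩ := h.aq
  exact comm_le_symm (PP_commS k) (conj_mem_comm hs.1 hb)

theorem aT : a ∈ normalizerIn S E := h.le_T h.kE h.a1

theorem aE : a ∉ E := fun e => h.a2 (h.kE' ⟨e, h.a1⟩)

theorem V0 : V ≤ PP S 0 := h.oz.le.trans h.E0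

theorem stab (h1 : ∀ μ ∈ extAut F E, Iv μ N) (h2 : ¬ Inv (Γ : Set (MulAut E)) N) (h3 : Iv γ.1 N) : γ.1 ∈ extAut F E := by
  have := h.fin
  have k : ∀ α : MulAut E, α ∈ trivOn E (le_refl N) ↔ Iv α N := fun α => by
    rw [mem_trivOn]
    exact forall₂_congr fun x hx => N.mul_mem_cancel_left (N.inv_mem hx)
  by_contra h4
  exact h2 fun α hα => (k α).1 (h.mx (Γ ⊓ trivOn E (le_refl N)) (lt_of_le_of_ne (le_inf h.MG.le fun μ hμ =>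
    (k μ).2 (h1 μ hμ)) fun e => h4 (e.ge ⟨γ.2, (k _).2 h3⟩)) inf_le_left hα).2

theorem ivM (hP : AutInv F (PP S 0) (PP S j)) : ∀ μ ∈ extAut F E, Iv μ (E ⊓ PP S j) := fun μ hμ y hy => by
  obtain ⟨γ, hγ, e⟩ := h.extM μ hμ
  exact ⟨ext_mem μ hy.1, e y hy.1 ▸ hP γ hγ y hy.2⟩

theorem lt' : m' < m := by
  have := h.m0
  have := h.mc
  have e : m - 1 + 1 = m := by omega
  have := h.le_of_le (i := m - 1) (by omega) (h.oz'.ge (PP_le0 _) (PP_comm' (by omega))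
    fun y hy => e ▸ h.pow_succ_mem hy) h.mc'
  omega

theorem invP' : AutInv F (PP S 0) (PP S m') := fun α hα => h.oz'.iv (h.invP α hα)

theorem le_V (h1 : ⁅PP S j, PP S 0⁆ ≤ PP S m) (h2 : ∀ y ∈ PP S j, y ^ p ∈ PP S m) : E ⊓ PP S j ≤ V :=
  h.oz.ge inf_le_left (le_inf ((Subgroup.commutator_mono inf_le_left le_rfl).trans (commutator_self_le E))
    ((Subgroup.commutator_mono inf_le_right h.E0).trans h1)) fun y hy => ⟨pow_mem hy.1 p, h2 y hy.2⟩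

theorem UV : E ⊓ PP S m' ≤ V := h.le_V h.oz'.comm fun _ => h.oz'.pow

/-- An element outside `M` moves the invariant central sections. -/
theorem memM (hj : j < m) (hP : AutInv F (PP S 0) (PP S j)) (h1 : ⁅PP S j, PP S 0⁆ ≤ PP S m) (h2 : E ⊓ PP S j ≤ V)
    (h3 : ∀ y ∈ E ⊓ PP S j, (ρ γ).val (π y) = π y) : γ.1 ∈ extAut F E :=
  h.stab (h.ivM hP) (h.desc j hj hP h1) fun y hy => by
    simpa using (E ⊓ PP S j).mul_mem hy (inf_le_inf_left _ (PP_anti hj.le) ((h.sx.fix_iff (h2 hy)).1 (h3 y hy)))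

theorem kerM (e : ρ γ = 1) : γ.1 ∈ extAut F E := h.memM h.lt' h.invP' h.oz'.comm h.UV fun _ _ => by simp [e]

theorem memM_iff : ρ γ ∈ ((extAut F E).subgroupOf Γ).map ρ ↔ γ.1 ∈ extAut F E := by
  have : ρ.ker ≤ (extAut F E).subgroupOf Γ := fun _ => h.kerM
  rw [← Subgroup.mem_comap, Subgroup.comap_map_eq_self this]; rfl

theorem gam : ∃ γ : Γ, γ.1 ∉ extAut F E :=
  let ⟨γ, h1, h2⟩ := SetLike.exists_of_lt h.MG
  ⟨⟨γ, h1⟩, h2⟩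

theorem mem_of_conj (ht : t.1 ∉ E) (e : (γ * h.ct t * γ⁻¹).1 ∈ extAut F E) : γ.1 ∈ extAut F E :=
  let ⟨_, hk⟩ := conjAut_pow_eq_one h.pg t.2
  ess_mem_extAut h.pg h.sat h.ess (h.GA γ.2) (h.ct_mem t) (ess_conjAut_not_mem_inn h.ess t.2 ht) hk e

theorem faith (e : ρ (h.ct t) = 1) : t.1 ∈ E := by
  by_contra ht
  obtain ⟨γ, hγ⟩ := h.gam
  exact hγ (h.mem_of_conj ht (h.kerM (by simp [e])))

theorem ct_inn (ht : t.1 ∈ E) : (h.ct t).1 ∈ Inn E := mem_inn_iff.2 ⟨t, ht, fun _ => h.ext_ct t⟩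

theorem triv (ht : t.1 ∈ E) : ρ (h.ct t) = 1 := h.sx.eq_one_of_inn h.oz.comm (h.ct_inn ht)

theorem sub (t : normalizerIn S E) (hy : y ∈ V) :
    ((ρ (h.ct t)).val - 1) (π y) = π (y⁻¹ * (t * y * (t : Ω)⁻¹)) := by
  rw [← h.ext_ct t (h.oz.le hy)]; exact h.sx.sub_one _ hy

theorem sub_eq (t : normalizerIn S E) (hy : y ∈ V) :
    ((ρ (h.ct t)).val - 1) (π y) = 0 ↔ y⁻¹ * (t * y * (t : Ω)⁻¹) ∈ PP S m := by
  rw [LinearMap.sub_apply, sub_eq_zero, Module.End.one_apply, h.sx.fix_iff hy]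
  change y⁻¹ * ext (h.ct t).1 y ∈ _ ↔ _
  rw [h.ext_ct t (h.oz.le hy)]
  exact and_iff_right (nmem t.2.2 (h.oz.le hy))

theorem mem_of_triv (e : ∀ y ∈ V, y⁻¹ * (t * y * (t : Ω)⁻¹) ∈ PP S m) : t.1 ∈ E :=
  h.faith (Units.ext (sub_eq_zero.1 (LinearMap.ext fun w => by
    obtain ⟨y, hy, rfl⟩ := h.sx.surj w
    exact (h.sub_eq t hy).2 (e y hy))))

theorem na (h1 : V ≤ PP S i) (h2 : j ≤ k + 1) : ¬ ⁅PP S i, PP S j⁆ ≤ PP S m := fun e =>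
  h.aE (h.mem_of_triv (t := ⟨a, h.aT⟩) fun _ hy => e (conj_mem_comm (h1 hy) (PP_anti h2 h.a1)))

theorem km' : k + 2 ≤ m' := lt_of_not_ge fun e =>
  h.na h.V0 le_rfl (comm_le_symm ((Subgroup.commutator_mono (PP_anti e) le_rfl).trans h.oz'.comm))

theorem km (hc : CE S e) (he : m ≤ e) : k + 3 < m := lt_of_not_ge fun e =>
  h.na h.V0 le_rfl (h.comm_le hc he (by omega))

theorem UE : PP S m' ≤ E := (PP_anti h.km').trans h.kE

theorem CE' : E ⊓ PP S m = PP S m := inf_eq_right.2 ((PP_anti h.lt'.le).trans h.UE)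

theorem V_le (h1 : V ≤ PP S j) (hj : 1 ≤ j ∨ p ≤ c) : V ≤ PP S (m + 1 - p) := fun y hy => by
  by_cases h2 : m + 1 ≤ p
  · rw [show m + 1 - p = 0 by omega]; exact h.V0 hy
  have := h.mc
  exact h.mem_of_pow_mem (h1 hy) hj (by omega) (by rw [show m + 1 - p + p - 1 = m by omega]; exact (h.oz.pow hy).2)

theorem conjM {δ : MulAut (PP S 0)} (hδ : δ ∈ F.autGroup (PP S 0)) (e : ∀ x ∈ E, ext μ.1 x = ext δ x)
    (t : normalizerIn S E) : ∃ t' : normalizerIn S E, t'.1 = ext δ t ∧ μ * h.ct t * μ⁻¹ = h.ct t' := by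
  have h1 := (iso_of_mem_autGroup (PP_le 0) hδ).mor
  refine ⟨⟨_, ((iso_of_mem_autGroup h.leS (h.GA μ.2)).congr e).map_mem_normalizerIn h1 h.E0 (h.T0 t.2) t.2.2⟩, rfl,
    Subtype.ext (aut_ext fun x hx => ?_)⟩
  rw [h.ext_ct _ hx]
  exact ext_conj_conjAut h1.homOn h.E0 (fun x hx => (e x hx).symm) (h.T0 t.2) t.2.2 hx

theorem sylG : IsSylowIn p h.ct.range ⊤ := by
  have := finite_mulAut h.leS
  have h0 := sat_sylIn h.pg h.sat h.ess.2.1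
  have h1 : IsSylowIn p _ _ := ⟨h0.le, h0.isPGroup, h0.not_dvd_relIndex⟩
  have h2 := (h1.mono (h.TM.trans h.MG.le) h.GA).subgroupOf le_rfl
  rw [Subgroup.subgroupOf_self] at h2
  convert h2
  ext α
  rw [Subgroup.mem_subgroupOf, ← range_conjAutHom]
  exact ⟨fun ⟨g, e⟩ => ⟨g, congrArg Subtype.val e⟩, fun ⟨g, e⟩ => ⟨g, Subtype.ext e⟩⟩

theorem syl : IsSylowIn p (ρ.comp h.ct).range ρ.range := by
  have := finite_mulAut h.leS
  have := h.sylG.map ρ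
  rwa [← MonoidHom.range_eq_map, ← MonoidHom.range_comp] at this

theorem pM {u : (W →ₗ[ZMod p] W)ˣ} (hu : u ∈ ((extAut F E).subgroupOf Γ).map ρ) (e : u ^ p = 1) :
    ∃ t, ρ (h.ct t) = u := by
  obtain ⟨μ, hμ, rfl⟩ := hu
  obtain ⟨δ, hδ, e'⟩ := h.extM μ.1 hμ
  refine h.syl.le_of_le_normalizer' (isPGroup_zpowers_of_pow_eq_one (k := 1) (by rw [pow_one, e]))
    (Subgroup.zpowers_le.2 ⟨μ, rfl⟩) (Subgroup.zpowers_le.2 (mem_normalizer_of_conj_mem ?_)) (Subgroup.mem_zpowers _)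
  rintro _ ⟨t, rfl⟩
  obtain ⟨t', -, e⟩ := h.conjM hδ e' t
  exact ⟨t', by simp [← e]⟩

theorem se : SE ρ.range (((extAut F E).subgroupOf Γ).map ρ) := by
  refine ⟨?_, fun u hu e => ?_, ?_⟩
  · obtain ⟨γ, hγ⟩ := h.gam
    exact ⟨_, ⟨γ, rfl⟩, fun e => hγ (h.memM_iff.1 e)⟩
  · obtain ⟨g, hg, hg'⟩ := h.syl.exists_conj_le (isPGroup_zpowers_of_pow_eq_one (k := 1) (by rw [pow_one, e]))
      (Subgroup.zpowers_le.2 hu)
    obtain ⟨v, hv⟩ := hg' (conj_mem_conj_smul.2 (Subgroup.mem_zpowers u))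
    exact ⟨g, hg, _, h.ct_mem v, hv⟩
  · rintro _ ⟨γ, rfl⟩ u hu h1 h2 h3
    obtain ⟨t, rfl⟩ := h.pM hu h2
    rw [← map_inv, ← map_mul, ← map_mul, h.memM_iff] at h3
    exact h.memM_iff.2 (h.mem_of_conj (fun e => h1 (h.triv e)) h3)

theorem tw (ht : t.1 ∉ E) {n : ℕ} (e : ρ μ * ρ (h.ct t) * (ρ μ)⁻¹ = ρ (h.ct t) ^ n) : μ.1 ∈ extAut F E ∧
    (∀ δ ∈ F.autGroup (PP S 0), (∀ x ∈ E, ext μ.1 x = ext δ x) → (t.1 ^ n)⁻¹ * ext δ t ∈ E) ∧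
      ((h.ct t ^ n)⁻¹ * (μ * h.ct t * μ⁻¹)).1 ∈ Inn E := by
  have h1 : μ.1 ∈ extAut F E := h.mem_of_conj ht (h.memM_iff.1 (by
    rw [map_mul, map_mul, map_inv, e, ← map_pow, ← map_pow]; exact h.memM_iff.2 (h.ct_mem _)))
  have h2 : ∀ δ ∈ F.autGroup (PP S 0), (∀ x ∈ E, ext μ.1 x = ext δ x) → (t.1 ^ n)⁻¹ * ext δ t ∈ E ∧
      ((h.ct t ^ n)⁻¹ * (μ * h.ct t * μ⁻¹)).1 ∈ Inn E := fun δ hδ e' => by
    obtain ⟨t', e1, e2⟩ := h.conjM hδ e' t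
    have := h.faith (t := (t ^ n)⁻¹ * t') (by simp [← e2, e])
    exact ⟨e1 ▸ this, by simpa [e2] using h.ct_inn this⟩
  obtain ⟨δ, hδ, e'⟩ := h.extM _ h1
  exact ⟨h1, fun δ hδ e => (h2 δ hδ e).1, (h2 δ hδ e').2⟩

theorem quad : ((ρ (h.ct ⟨a, h.aT⟩)).val - 1) * ((ρ (h.ct ⟨a, h.aT⟩)).val - 1) = 0 := by
  have h5 := h.h5
  have mc := h.mc
  have n0 := (PP_le (S := S) 0).trans (PP_normal m)
  obtain ⟨g, -, eg⟩ := h.eq_PP (N := cmod (PP S 0) (PP S (k + 2)) (PP S m)) cmod_le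
    (cmod_normal (PP_le 0) (PP_normal 0) (PP_normal _) (PP_normal m))
  have c1 : ⁅PP S g, PP S (k + 2)⁆ ≤ PP S m := comm_le_of_le_cmod eg.ge
  have h1 : V ≤ PP S g := (le_cmod n0 h.V0 ((Subgroup.commutator_mono le_rfl h.kE).trans
    (h.oz.comm.trans inf_le_right))).trans eg.le
  refine LinearMap.ext fun w => ?_
  obtain ⟨y, hy, rfl⟩ := h.sx.surj w
  have h2 : y⁻¹ * (a * y * a⁻¹) ∈ V := by
    simpa [h.ext_ct _ (h.oz.le hy)] using V.mul_mem (V.inv_mem hy) (h.sx.inv (h.ct ⟨a, h.aT⟩) y hy)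
  rw [Module.End.mul_apply, h.sub _ hy]
  refine (h.sub_eq _ h2).2 ?_
  by_cases h3 : g ≤ k + 1
  · exact comm_le_symm c1 (conj_mem_comm (PP_comm' (by omega) (conj_mem_comm (h.V0 hy) h.a1)) (PP_anti h3 h.a1))
  have h4 := h.V_le h1 (by omega)
  obtain ⟨s, b, hs, hb, e⟩ := h.aq
  have h6 : g < m := lt_of_not_ge fun e => h.na h1 le_rfl (PP_comm' (by omega))
  obtain ⟨A, h7, h8, h9, h10⟩ : ∃ A, g ≤ A ∧ m + 1 ≤ A + p ∧ A ≤ m ∧ y ∈ PP S A := by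
    rcases le_total g (m + 1 - p) with e | e
    · exact ⟨_, e, by omega, by omega, h4 hy⟩
    · exact ⟨g, le_rfl, by omega, h6.le, h1 hy⟩
  obtain ⟨d, rfl⟩ : ∃ d, m = A + d := ⟨m - A, by omega⟩
  exact h.toMX.quad mc (by omega) (by omega) ((Subgroup.commutator_mono (PP_anti h7) le_rfl).trans c1)
    (fun y hy => h.pow_mem' hy (by omega) (by omega)) hs hb e h10

theorem exists_qd : ∃ t, QD ρ.range ((ρ (h.ct t)).val - 1) := by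
  classical
  have hex : ∃ n, ∃ a, QT (ZMod p) ρ.range a ∧ a ≠ 0 ∧ rk a = n :=
    ⟨_, _, qt_of_quad ⟨_, rfl⟩ h.quad, fun e => h.aE (h.faith (Units.ext (sub_eq_zero.1 e))), rfl⟩
  obtain ⟨a₀, q0, n0, r0⟩ := Nat.find_spec hex
  have h0 : QD ρ.range a₀ := ⟨q0, n0, fun c hc hc0 => r0 ▸ Nat.find_min' hex ⟨c, hc, hc0, rfl⟩⟩
  obtain ⟨g, hg, hg'⟩ := h.syl.exists_conj_le (isPGroup_zpowers_of_pow_eq_one (k := 1)
    (by rw [pow_one, un_pow q0.sq])) (Subgroup.zpowers_le.2 q0.un_mem)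
  obtain ⟨t, ht⟩ := hg' (conj_mem_conj_smul.2 (Subgroup.mem_zpowers _))
  have ha := h0.conj hg
  refine ⟨t, ?_⟩
  rwa [show ρ (h.ct t) = un _ ha.qt.sq from ht.trans (conj_un_eq _ _ _).symm, val_un_sub]

theorem exists_sp (ht : QD ρ.range ((ρ (h.ct t)).val - 1)) {l : ZMod p} (l0 : l ≠ 0) (l2 : l ^ 2 ≠ 1) :
    ∃ (γ : Γ) (t' : normalizerIn S E) (b : W →ₗ[ZMod p] W), γ.1 ∉ extAut F E ∧ t'.1 ∉ E ∧ b ≠ 0 ∧
      SP l (ρ (h.ct t)) (ρ (γ * h.ct t' * γ⁻¹)) ((ρ (h.ct t)).val - 1) b := by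
  obtain ⟨γ, hγ⟩ := h.gam
  have hM : un _ ht.qt.sq ∈ ((extAut F E).subgroupOf Γ).map ρ :=
    ⟨h.ct t, h.ct_mem t, Units.ext (by simp [val_un])⟩
  have hg : ρ γ ∈ ρ.range := ⟨γ, rfl⟩
  obtain ⟨b, hb, e1, e2⟩ := ht.exists_match (good h.h5) (ht.conj hg)
    (h.se.ne_of_conj h.h5 ht ht hM hM hg fun e => hγ (h.memM_iff.1 e))
  have hb' := conj_mem_aSp hb (inv_mem hg)
  have e3 : ∀ z : W →ₗ[ZMod p] W, (ρ γ)⁻¹.val * ((ρ γ).val * z * (ρ γ)⁻¹.val) * (ρ γ)⁻¹⁻¹.val = z := fun z => by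
    simp [mul_assoc]
  rw [e3] at hb'
  obtain ⟨t', e⟩ := h.pM (h.se.of_comm ht (aSp_qt hb') ((aSp_mul ht.qt.mem_aSp hb').trans
    (aSp_mul hb' ht.qt.mem_aSp).symm) hM) (un_pow _)
  have b0 : b ≠ 0 := fun e => ht.ne (by rw [← e1, e, mul_zero, zero_mul])
  have e4 : (ρ (γ * h.ct t' * γ⁻¹)).val = 1 + b := by simp [e, val_un, mul_add, add_mul, mul_assoc]
  refine ⟨γ, t', b, hγ, fun e => b0 ?_, b0, by simp, e4, ht.qt.sq, (aSp_qt hb).sq, e1, e2, l0, l2⟩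
  simpa [h.triv e] using e4

end MC

end Cfsg.Agent.H5.PE
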