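import Mathlib
import Cfsg.Agent.H5.PE5

/-!
# Essential subgroups with normalizer inside the two-step centralizer: the torus element
-/

set_option autoImplicit false
set_option linter.unusedSectionVars false

namespace Cfsg.Agent.H5.PE

open Cfsg Cfsg.FusionSystem Cfsg.Agent.H97 Cfsg.Agent.H98 Cfsg.Agent.H96 Cfsg.Agent.S5264 Cfsg.Agent.H5.NE
open Cfsg.Agent.H8 Cfsg.Agent.H36 Cfsg.Agent.H58 Polynomial
open scoped commutatorElement Pointwise

universe u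

variable {Ω : Type u} [Group Ω] {p : ℕ} [hp : Fact p.Prime] {S E N V B C : Subgroup Ω} {F : FusionSystem S}
  {c e i j k m m' : ℕ} {x y g a : Ω} {Γ : Subgroup (MulAut E)} {l : ZMod p}

theorem exists_gen (p : ℕ) [Fact p.Prime] : ∃ l : ZMod p, orderOf l = p - 1 := by
  obtain ⟨g, hg⟩ := IsCyclic.exists_ofOrder_eq_natCard (α := (ZMod p)ˣ)
  exact ⟨g, by rw [orderOf_units, hg, Nat.card_eq_fintype_card, ZMod.card_units]⟩

theorem gen_inj (hl : orderOf l = p - 1) (hi : i < p - 1) (hj : j < p - 1) (e : l ^ i = l ^ j) : i = j :=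
  pow_injOn_Iio_orderOf (hl ▸ hi :) (hl ▸ hj :) e

theorem gen_par (h5 : 5 ≤ p) (hl : orderOf l = p - 1) : l ^ (2 * i) ≠ l ^ (2 * j + 1) := fun e => by
  obtain ⟨M, hM⟩ := hp.out.even_sub_one (by omega)
  have h1 : ∀ i, (l ^ (2 * i)) ^ M = 1 := fun i => by
    rw [← pow_mul, show 2 * i * M = (p - 1) * i by rw [hM]; ring, pow_mul, ← hl, pow_orderOf_eq_one, one_pow]
  have := h1 i
  rw [e, pow_succ, mul_pow, h1, one_mul, ← pow_zero l] at this
  have := gen_inj hl (by omega) (by omega) this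
  omega

theorem gen_of (hl : orderOf l = p - 1) {α : ZMod p} (h0 : α ≠ 0) {a b c d : ℕ} (e1 : α ^ a = α ^ b * l ^ 2)
    (e2 : α ^ c = l ^ 3 * α ^ d) : orderOf α = p - 1 := by
  have h1 : ∀ a, (α ^ a) ^ orderOf α = 1 := fun a => by rw [← pow_mul, mul_comm, pow_mul, pow_orderOf_eq_one, one_pow]
  have h2 := congrArg (· ^ orderOf α) e1
  have h3 := congrArg (· ^ orderOf α) e2
  simp only [mul_pow, h1, one_mul, mul_one] at h2 h3
  rw [pow_succ l 2, mul_pow, ← h2, one_mul] at h3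
  exact Nat.dvd_antisymm (orderOf_dvd_of_pow_eq_one (ZMod.pow_card_sub_one_eq_one h0))
    (hl ▸ orderOf_dvd_of_pow_eq_one h3.symm)

variable {W : Type*} [AddCommGroup W] [Module (ZMod p) W] [Finite W] {π : Ω → W}

theorem exists_smul_of_ker_le {a a' : W →ₗ[ZMod p] W} {z : W} (ha : ∀ w, ∃ r : ZMod p, a w = r • z)
    (ha' : ∀ w, ∃ r : ZMod p, a' w = r • z) (hk : LinearMap.ker a ≤ LinearMap.ker a') (h0 : a ≠ 0) :
    ∃ n : ZMod p, a' = n • a := by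
  obtain ⟨v, hv⟩ : ∃ v, a v ≠ 0 := by simpa [LinearMap.ext_iff] using h0
  obtain ⟨r, hr⟩ := ha v
  obtain ⟨r', hr'⟩ := ha' v
  have r0 : r ≠ 0 := fun e => hv (by rw [hr, e, zero_smul])
  refine ⟨r' / r, LinearMap.ext fun w => ?_⟩
  obtain ⟨s, hs⟩ := ha w
  have : a' (w - (s / r) • v) = 0 := hk (by simp [hs, hr, smul_smul, r0])
  rw [map_sub, map_smul, sub_eq_zero] at this
  rw [this, LinearMap.smul_apply, hr', hs, smul_smul, smul_smul]
  congr 1; ring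

theorem Sx.eig {X : Type*} [Group X] {ι : X →* MulAut E} {ρ : X →* (W →ₗ[ZMod p] W)ˣ} (h : Sx ι B C π ρ)
    {β : MulAut S} {α : ZMod p} {u : ℕ → ZMod p} (w : Wt p β α u) {η : X} (e : ∀ y ∈ B, ext (ι η) y = ext β y)
    (hC : E ⊓ PP S (i + 1) ≤ C) (hy : y ∈ B) (hy' : y ∈ PP S i) : (ρ η).val (π y) = u i • π y := by
  rw [h.act η y hy, ← h.map_val hy, h.eq_iff (pow_mem hy _) (h.inv η y hy)]
  exact hC ⟨h.leE (B.mul_mem (B.inv_mem (B.pow_mem hy _)) (h.inv η y hy)), e y hy ▸ w.lev i y hy'⟩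

theorem Sx.exists_lift {ρ : F.autGroup E →* (W →ₗ[ZMod p] W)ˣ} (k : Sx (F.autGroup E).subtype B C π ρ)
    (hc : ⁅B, E⁆ ≤ C) : ∃ σ : OutF F E →* Module.End (ZMod p) W, ∀ α, σ (outMk F E α) = (ρ α).val :=
  ⟨QuotientGroup.lift _ ((Units.coeHom _).comp ρ) fun α hα => by simp [k.eq_one_of_inn hc hα], fun _ => rfl⟩

variable [Finite S]

/-- If the two-step centralizer is essential, its outer automorphisms are real. -/
theorem EX.real (h : EX p F (PP S 0) c) (hc : CE S e) (he : e = c + 1 ∨ e = c ∧ Kc S (c - 1) ≠ PP S 0) {A B : ℕ}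
    (h1 : B ≤ e) (h3 : B ≤ A + p) (hA : AutInv F (PP S 0) (PP S A)) (hB : AutInv F (PP S 0) (PP S B))
    (hn : ¬ ⁅PP S A, PP S 1⁆ ≤ PP S B) {δ : MulAut (PP S 0)} (hδ : δ ∈ F.autGroup (PP S 0)) :
    δ ^ p ∈ Inn (PP S 0) ∨ ∃ n ∈ F.autGroup (PP S 0), n * δ * n⁻¹ * δ ∈ Inn (PP S 0) := by
  have := h.fin
  have := finite_mulAut h.leS
  have := finite_outF F h.leS
  have hn' : ¬ ⁅PP S 0, PP S 0⁆ ≤ PP S e := fun e =>
    hn ((Subgroup.commutator_mono (PP_le0 A) (PP_le0 1)).trans (e.trans (PP_anti h1)))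
  obtain ⟨a, d, i1, i2, d2, ad, dp, c1, pw⟩ := h.small hc (Y := F.autGroup (PP S 0)) h1 (by omega) h3 hA hB hn
  let cj := cjH F h.leS (PP_normal 0)
  let φ := (outMk F _).comp cj
  have hφ : ∀ g : S, φ g = 1 ↔ g.1 ∈ PP S 0 := fun g => outMk_eq_one_iff.trans
    ⟨mem_of_conjAut_mem_inn (ess_centralizerIn_le h.ess) h.leS ⟨g.2, PP_normal 0 g.2⟩,
      fun e => mem_inn_iff.2 ⟨g, e, fun _ => ext_cjH _ _ g⟩⟩
  have hP : IsSylowIn p φ.range ⊤ := by
    have := (syl_cjH h.pg h.sat h.ess (PP_normal 0)).map (outMk F _)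
    rwa [Subgroup.map_top_of_surjective _ (QuotientGroup.mk'_surjective _), ← MonoidHom.range_comp] at this
  have hcard : Nat.card φ.range = p := by
    rw [← Subgroup.index_ker, ← h.rel0]
    congr 1
    exact Subgroup.ext hφ
  obtain ⟨s, hs⟩ := h.exists_uni
  have := finite_of_le (PP_le (S := S) a)
  obtain ⟨W, _, _, _, π, ρ, k⟩ := exists_sx (p := p) (F.autGroup (PP S 0)).subtype (PP_anti (Nat.le_add_right a d))
    (PP_le0 a) (fun α => i1 α α.2) (fun α => i2 α α.2) ((Subgroup.commutator_mono le_rfl (PP_le0 a)).trans c1) pw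
  obtain ⟨ρ', hρ⟩ := k.exists_lift c1
  obtain ⟨j, -, ej⟩ := h.eq_PP (Phi_le _) ((PP_normal 0).trans (normalizer_le_normalizer_Phi _))
  have hj : j ≤ p - 1 := by
    by_cases h4 : p ≤ c
    · obtain ⟨y, hy, hy'⟩ := h.exists_lev (i := 0) (by omega)
      have := lt_of_mem (ej.le (pow_mem_Phi h.pgE hy)) fun e => h.pow_not_mem0 h4 hy hy' (PP_le_lc p e)
      omega
    · by_contra h5
      exact hn' ((comm_le_Phi h.pgE).trans (ej.le.trans ((h.bot (by omega)).le.trans bot_le)))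
  have c2 := (comm_le_Phi h.pgE).trans ej.le
  obtain ⟨W', _, _, _, π', σ, k'⟩ := exists_sx (p := p) (C := PP S (0 + j)) (F.autGroup (PP S 0)).subtype (PP_le0 _) le_rfl
    (fun α => iv_top) (fun α => by rw [zero_add, ← ej]; exact autInv_Phi F (PP S 0) α α.2) (by rwa [zero_add])
    fun x hx => by rw [zero_add, ← ej]; exact pow_mem_Phi h.pgE hx
  obtain ⟨σ', hσ⟩ := k'.exists_lift (by rwa [zero_add])
  have key : ∀ α : F.autGroup (PP S 0), (∃ k, α.1 ^ p ^ k = 1) → ∃ k, outMk F _ α ^ p ^ k = 1 := fun α ⟨k, hk⟩ =>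
    ⟨k, by rw [← map_pow, show α ^ p ^ k = 1 from Subtype.ext hk, map_one]⟩
  refine (real_of_small hP.toSylowTop hcard (fun e => ?_) (fun g hg => ?_) ρ' ⟨_, ⟨⟨s, hs.1⟩, rfl⟩, fun e => ?_⟩ ?_ dp σ'
    ?_ (fun g hg => ?_) (outMk F _ ⟨δ, hδ⟩)).imp (fun e => ?_) fun ⟨n, e⟩ => ?_
  · have : φ.range ≤ ⊥ := ((isRadical_iff_pCore_out h.pg).1 (isRadical_of_isEssential h.pg h.ess)).2 ▸
      H96.le_pCore (hN := e) hP.isPGroup
    exact h.uni0 hs ((hφ ⟨s, hs.1⟩).1 (this ⟨_, rfl⟩))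
  · obtain ⟨α, rfl⟩ := QuotientGroup.mk'_surjective _ g
    obtain ⟨f, hf, e⟩ := exists_ext_normalizerIn h.pg h.sat h.ess.1 α.2 fun c hc => by
      obtain ⟨g, e⟩ := (mem_range_cjH h.leS (PP_normal 0) (α := ⟨c, autInducedBy_le_autGroup F h.leS le_rfl hc⟩)).2 hc
      have : (α * cj g * α⁻¹ * (cj g)⁻¹).1 ∈ Inn _ := outMk_eq_one_iff.1 (by
        simp only [map_mul, map_inv]
        rw [mul_inv_eq_one, mul_inv_eq_iff_eq_mul]; exact (hg _ ⟨g, rfl⟩).eq.symm)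
      rw [show cj g = _ from e] at this
      simpa using Subgroup.mul_mem _ (inn_le_autInducedBy h.leS this) hc
    rw [show normalizerIn S (PP S 0) = S from inf_eq_left.2 (PP_normal 0)] at hf
    obtain ⟨β, hβ, e'⟩ := hf.exists_aut
    obtain ⟨α', u, w⟩ := h.exists_wt β
    have e2 : ∀ x ∈ PP S 0, ext β x = ext α.1 x := fun x hx => (e' x (PP_le 0 hx)).trans (e x hx)
    have h4 : cj (β ⟨s, hs.1⟩) = α * cj ⟨s, hs.1⟩ * α⁻¹ := Subtype.ext (aut_ext fun x hx => by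
      rw [ext_cjH _ _ _ hx, ← ext_apply β hs.1]
      exact (ext_conj_conjAut (homOn_ext β) (PP_le 0) e2 hs.1 (PP_normal 0 hs.1) hx).symm)
    have h5 := (hφ ((⟨s, hs.1⟩ : S)⁻¹ * β ⟨s, hs.1⟩)).1 (by
      rw [map_mul, map_inv, inv_mul_eq_one]
      simp only [φ, MonoidHom.comp_apply, h4, map_mul, map_inv]
      exact eq_mul_inv_of_mul_eq (hg _ ⟨⟨s, hs.1⟩, rfl⟩).eq)
    have h6 := h.wt_top w hs.1 (h.uni0 hs) (k := 1) (by rw [pow_one, ext_apply β hs.1]; exact h5)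
    have h7 : ∀ n i, i + n = c + 1 → UniChain (PP S 0) {α.1} (PP S i) := fun n => by
      induction n with
      | zero => exact fun i hi => .base ((h.bot (by omega)).le.trans bot_le)
      | succ n ih =>
        refine fun i hi => (ih (i + 1) (by omega)).step (PP_anti i.le_succ) ?_
        rintro _ rfl x hx hx'
        have := w.lev i x hx'
        rwa [h.wt_one w hc he hn' (by simpa using h6) (by omega), ZMod.val_one, pow_one, e2 x hx] at this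
    obtain ⟨k, hk⟩ := (h7 _ 0 (zero_add _)).isPGroup h.pgE le_rfl ⟨α.1, Subgroup.subset_closure rfl⟩
    exact key α ⟨k, congrArg Subtype.val hk⟩
  · obtain ⟨y, hy, hy'⟩ := h.exists_lev (i := a) (by omega)
    have := k.eq_one_iff.1 (Units.ext ((hρ _).symm.trans e)) y hy
    rw [Subgroup.subtype_apply, ext_cjH _ _ _ (PP_le0 a hy)] at this
    exact hy' (h.un_uni hs a (by omega) y hy (PP_anti (by omega) this))
  · rintro _ ⟨g, rfl⟩
    rw [show ρ' (φ g) = _ from hρ (cj g)]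
    exact k.nil k g.2 fun y hy => ext_cjH (F := F) h.leS _ g (PP_le0 a hy)
  · rintro _ ⟨g, rfl⟩
    exact pow_eq_zero_of_le hj ((hσ _).symm ▸ k'.nil k' (α := cj g) g.2 fun y hy => ext_cjH (F := F) h.leS _ g hy)
  · obtain ⟨α, rfl⟩ := QuotientGroup.mk'_surjective _ g
    refine key α (pow_eq_one_of_triv_frattini h.pgE α.1 fun x => ?_)
    rw [← mem_Phi, ej]
    simpa using k'.eq_one_iff.1 (Units.ext ((hσ _).symm.trans hg)) x x.2
  · rw [← map_pow] at e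
    exact outMk_eq_one_iff.1 e
  · obtain ⟨n, rfl⟩ := QuotientGroup.mk'_surjective _ n
    refine ⟨n, n.2, (outMk_eq_one_iff (α := n * ⟨δ, hδ⟩ * n⁻¹ * ⟨δ, hδ⟩)).1 ?_⟩
    simp only [map_mul, map_inv]
    rw [e, inv_mul_cancel]

variable {ρ : Γ →* (W →ₗ[ZMod p] W)ˣ}

/-- An `SL₂`-pair of quadratic elements. -/
structure SL (h : MC F c k m m' a Γ V π ρ) (l : ZMod p) (t t' : normalizerIn S E) (γ : Γ) (b : W →ₗ[ZMod p] W) :
    Prop where
  ord : orderOf l = p - 1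
  gM : γ.1 ∉ extAut F E
  tE' : t'.1 ∉ E
  b0 : b ≠ 0
  sp : SP l (ρ (h.ct t)) (ρ (γ * h.ct t' * γ⁻¹)) ((ρ (h.ct t)).val - 1) b

theorem MC.exists_sl (h : MC F c k m m' a Γ V π ρ) {t : normalizerIn S E} (ht : QD ρ.range ((ρ (h.ct t)).val - 1)) :
    ∃ l t' γ b, SL h l t t' γ b := by
  obtain ⟨l, hl⟩ := exists_gen p
  have := h.h5
  obtain ⟨γ, t', b, h1, h2, h3, h4⟩ := h.exists_sp ht (l := l) (by rintro rfl; rw [orderOf_zero] at hl; omega)
    fun e => absurd (gen_inj hl (i := 2) (j := 0) (by omega) (by omega) (by simpa using e)) (by omega)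
  exact ⟨l, t', γ, b, hl, h1, h2, h3, h4⟩

theorem MC.kill (h : MC F c k m m' a Γ V π ρ) (t : normalizerIn S E) (hy : y ∈ PP S m') :
    ((ρ (h.ct t)).val - 1) (π y) = 0 :=
  (h.sub_eq t (h.UV ⟨h.UE hy, hy⟩)).2 (h.oz'.comm (conj_mem_comm hy (h.T0 t.2)))

namespace SL

variable {h : MC F c k m m' a Γ V π ρ} {t t' : normalizerIn S E} {γ : Γ} {b : W →ₗ[ZMod p] W}

/-- The torus element. -/
def eta (_ : SL h l t t' γ b) : Γ := tor l (h.ct t) (γ * h.ct t' * γ⁻¹)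

variable (s : SL h l t t' γ b)
include s

theorem rho_eta : ρ s.eta = tor l (ρ (h.ct t)) (ρ (γ * h.ct t' * γ⁻¹)) := map_tor _ _ _ _

theorem ab_ne {w : W} (hw : b w ≠ 0) : ((ρ (h.ct t)).val - 1) (b w) ≠ 0 := fun e => hw (by
  rw [← s.sp.bab, Module.End.mul_apply, Module.End.mul_apply, e, map_zero])

theorem exists_b : ∃ w, b w ≠ 0 := by simpa [LinearMap.ext_iff] using s.b0

theorem tE : t.1 ∉ E := fun e => by
  obtain ⟨w, hw⟩ := s.exists_b
  exact s.ab_ne hw (by simp [h.triv e])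

theorem tw1 : s.eta.1 ∈ extAut F E ∧ (∀ δ ∈ F.autGroup (PP S 0), (∀ x ∈ E, ext s.eta.1 x = ext δ x) →
    (t.1 ^ (l ^ 2).val)⁻¹ * ext δ t ∈ E) ∧ ((h.ct t ^ (l ^ 2).val)⁻¹ * (s.eta * h.ct t * s.eta⁻¹)).1 ∈ Inn E :=
  h.tw s.tE (s.rho_eta ▸ s.sp.conj_x)

theorem nb (hj : j < m) (hP : AutInv F (PP S 0) (PP S j)) (h1 : ⁅PP S j, PP S 0⁆ ≤ PP S m) (h2 : E ⊓ PP S j ≤ V) :
    ∃ y ∈ E ⊓ PP S j, b (π y) ≠ 0 := by
  by_contra! h3
  exact s.gM (h.mem_of_conj s.tE' (h.memM hj hP h1 h2 fun y hy => by rw [s.sp.yb]; simp [h3 y hy]))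

theorem eig_b (w : W) : (ρ s.eta).val (b w) = l⁻¹ • b w := by
  rw [s.rho_eta]; exact congrArg (· w) s.sp.tor_b.1

/-- The two-step centralizer is not essential with real outer automorphisms. -/
theorem ess_false (hr : ∀ δ ∈ F.autGroup (PP S 0), δ ^ p ∈ Inn (PP S 0) ∨
    ∃ n ∈ F.autGroup (PP S 0), n * δ * n⁻¹ * δ ∈ Inn (PP S 0)) : False := by
  have := finite_of_le (PP_le (S := S) 0)
  obtain ⟨δ, hδ, e⟩ := h.extM _ s.tw1.1
  obtain ⟨y, hy, hy'⟩ := s.nb h.lt' h.invP' h.oz'.comm h.UV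
  have hV : ∀ {y}, y ∈ PP S m' → y ∈ V := fun hy => h.UV ⟨h.UE hy, hy⟩
  have h1 : ∀ z ∈ PP S m', π (ext δ z) = (ρ s.eta).val (π z) := fun z hz => by
    rw [h.sx.act _ z (hV hz), ← e z (h.UE hz)]; rfl
  have h2 : ∀ ι ∈ Inn (PP S 0), ∀ z ∈ PP S m', π (ext ι z) = π z := fun ι hι z hz => by
    obtain ⟨g, hg, e⟩ := mem_inn_iff.1 hι
    rw [e z (PP_le0 _ hz), h.sx.eq_iff (hV hz) (hV (nconj (PP_normal _ (PP_le 0 hg)) hz)), h.CE']
    exact h.oz'.comm (conj_mem_comm hz hg)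
  have h3 := (PP S m').mul_mem ((PP S m').inv_mem hy.2) (h.invP' δ hδ y hy.2)
  have h4 : π (y⁻¹ * ext δ y) = (l - 1) • ((ρ (h.ct t)).val - 1) (b (π y)) := by
    rw [h.sx.sub (hV hy.2) (hV (h.invP' δ hδ y hy.2)), h1 y hy.2, s.rho_eta, s.sp.val_tor]
    generalize (ρ (h.ct t)).val - 1 = a₀, h.kill t hy.2 = q at *
    simp [q, sub_smul]; abel
  generalize y⁻¹ * ext δ y = z at h3 h4
  have h5 : π z ≠ 0 := h4 ▸ smul_ne_zero (sub_ne_zero.2 s.sp.l1) (s.ab_ne hy')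
  have h6 : (ρ s.eta).val (π z) = l • π z := by
    rw [h4, map_smul, s.rho_eta, smul_comm]
    exact congrArg (fun f => (l - 1) • f (b (π y))) s.sp.tor_a.1
  rcases hr δ hδ with h7 | ⟨n, hn, h7⟩
  · have : ∀ n, π (ext (δ ^ n) z) = l ^ n • π z := fun n => by
      induction n with
      | zero => simp
      | succ n ih =>
        rw [pow_succ', ext_mul, h1 _ (h.invP' _ (pow_mem hδ n) z h3), ih, map_smul, h6, smul_smul, pow_succ]
    have := (h2 _ h7 z h3).symm.trans (this p)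
    rw [ZMod.pow_card, eq_comm, ← sub_eq_zero, ← one_smul (ZMod p) (π z), smul_smul, ← sub_smul] at this
    exact smul_ne_zero (sub_ne_zero.2 (by simpa using s.sp.l1)) h5 this
  have h8 := h.invP' n hn z h3
  have h9 := h.invP' _ (Subgroup.inv_mem _ hδ) _ h8
  have h10 := h.invP' δ hδ z h3
  have h11 := h2 _ h7 _ h9
  have h12 : π (ext n (ext δ z)) = l • π (ext n z) := by
    rw [← h.sx.map_val (hV h8), h.sx.eq_iff (hV (pow_mem h8 _)) (hV (h.invP' n hn _ h10)), h.CE',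
      ← (homOn_ext n).map_pow (PP_le0 _ h3), ← (homOn_ext n).map_inv (PP_le0 _ (pow_mem h3 _)),
      ← (homOn_ext n).map_mul (PP_le0 _ (Subgroup.inv_mem _ (pow_mem h3 _))) (PP_le0 _ h10)]
    refine h.invP n hn _ (h.CE'.le ((h.sx.eq_iff (hV (pow_mem h3 _)) (hV h10)).1 ?_))
    rw [h1 z h3, h6, h.sx.map_val (hV h3)]
  simp only [ext_mul, ext_ext_inv, ext_inv_ext] at h11
  have h13 := h1 _ h9
  rw [ext_ext_inv] at h13
  have h14 := s.sp.eq_zero (h.kill t h9) (by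
    rw [← s.rho_eta, ← h13, ← h11, h12, smul_smul, inv_mul_cancel₀ s.sp.l0, one_smul])
  rw [h.sx.ker _ (hV h9), h.CE', ext_mem_iff_of_inv (h.invP _ (Subgroup.inv_mem _ hδ)),
    ext_mem_iff_of_inv (h.invP n hn)] at h14
  exact h5 ((h.sx.ker _ (hV h3)).2 (h.CE'.ge h14))

end SL

end Cfsg.Agent.H5.PE
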