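import Mathlib
import Cfsg.Agent.H5.PE6

/-!
# Essential subgroups of a `p`-group of maximal class: the classification
-/

set_option autoImplicit false
set_option linter.unusedSectionVars false

namespace Cfsg.Agent.H5.PE

open Cfsg Cfsg.FusionSystem Cfsg.Agent.H97 Cfsg.Agent.H98 Cfsg.Agent.H96 Cfsg.Agent.S5264 Cfsg.Agent.H5.NE
open Cfsg.Agent.H8 Cfsg.Agent.H36 Cfsg.Agent.H58 Polynomial
open scoped commutatorElement Pointwise

universe u

variable {Ω : Type u} [Group Ω] {p : ℕ} [hp : Fact p.Prime] {S E N V B C : Subgroup Ω} {F : FusionSystem S}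
  {c e i j k m m' : ℕ} {x y g a : Ω} {Γ : Subgroup (MulAut E)} {l : ZMod p} [Finite S]
  {W : Type*} [AddCommGroup W] [Module (ZMod p) W] [Finite W] {π : Ω → W} {ρ : Γ →* (W →ₗ[ZMod p] W)ˣ}

theorem EX.ext_top (h : EX p F E c) (hne : ¬ F.IsEssential p (PP S 0)) {δ : MulAut (PP S 0)}
    (hδ : δ ∈ F.autGroup (PP S 0)) : ∃ β : MulAut S, ∀ x ∈ PP S 0, ext δ x = ext β x :=
  let ⟨β, _, e⟩ := exists_aut_of_relIndex_dvd h.pg h.sat h.rel0.dvd hne (iso_of_mem_autGroup (PP_le 0) hδ).mor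
  ⟨β, e⟩

theorem EX.all_inv (h : EX p F E c) (hne : ¬ F.IsEssential p (PP S 0)) (j : ℕ) : AutInv F (PP S 0) (PP S j) :=
  fun δ hδ x hx => by
    obtain ⟨β, e⟩ := h.ext_top hne hδ
    rw [e x (PP_le0 _ hx)]; exact iv_PP β j x hx

theorem aeval_X_sub {H : Module.End (ZMod p) W} {w : W} {ν : ZMod p} (e : H w = ν • w) :
    aeval H (X - Polynomial.C ν) w = 0 := by simp [e, Module.algebraMap_end_apply]

namespace SL

variable {h : MC F c k m m' a Γ V π ρ} {t t' : normalizerIn S E} {γ : Γ} {b : W →ₗ[ZMod p] W} (s : SL h l t t' γ b)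
include s

theorem exists_wt (hne : ¬ F.IsEssential p (PP S 0)) : ∃ (β : MulAut S) (α : ZMod p) (u : ℕ → ZMod p),
    Wt p β α u ∧ (∀ x ∈ E, ext s.eta.1 x = ext β x) ∧ (t.1 ^ (l ^ 2).val)⁻¹ * ext β t ∈ E ∧ u (m - 1) = l := by
  obtain ⟨δ, hδ, e⟩ := h.extM _ s.tw1.1
  obtain ⟨β, e'⟩ := h.ext_top hne hδ
  obtain ⟨α, u, w⟩ := h.exists_wt β
  have e1 : ∀ x ∈ E, ext s.eta.1 x = ext β x := fun x hx => (e x hx).trans (e' x (h.E0 hx))
  have := h.m0
  have e2 : m - 1 + 1 = m := by omega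
  have h1 : ⁅PP S (m - 1), PP S 0⁆ ≤ PP S m := PP_comm' (by omega)
  have h2 := h.le_V h1 fun y hy => e2 ▸ h.pow_succ_mem hy
  obtain ⟨y, hy, hy'⟩ := s.nb (by omega) (h.all_inv hne _) h1 h2
  exact ⟨β, α, u, w, e1, e' _ (h.T0 t.2) ▸ s.tw1.2.1 δ hδ e, s.sp.eq_l hy' (s.rho_eta ▸
    h.sx.eig w (fun y hy => e1 y (h.oz.le hy)) (by rw [e2]) (h2 hy) hy.2)⟩

theorem low_false (hne : ¬ F.IsEssential p (PP S 0)) (hc : CE S e) (he : e ≤ c + 1) (hm : m ≤ e) : False := by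
  obtain ⟨β, α, u, w, e1, -, e2⟩ := s.exists_wt hne
  have km := h.km hc hm
  have h5 := h.h5
  have lev : ∀ y ∈ V, π y ≠ 0 → ∃ i j, i + j + 1 = m ∧ (∃ z ∈ E ⊓ PP S m, y * z ∈ PP S i ∧ y * z ∉ PP S (i + 1)) ∧
      j + 1 ≤ p ∧ (E ≤ PP S 1 → j + 2 ≤ p) ∧ l = α ^ j * u i ∧
        ∀ q : (ZMod p)[X], aeval (ρ s.eta).val q (π y) = 0 → q.eval (u i) = 0 := fun y hy hy' => by
    have h0 := fun e => hy' ((h.sx.ker y hy).2 e)
    obtain ⟨i, h1, -, ⟨z, hz, h2, h3⟩, h4⟩ := h.sx.root h.toMX h.V0 w (η := s.eta) (fun y hy => e1 y (h.oz.le hy)) hy h0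
    have h6 : i < m := lt_of_not_ge fun e =>
      h0 ⟨h.oz.le hy, ((PP S m).mul_mem_cancel_right hz.2).1 (PP_anti e h2)⟩
    have h7 := V.mul_mem hy (h.sx.le hz)
    have h8 : 1 ≤ i ∨ p ≤ c → m - 1 - i + 2 ≤ p := fun e => by
      by_contra h8
      have := lt_of_mem (h.mem_of_pow_mem (i := m + 1 - p) h2 e (by omega)
        (by rw [show m + 1 - p + p - 1 = m by omega]; exact (h.oz.pow h7).2)) h3
      omega
    refine ⟨i, m - 1 - i, by omega, ⟨z, hz, h2, h3⟩, by omega,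
      fun e => h8 (Or.inl (Nat.lt_succ_iff.1 (lt_of_mem (e (h.oz.le h7)) h3))), ?_, h4⟩
    rw [← h.wt_add w hc he (by omega), ← e2]; congr 1; omega
  have hα : α = 1 ∨ α = l := by
    obtain ⟨y, hy, hy'⟩ := h.exists_lev (i := m - 2) (by omega)
    have h1 := h.oz'.ge (PP_le0 _) (hc.le hm (by omega)) (fun y hy => h.pow_mem' hy (by omega) (by omega)) hy
    have h2 := h.UV ⟨h.UE h1, h1⟩
    obtain ⟨i, j, h3, ⟨z, hz, h4, h6⟩, -, -, h7, h8⟩ := lev y h2 fun e =>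
      hy' (PP_anti (by omega) ((h.sx.ker y h2).1 e).2)
    have := lt_of_mem (mul_mem hy (PP_anti (by omega) hz.2)) h6
    have := lt_of_mem h4 fun e => hy' (((PP S _).mul_mem_cancel_right (PP_anti (by omega) hz.2)).1 e)
    obtain rfl : j = 1 := by omega
    have := h8 _ (s.rho_eta ▸ s.sp.quad (h.kill t h1))
    simp only [eval_mul, eval_sub, eval_X, eval_C, mul_eq_zero, sub_eq_zero] at this
    exact this.imp (fun e => (mul_eq_right₀ s.sp.l0).1 (by rw [e, pow_one] at h7; exact h7.symm))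
      fun e => by simpa [e] using h7.symm
  obtain ⟨w₀, hw⟩ := s.exists_b
  obtain ⟨y₀, hy₀, e0⟩ := h.sx.surj (b w₀)
  obtain ⟨i, j, h1, ⟨z, hz, h2, -⟩, h3, -, h4, h6⟩ := lev y₀ hy₀ (e0 ▸ hw)
  have h7 := h6 _ (aeval_X_sub (e0 ▸ s.eig_b w₀))
  simp only [eval_sub, eval_X, eval_C, sub_eq_zero] at h7
  rw [h7, eq_mul_inv_iff_mul_eq₀ s.sp.l0, ← sq] at h4
  rcases hα with rfl | rfl
  · exact s.sp.l2 (by simpa using h4)
  obtain rfl : 2 = j := gen_inj s.ord (by omega) (lt_of_le_of_ne (by omega) fun e => s.sp.l2 (by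
    rw [h4, e, ← s.ord, pow_orderOf_eq_one])) h4
  have c1 : ⁅PP S (m - 3), PP S 1⁆ ≤ PP S m := h.comm_le hc hm (by omega)
  obtain ⟨z', hz', i', -, h8, -, h9⟩ := h.exists_rep (h.T0 t.2) s.tE
  rcases i'.eq_zero_or_pos with rfl | h0
  · have hE : E ≤ PP S 1 := (le_inf le_rfl h.E0).trans h9
    refine h.na (fun y hy => ?_) (by omega) c1
    by_cases e : π y = 0
    · exact PP_anti (by omega) ((h.sx.ker y hy).1 e).2
    obtain ⟨i, j, h1, ⟨z, hz, h2, -⟩, -, h3, h4, h6⟩ := lev y hy e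
    have h7 := h6 _ (s.rho_eta ▸ s.sp.cubic _)
    have := h3 hE
    simp only [eval_mul, eval_sub, eval_X, eval_C, mul_eq_zero, sub_eq_zero] at h7
    have : j ≤ 2 := by
      rcases h7 with (e | e) | e <;> rw [e] at h4
      · exact (gen_inj s.ord (j := 0) (by omega) (by omega) (by simpa using (mul_eq_right₀ s.sp.l0).1 h4.symm)).le.trans
          (by omega)
      · exact (gen_inj s.ord (j := 1) (by omega) (by omega) (by simpa using h4.symm)).le.trans (by omega)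
      · exact (gen_inj s.ord (j := 2) (by omega) (by omega) (by
          rw [eq_mul_inv_iff_mul_eq₀ s.sp.l0, ← sq] at h4; exact h4.symm)).le
    exact ((PP S _).mul_mem_cancel_right (PP_anti (by omega) hz.2)).1 (PP_anti (by omega) h2)
  have h10 := V.mul_mem hy₀ (h.sx.le hz)
  have := (h.sub_eq (t * ⟨z', le_normalizerIn h.leS hz'⟩) h10).2
    (c1 (conj_mem_comm (PP_anti (by omega) h2) (PP_anti h0 h8)))
  rw [map_mul, map_mul, h.triv (t := ⟨z', _⟩) hz', mul_one, (h.sx.eq_iff hy₀ h10).2 (by simpa using hz), e0] at this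
  exact s.ab_ne hw this

end SL

namespace MC

variable (h : MC F c k (c + 1) m' a Γ V π ρ) (hx : Kc S (c - 1) ≠ PP S 0) {t : normalizerIn S E} {f : ℕ}
include h

theorem eq_one' (hy : y ∈ E ⊓ PP S (c + 1)) : y = 1 := h.eq_one le_rfl hy.2

theorem ZV : PP S c ≤ V := (le_inf h.ZE le_rfl).trans (h.le_V (PP_comm' le_rfl) fun _ => h.pow_succ_mem)

theorem rk1 (ht : ∀ y ∈ V, y⁻¹ * (t * y * (t : Ω)⁻¹) ∈ PP S c) {z : Ω} (hz : z ∈ PP S c) (hz' : z ∉ PP S (c + 1))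
    (w : W) : ∃ r : ZMod p, ((ρ (h.ct t)).val - 1) w = r • π z := by
  obtain ⟨y, hy, rfl⟩ := h.sx.surj w
  obtain ⟨n, hn⟩ := h.exists_pow hz hz' (ht y hy)
  exact ⟨n, by rw [h.sub t hy, ← inv_mul_eq_one.1 (h.eq_one le_rfl hn), h.sx.map_pow (h.ZV hz)]⟩

theorem mul_zero' (ht : ∀ y ∈ V, y⁻¹ * (t * y * (t : Ω)⁻¹) ∈ PP S c) (t' : normalizerIn S E) :
    ((ρ (h.ct t')).val - 1) * ((ρ (h.ct t)).val - 1) = 0 := LinearMap.ext fun w => by
  obtain ⟨y, hy, rfl⟩ := h.sx.surj w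
  rw [Module.End.mul_apply, h.sub t hy]
  exact (h.sub_eq t' (h.ZV (ht y hy))).2 (PP_conj t'.2.1 (ht y hy))

theorem qd1 (ht : ∀ y ∈ V, y⁻¹ * (t * y * (t : Ω)⁻¹) ∈ PP S c) (ht' : t.1 ∉ E) :
    QD ρ.range ((ρ (h.ct t)).val - 1) := by
  obtain ⟨z, hz, hz'⟩ := h.exists_lev (le_refl c)
  refine ⟨qt_of_quad ⟨_, rfl⟩ (h.mul_zero' ht t), fun e => ht' (h.faith (Units.ext (sub_eq_zero.1 e))),
    fun b _ hb => le_trans ?_ (Nat.pos_of_ne_zero fun e => hb ?_)⟩
  · refine (Submodule.finrank_mono (t := Submodule.span _ {π z}) ?_).trans (by simpa using finrank_span_le_card {π z})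
    rintro _ ⟨w, rfl⟩
    obtain ⟨r, hr⟩ := h.rk1 ht hz hz' w
    exact Submodule.mem_span_singleton.2 ⟨r, hr.symm⟩
  · exact LinearMap.range_eq_bot.1 (Submodule.finrank_eq_zero.1 e)

include hx

theorem V_f (hf : f + (k + 2) = c) : V ≤ PP S f := fun y hy => by
  by_contra hy'
  obtain ⟨i, -, h1, h2, h3⟩ := exists_lev_of (h.V0 hy) hy'
  obtain ⟨x, h4, h5⟩ := h.exists_lev (i := c - 1 - i) (by omega)
  exact h.nondeg' hx (by omega) h2 h3 h4 h5
    (h.eq_one' (h.oz.comm (Subgroup.commutator_mem_commutator hy (h.kE (PP_anti (by omega) h4)))))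

theorem a_top (hy : y ∈ V) : y⁻¹ * (a * y * a⁻¹) ∈ PP S c := by
  have := h.kc
  exact PP_comm' (by omega) (conj_mem_comm (h.V_f hx (f := c - (k + 2)) (by omega) hy) h.a1)

theorem levE (hf : f + (k + 2) = c) (hi : i ≤ k) (h1 : PP S i ≤ normalizerIn S E) (h2 : ⁅PP S f, PP S i⁆ ≤ PP S c) :
    ∃ y ∈ E, y ∈ PP S i ∧ y ∉ PP S (i + 1) := by
  obtain ⟨g, hg, hg'⟩ := h.exists_lev (i := i) (by omega)
  by_cases e : g ∈ E
  · exact ⟨g, e, hg, hg'⟩
  obtain ⟨z, hz, hz'⟩ := h.exists_lev (le_refl c)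
  have h3 : ∀ y ∈ V, y⁻¹ * ((⟨g, h1 hg⟩ : normalizerIn S E) * y * g⁻¹) ∈ PP S c :=
    fun y hy => h2 (conj_mem_comm (h.V_f hx hf hy) hg)
  have h4 : ∀ y ∈ V, y⁻¹ * ((⟨a, h.aT⟩ : normalizerIn S E) * y * a⁻¹) ∈ PP S c := fun y => h.a_top hx
  have q1 := h.qd1 h4 h.aE
  obtain ⟨n, hn⟩ := exists_smul_of_ker_le (h.rk1 h4 hz hz') (h.rk1 h3 hz hz') (h.se.u0 h.h5 _ _ q1 (h.qd1 h3 e)
    ((h.mul_zero' h3 _).trans (h.mul_zero' h4 _).symm)).2.2.1 q1.ne
  have h5 := h.faith (t := (⟨a, h.aT⟩ ^ n.val)⁻¹ * ⟨g, h1 hg⟩) (by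
    rw [map_mul, map_mul, map_inv, map_inv, map_pow, map_pow, inv_mul_eq_one]
    exact Units.ext (by rw [val_pow_quad q1.qt.sq, ZMod.natCast_zmod_val, ← hn, add_sub_cancel]))
  have h6 := (PP S (i + 1)).inv_mem (pow_mem (PP_anti (by omega) h.a1) n.val)
  exact ⟨_, h5, mul_mem (PP_anti i.le_succ h6) hg, fun e => hg' (((PP S _).mul_mem_cancel_left h6).1 e)⟩

theorem invZ : AutInv F (PP S 0) (PP S c) := by
  have h1 := h.lt'
  have h2 : c ≤ m' := le_of_not_gt fun e => h.nondeg hx (i := 0) (j := c - 1) (by omega)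
    ((Subgroup.commutator_mono (PP_anti (by omega)) le_rfl).trans (h.oz'.comm.trans (h.bot le_rfl).le))
  exact (show m' = c by omega) ▸ h.invP'

theorem not_comm : ¬ ⁅PP S 0, PP S 1⁆ ≤ PP S c := fun e => by
  have := h.fin
  have kc := h.kc
  have c4 := (h.exc hx).2.1
  have c1 := comm_le_of_relIndex_dvd ((PP_le 0).trans (PP_normal c)) (PP_le0 1) (h.rel_dvd 0) (comm_le_symm e)
  have c2 : ∀ i j, ⁅PP S i, PP S j⁆ ≤ PP S c := fun i j => (Subgroup.commutator_mono (PP_le0 i) (PP_le0 j)).trans c1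
  have c3 := (Subgroup.commutator_mono h.E0 h.E0).trans c1
  have h1 : ∀ i ≤ c, i ≠ k + 1 → ∃ y ∈ E, y ∈ PP S i ∧ y ∉ PP S (i + 1) := fun i h1 h2 => by
    by_cases h3 : i ≤ k
    · exact h.levE hx (f := c - (k + 2)) (by omega) h3 (le_inf (PP_le i) (le_norm
        (((Subgroup.commutator_mono h.E0 (PP_le0 i)).trans c1).trans h.ZE))) (c2 _ _)
    · obtain ⟨y, hy, hy'⟩ := h.exists_lev h1
      exact ⟨y, h.kE (PP_anti (by omega) hy), hy, hy'⟩
  obtain ⟨i, j, h2, h3, h4⟩ : ∃ i j, i + j + 1 = c ∧ i ≠ k + 1 ∧ j ≠ k + 1 := by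
    by_cases h2 : k + 2 = c
    · exact ⟨1, c - 2, by omega, by omega, by omega⟩
    · exact ⟨0, c - 1, by omega, by omega, by omega⟩
  obtain ⟨x, x1, x2, x3⟩ := h1 i (by omega) h3
  obtain ⟨y, y1, y2, y3⟩ := h1 j (by omega) h4
  have h5 := eq_of_relIndex_dvd_of_gt bot_le c3 (fun e => h.nondeg' hx h2 x2 x3 y2 y3
    (e (Subgroup.commutator_mem_commutator x1 y1))) (by simpa [h.bot le_rfl] using h.rel_dvd c)
  refine h.desc c c.lt_succ_self (h.invZ hx) (PP_comm' le_rfl) fun α hα => ?_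
  rw [inf_eq_right.2 h.ZE, ← h5]
  exact (autInv_self F E).commutator (autInv_self F E) le_rfl le_rfl α (h.GA hα)

end MC

theorem SL.top_false {h : MC F c k (c + 1) m' a Γ V π ρ} {t' : normalizerIn S E} {γ : Γ} {b : W →ₗ[ZMod p] W}
    (s : SL h l ⟨a, h.aT⟩ t' γ b) (hx : Kc S (c - 1) ≠ PP S 0) (hne : ¬ F.IsEssential p (PP S 0)) : False := by
  have := h.fin
  have h5 := h.h5
  obtain ⟨-, c4, c5⟩ := h.exc hx
  obtain ⟨β, α, u, w, e1, e2, e3⟩ := s.exists_wt hne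
  obtain ⟨f, hf⟩ : ∃ f, f + (k + 2) = c := ⟨c - (k + 2), by have := h.kc; omega⟩
  have l0 := s.sp.l0
  have u1 : u (k + 1) = l ^ 2 := (h.wt_eq w h.a1 h.a2 (h.kE' ⟨e2, mul_mem ((PP S _).inv_mem (pow_mem h.a1 _))
    (iv_PP β _ a h.a1)⟩)).trans (ZMod.natCast_zmod_val _)
  have u2 : u f = l⁻¹ := by
    have := (h.wt_exc w hx (i := f) (j := k + 1) hf).symm.trans e3
    rw [u1] at this
    field_simp
    exact mul_left_cancel₀ l0 (by linear_combination this)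
  have hw : ∀ i, i + 1 ≤ c → u i = α ^ i * u 0 := fun i hi => by
    simpa using h.wt_add w h.ce (by omega) (i := 0) (j := i) (by omega)
  have u0 := h.wt_ne w (i := 0) (by omega)
  have rel : α ^ (k + 1) = l ^ 3 * α ^ f := by
    have h1 := (hw (k + 1) (by omega)).symm.trans u1
    have h2 := (hw f (by omega)).symm.trans u2
    refine mul_right_cancel₀ u0 ?_
    rw [h1, mul_assoc, h2]; field_simp
  obtain ⟨z, hz, hz1⟩ := s.nb c.lt_succ_self (h.invZ hx) (PP_comm' le_rfl) (inf_le_right.trans h.ZV)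
  obtain ⟨z', hz', ez⟩ := h.sx.surj (b (π z))
  have zf := h.V_f hx hf hz'
  have zf' : z' ∉ PP S (f + 1) := fun e => s.ab_ne hz1 (ez ▸ (h.sub_eq _ hz').2
    (PP_comm' (by omega) (conj_mem_comm e h.a1)))
  have zE := h.oz.le hz'
  have inj : ∀ {x y}, x ∈ V → y ∈ V → π y = π x → x = y := fun hx hy e =>
    inv_mul_eq_one.1 (h.eq_one' ((h.sx.eq_iff hx hy).1 e))
  set β₀ := γ * h.ct t' * γ⁻¹ with hβ₀
  let X : Set (MulAut E) := insert (h.ct ⟨a, h.aT⟩).1 (insert β₀.1 (Inn E))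
  let C : ℕ → Subgroup Ω := fun i => E ⊓ PP S i ⊔ Subgroup.zpowers z'
  have zC : ∀ i, z' ∈ C i := fun i => Subgroup.mem_sup_right (Subgroup.mem_zpowers _)
  have CE : ∀ i, C i ≤ E := fun i => sup_le inf_le_left (Subgroup.zpowers_le.2 zE)
  have n1 : ∀ i, E ≤ Subgroup.normalizer (E ⊓ PP S i : Subgroup Ω) := fun i =>
    H4.le_normalizer_inf Subgroup.le_normalizer (h.leS.trans (PP_normal i))
  have c0 : ⁅V, E⁆ ≤ ⊥ := fun x hx => h.eq_one' (h.oz.comm hx)
  have nC : ∀ i, E ≤ Subgroup.normalizer (C i : Set Ω) := fun i => by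
    have := finite_of_le (Subgroup.zpowers_le.2 zE)
    exact H4.le_normalizer_sup (n1 i) (le_norm (((Subgroup.commutator_mono (Subgroup.zpowers_le.2 hz') le_rfl).trans
      c0).trans bot_le))
  have ivC : ∀ i (δ : MulAut E), (∀ y ∈ E ⊓ PP S i, ext δ y ∈ C i) → ext δ z' ∈ C i → Iv δ (C i) := fun i δ h1 h2 =>
    HomOn.mem_of_sup ((homOn_ext δ).mono (CE i)) h1 (by
      rintro _ ⟨n, rfl⟩
      exact (homOn_ext δ).map_zpow zE n ▸ zpow_mem h2 n)
  have gx : (h.ct ⟨a, h.aT⟩).1 ∈ Subgroup.closure X := Subgroup.subset_closure (Or.inl rfl)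
  have gy : β₀.1 ∈ Subgroup.closure X := Subgroup.subset_closure (Or.inr (Or.inl rfl))
  have eη : s.eta.1 = tor l (h.ct ⟨a, h.aT⟩).1 β₀.1 := map_tor Γ.subtype _ _ _
  have gη : s.eta.1 ∈ Subgroup.closure X := eη ▸ tor_mem l gx gy
  have pE : ∀ t : normalizerIn S E, (h.ct t).1 ^ p ∈ Inn E := fun t => by
    simpa using h.ct_inn (t := t ^ p) (h.ZE ((PP_pos (by omega)).ge (h.pow_mem c5 le_rfl t.2.1)))
  have step : ∀ i, i + 1 ≤ c → Inv X (C (i + 1)) → ∀ δ ∈ Subgroup.closure X, ∀ y ∈ E ⊓ PP S i,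
      y⁻¹ * ext δ y ∈ C (i + 1) := fun i hi hC δ hδ y hy => by
    obtain ⟨O, hO⟩ := exists_oz p (nC (i + 1))
    obtain ⟨W', _, _, _, π', ρ', q⟩ := hO.exists_sx (Subgroup.closure X).subtype (CE _) (nC _)
      fun δ => hC.closure δ.1 δ.2
    have h1 : E ⊓ PP S (i + 1) ≤ C (i + 1) := le_sup_left
    have h2 : y ∈ O := hO.ge inf_le_left ((le_inf ((Subgroup.commutator_mono inf_le_left le_rfl).trans
      (commutator_self_le E)) ((Subgroup.commutator_mono inf_le_right h.leS).trans (PP_commS i))).trans h1)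
      (fun y hy => h1 ⟨pow_mem hy.1 p, h.pow_succ_mem hy.2⟩) hy
    have inn : ∀ A B : Subgroup.closure X, A.1⁻¹ * B.1 ∈ Inn E → ρ' B = ρ' A := fun A B e => by
      rw [eq_comm, ← inv_mul_eq_one, ← map_inv, ← map_mul]; exact q.eq_one_of_inn hO.comm e
    have h3 : (ρ' ⟨_, gx⟩).val (π' y) = π' y := (q.fix_iff h2).2 (by
      rw [Subgroup.subtype_apply, h.ext_ct _ hy.1]; exact h1 ⟨nmem h.aT.2 hy.1, PP_conj h.aT.1 hy.2⟩)
    have e4 : ∀ y ∈ O, ext ((Subgroup.closure X).subtype ⟨_, gη⟩) y = ext β y := fun y hy => e1 y (hO.le hy)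
    have ev : ∀ ν, Ev (ρ' ⟨_, gη⟩).val ν → ∃ j, j + 1 ≤ c ∧ j ≠ f ∧ j ≠ k + 1 ∧ α ^ j * u 0 = ν := by
      rintro ν ⟨v, hv, e⟩
      obtain ⟨x, hx, rfl⟩ := q.surj v
      obtain ⟨j, h4, h6, ⟨x', h7, h8, h9⟩, h10⟩ := q.root h.toMX (hO.le.trans h.E0) w e4 hx
        fun e => hv ((q.ker x hx).2 e)
      have h11 : j ≠ c := fun e => h.not_le le_rfl c.lt_succ_self (e ▸ (le_inf (e ▸
        (le_inf h.ZE (PP_anti hi)).trans h1) le_rfl).trans h6)
      refine ⟨j, by omega, fun e => zf' (e ▸ h6 ⟨zC _, e ▸ zf⟩),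
        fun e => h9 (e ▸ h.kE' ⟨E.mul_mem (hO.le hx) (CE _ h7), e ▸ h8⟩), ?_⟩
      rw [← hw j (by omega)]
      simpa [sub_eq_zero] using h10 _ (aeval_X_sub e)
    have h4 : (ρ' ⟨_, gy⟩).val (π' y) = π' y := by
      by_contra h4
      obtain ⟨h6, h7⟩ := sl2_weights h5 s.ord (x := ρ' ⟨_, gx⟩) (y := ρ' ⟨_, gy⟩) (h := ρ' ⟨_, gη⟩)
        (by rw [← map_pow]; exact q.eq_one_of_inn hO.comm (pE _))
        (by rw [← map_pow]; exact q.eq_one_of_inn hO.comm (by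
          simpa [hβ₀] using (innNormal E).conj_mem _ (pE t') γ.1))
        (by rw [upow, ← map_pow, ← map_inv, ← map_mul, ← map_mul]; exact inn _ _ s.tw1.2.2)
        (by
          rw [upow, ← map_pow, ← map_inv, ← map_mul, ← map_mul]
          have := (h.tw (μ := γ⁻¹ * s.eta * γ) (n := ((l ^ 2)⁻¹).val) s.tE' (by
            have := s.rho_eta ▸ s.sp.conj_y
            simp only [map_mul, map_inv, upow, conj_pow] at this ⊢
            rw [← mul_right_inj (ρ γ), ← mul_left_inj (ρ γ)⁻¹, ← this]; group)).2.2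
          refine inn _ _ ?_
          convert (innNormal E).conj_mem _ this γ.1 using 1
          simp only [hβ₀, Subgroup.coe_mul, Subgroup.coe_inv, SubgroupClass.coe_pow, conj_pow]; group)
        (by
          rw [show (⟨_, gη⟩ : Subgroup.closure X) = tor l ⟨_, gx⟩ ⟨_, gy⟩ from
            Subtype.ext (eη.trans (map_tor (Subgroup.closure X).subtype l ⟨_, gx⟩ ⟨_, gy⟩).symm), map_tor, tor,
            mul_inv_cancel_left])
        h3 (q.eig w e4 h1 h2 hy.2) h4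
      obtain ⟨j, j1, -, -, j2⟩ := ev _ h6
      have ho := gen_of s.ord (h.wt_ne0 w) (a := i) (b := j) (mul_right_cancel₀ u0 (by
        rw [mul_right_comm, j2, ← hw i hi]; field_simp)) rel
      rcases h7 with h7 | h7 <;> obtain ⟨j, j1, j3, j4, j2⟩ := ev _ h7
      · exact j4 (gen_inj ho (by omega) (by omega) (mul_right_cancel₀ u0 (by rw [j2, ← hw _ (by omega), u1])))
      · exact j3 (gen_inj ho (by omega) (by omega) (mul_right_cancel₀ u0 (by rw [j2, ← hw _ (by omega), u2])))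
    refine (q.fix_iff (α := ⟨δ, hδ⟩) h2).1 ?_
    induction hδ using Subgroup.closure_induction with
    | mem δ hδ =>
      rcases hδ with rfl | rfl | hδ
      · exact h3
      · exact h4
      · rw [q.eq_one_of_inn hO.comm hδ]; rfl
    | one => exact congrArg (fun g : (W' →ₗ[ZMod p] W')ˣ => g.val (π' y)) ρ'.map_one
    | mul a b ha hb h6 h7 =>
      exact (congrArg (fun g : (W' →ₗ[ZMod p] W')ˣ => g.val (π' y)) (ρ'.map_mul ⟨a, ha⟩ ⟨b, hb⟩)).trans (by simp [h6, h7])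
    | inv a ha h6 =>
      refine (congrArg (fun g : (W' →ₗ[ZMod p] W')ˣ => g.val (π' y)) (ρ'.map_inv ⟨a, ha⟩)).trans ?_
      simpa [h6] using inv_app (ρ' ⟨a, ha⟩) (π' y)
  have anti : ∀ i, C (i + 1) ≤ C i := fun i => sup_le_sup_right (inf_le_inf_left _ (PP_anti i.le_succ)) _
  have inv : ∀ n i, i + n = c → Inv X (C i) := fun n => by
    induction n with
    | succ n ih =>
      intro i hi δ hδ
      have h1 := ih (i + 1) (by omega)
      exact ivC i δ (fun y hy => by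
        simpa using (C i).mul_mem (Subgroup.mem_sup_left hy) (anti i (step i (by omega) h1 δ
          (Subgroup.subset_closure hδ) y hy))) (anti i (h1 δ hδ _ (zC _)))
    | zero =>
      rintro i rfl _ (rfl | rfl | hδ)
      · refine ivC _ _ (fun y hy => ?_) ?_
        · rw [h.ext_ct _ hy.1, h.Z_conj h.aT.1 hy.2]; exact Subgroup.mem_sup_left hy
        · rw [h.ext_ct _ zE]
          simpa using (C i).mul_mem (zC i) (Subgroup.mem_sup_left ⟨nmem h.aT.2 zE, h.a_top hx hz'⟩)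
      · have h1 : ∀ y ∈ V, π (ext β₀.1 y) = π y + b (π y) := fun y hy => by
          rw [← Γ.subtype_apply, ← h.sx.act β₀ y hy, s.sp.yb]; rfl
        refine ivC _ _ (fun y hy => ?_) ?_
        · obtain ⟨n, hn⟩ := h.exists_pow hz.2 (fun e => hz1 (by rw [h.eq_one le_rfl e, h.sx.map_one, map_zero])) hy.2
          rw [← inv_mul_eq_one.1 (h.eq_one le_rfl hn), (homOn_ext _).map_pow hz.1,
            ← inj (y := ext β₀.1 z) (V.mul_mem (h.ZV hz.2) hz') (h.sx.inv β₀ z (h.ZV hz.2)) (by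
              rw [h.sx.add _ (h.ZV hz.2) _ hz', ez]; exact h1 z (h.ZV hz.2))]
          exact pow_mem (mul_mem (Subgroup.mem_sup_left hz) (zC _)) n
        · rw [← inj (y := ext β₀.1 z') hz' (h.sx.inv β₀ z' hz') ((h1 z' hz').trans (by
            rw [ez, ← Module.End.mul_apply, s.sp.bb]; simp))]
          exact zC _
      · obtain ⟨g, hg, e⟩ := mem_inn_iff.1 hδ
        exact fun y hy => e y (CE _ hy) ▸ nconj (nC _ hg) hy
  have one : ∀ i, i + 1 ≤ c → i ≠ f → ∀ y ∈ E, y ∈ PP S i → y ∉ PP S (i + 1) → u i = 1 := fun i hi h1 y h2 h3 h4 => by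
    have h6 := step i hi (inv (c - (i + 1)) _ (by omega)) _ gη y ⟨h2, h3⟩
    rw [e1 y h2] at h6
    have h7 : C (i + 1) ⊓ PP S i ≤ PP S (i + 1) := by
      rcases eq_or_eq_of_relIndex_dvd (le_inf le_sup_left (inf_le_right.trans (PP_anti i.le_succ))) inf_le_left
        (relIndex_sup_zpowers_dvd (n1 (i + 1) zE) (h.eq_one' (h.oz.pow hz') ▸ one_mem _)) with e | e
      · exact e.le.trans inf_le_right
      · have := lt_of_mem (e.ge (zC _)).2 zf'
        exact inf_le_left.trans (sup_le inf_le_right (Subgroup.zpowers_le.2 (PP_anti (by omega) zf)))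
    simpa using h.wt_eq w h3 h4 (k := 1) (by
      rw [pow_one]; exact h7 ⟨h6, mul_mem ((PP S i).inv_mem h3) (iv_PP β i y h3)⟩)
  by_cases e : k = f
  · subst e
    obtain ⟨y, hy, hy'⟩ := h.exists_lev (i := k + 2) (by omega)
    have h1 := h.wt_step w h.ce (by omega) (i := k + 1) (by omega)
    rw [one _ (by omega) (by omega) y (h.kE hy) hy hy', u1, mul_left_cancel₀ (pow_ne_zero k (h.wt_ne0 w))
      ((pow_succ α k).symm.trans (rel.trans (mul_comm _ _))), ← pow_add] at h1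
    exact gen_par (i := 0) (j := 2) h5 s.ord (by simpa using h1)
  · obtain ⟨y, h1, h2, h3⟩ := h.levE hx hf le_rfl (le_inf (PP_le k) (le_norm (((Subgroup.commutator_mono h.E0
      le_rfl).trans (comm_le_symm (h.ce k (by omega)))).trans h.kE))) (h.comm_le h.ce le_rfl (by omega))
    have h4 := h.wt_step w h.ce (by omega) (i := k) (by omega)
    rw [one _ (by omega) e y h1 h2 h3, u1, mul_one] at h4
    exact gen_par (i := k + 1) (j := f + 1) h5 s.ord (by rw [pow_mul, h4, rel, ← h4]; ring)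

theorem MC.low_false (h : MC F c k m m' a Γ V π ρ) (hc : CE S e) (he : e = c + 1 ∨ e = c ∧ Kc S (c - 1) ≠ PP S 0)
    (hm : m ≤ e) : False := by
  obtain ⟨t, ht⟩ := h.exists_qd
  obtain ⟨l, t', γ, b, s⟩ := h.exists_sl ht
  by_cases h1 : F.IsEssential p (PP S 0)
  swap
  · exact s.low_false h1 hc (by omega) hm
  refine s.ess_false fun δ hδ => ?_
  by_cases h2 : m ≤ p
  · exact (h.of h1).real hc he hm (A := 0) (by omega) (autInv_self F _) h.invP (h.na h.V0 (by omega)) hδ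
  have h3 : p ≤ c := by have := h.mc; omega
  refine (h.of h1).real hc he hm (A := m + 1 - p) (by omega) (fun α hα => ?_) h.invP
    (h.na (h.V_le h.V0 (Or.inr h3)) (by omega)) hδ
  have := h.layer h3 h.mc le_rfl (α := α) (by rw [inf_eq_right.2 (PP_le0 m)]; exact h.invP α hα)
  rwa [inf_eq_right.2 (PP_le0 _)] at this

theorem MC.false (h : MC F c k m m' a Γ V π ρ) : False := by
  by_cases hx : Kc S (c - 1) = PP S 0
  · exact h.low_false (h.ce_nx hx) (Or.inl rfl) h.mc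
  rcases h.mc.eq_or_lt with rfl | hm
  swap
  · exact h.low_false h.ce (Or.inr ⟨rfl, hx⟩) (by omega)
  obtain ⟨l, t', γ, b, s⟩ := h.exists_sl (h.qd1 (t := ⟨a, h.aT⟩) (fun y => h.a_top hx) h.aE)
  by_cases h1 : F.IsEssential p (PP S 0)
  · exact s.ess_false fun δ => (h.of h1).real h.ce (Or.inr ⟨rfl, hx⟩) le_rfl (A := 0)
      (by have := h.exc hx; omega) (autInv_self F _) (h.invZ hx) (h.not_comm hx)
  · exact s.top_false hx h1

/-- The essential subgroups of a group of maximal class. -/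
theorem MX.tri (h : MX p S c) (hF : F.IsSaturated p) (hE : F.IsEssential p E) : Tri S E c := by
  refine induction_down (fun E => F.IsEssential p E → Tri S E c) (fun E _ ih hE => ?_) E (ess_le hE) hE
  have k : EX p F E c := ⟨h, hF, hE⟩
  have ih' : IH p F E c := fun E' h1 h2 => ih E' (ess_le h1) h2 h1
  by_cases h1 : ∃ x ∈ E, MxC.Uni S c x
  · exact Or.inl h1
  refine Or.inr ?_
  by_cases h3 : p ≤ 3
  · refine Or.inl (k.small_p h3 ?_)
    by_contra h2
    refine h1 (h.exists_uni_of k.leS h2 fun e => h2 (e.trans (le_of_eq ?_)))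
    by_contra hx
    have := h.exc hx
    omega
  have h5 : 5 ≤ p := hp.out.five_le_of_ne_two_of_ne_three (by omega) (by omega)
  by_cases h2 : normalizerIn S E ≤ PP S 0
  · refine Or.inl (by_contra fun h4 => ?_)
    obtain ⟨_, _, _, _, _, _, _, _, _, _, _, _, k'⟩ := k.exists_mc ih' h5 h2 h4
    exact k'.false
  by_cases h4 : normalizerIn S E ≤ Kc S (c - 1)
  · exact Or.inr (k.case_Q ih' h4 h2)
  obtain ⟨x, hx, hu⟩ := h.exists_uni_of H97.normalizerIn_le h2 h4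
  exact k.case_uni (fun x h6 h7 => h1 ⟨x, h6, h7⟩) h5 hx hu

end Cfsg.Agent.H5.PE
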