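import Mathlib
import Cfsg.Agent.H5.Sp4Syl

/-!
# Fusion systems on `p`-groups of sectional rank three: normal essential subgroups
-/

set_option autoImplicit false

namespace Cfsg.Agent.H5

open Cfsg Cfsg.FusionSystem Cfsg.Agent.H97 Cfsg.Agent.H98 Cfsg.Agent.H96 Cfsg.Agent.S5264
open scoped commutatorElement

variable {Ω : Type*} [Group Ω] {p : ℕ} {S : Subgroup Ω} {F : FusionSystem S} {N E E₁ E₂ : Subgroup Ω}
  [Finite S] [hp : Fact p.Prime] (hS : IsPGroup p S)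
include hS

theorem ext_mem_Phi_img (hE : E ≤ S) (β : MulAut S) {x : Ω} (hx : x ∈ Phi E) : ext β x ∈ Phi (img E (ext β)) := by
  have h1 := img_ext_le hE β
  have := finite_of_le hE
  have := finite_of_le h1
  have k : ∀ y, ext β y ∈ Phi (img E (ext β)) → y ∈ img (Phi (img E (ext β))) (ext β⁻¹) := fun y hy =>
    (mem_img_ext_iff ((Phi_le _).trans h1) _).2 (by rwa [inv_inv])
  simpa using (mem_img_ext_iff ((Phi_le _).trans h1) _).1 (Phi_le_of' (p := p) (Subgroup.commutator_le.2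
    fun a ha b hb => k _ (by
      rw [homOn_comm (homOn_ext β) (hE ha) (hE hb)]
      exact comm_mem_Phi (hS.to_le h1) (mem_img_of_mem _ ha) (mem_img_of_mem _ hb))) (fun a ha => k _ (by
      rw [(homOn_ext β).map_pow (hE ha)]
      exact pow_mem_Phi (hS.to_le h1) (mem_img_of_mem _ ha))) hx)

omit hS [Finite S] in
theorem ne_bot_of_not_sectional (h : ¬ SectionalPRankLE p 2 S) : S ≠ ⊥ := by
  rintro rfl
  exact h fun H N _ A _ _ => (Nat.card_unique (α := A)).trans_le (Nat.one_le_pow _ _ hp.out.pos)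

variable (hF : F.IsSaturated p) (h2 : p ≠ 2) (hR : R3 p S)
include hF h2 hR

theorem exists_TP' (hE₁ : F.IsEssential p E₁) (hN₁ : normalizerIn S E₁ = N) (hE₂ : F.IsEssential p E₂)
    (hN₂ : normalizerIn S E₂ = N) (hne : E₁ ≠ E₂) (q₁ : ⁅⁅N, N⁆, N⁆ ≤ Phi E₁) (q₂ : ⁅⁅N, N⁆, N⁆ ≤ Phi E₂) :
    ∃ A B₁ B₂ D, TP p F N E₁ E₂ A B₁ B₂ D (Phi E₁) := by
  obtain ⟨A₁, B₁, D₁, h₁⟩ := exists_TT hS hF h2 hE₁ hN₁ (hR _ (ess_le hE₁)) q₁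
  obtain ⟨A₂, B₂, D₂, h₂⟩ := exists_TT hS hF h2 hE₂ hN₂ (hR _ (ess_le hE₂)) q₂
  exact ⟨_, _, _, _, exists_TP hS hF h2 hR h₁ h₂ hne⟩

theorem jlemma_top (hE₁ : F.IsEssential p E₁) (hN₁ : normalizerIn S E₁ = S) (hE₂ : F.IsEssential p E₂)
    (hN₂ : normalizerIn S E₂ = S) (hne : E₁ ≠ E₂) (hq : ¬ ⁅⁅S, S⁆, S⁆ ≤ Phi E₁) :
    (∃ P : Sylow p (Matrix.symplecticGroup (Fin 2) (ZMod p)), Nonempty (S ≃* P)) ∧
      IsExtraspecial p E₂ ∧ Nat.card E₂ = p ^ 3 ∧ (∀ x ∈ E₂, x ^ p = 1) ∧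
      IsElementaryAbelian p E₁ ∧ Nat.card E₁ = p ^ 3 := by
  obtain ⟨k1, k2, k3, k4, k5, k6, g, hg, -, k7, a, ha, k8⟩ := jlemma hS hF h2 hR hE₁ hN₁ hE₂ hN₂ hne hq
  exact ⟨sylow_sp4_of h2 k6 (ess_le hE₁) k2 k1 hg k7 ha k8, k3, k4, k5, k1, k2⟩

theorem all_normal (hsr : ¬ SectionalPRankLE p 2 S) (hO : F.core = ⊥)
    (h : ∀ E, F.IsEssential p E → S ≤ Subgroup.normalizer (E : Set Ω)) :
    (∃ P : Sylow p (Matrix.symplecticGroup (Fin 2) (ZMod p)), Nonempty (S ≃* P)) ∧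
      ∃ E, F.IsEssential p E ∧ IsExtraspecial p E ∧ Nat.card E = p ^ 3 ∧ ∀ x ∈ E, x ^ p = 1 := by
  have hS1 := ne_bot_of_not_sectional hsr
  have hN : ∀ E, F.IsEssential p E → normalizerIn S E = S := fun E hE => inf_eq_left.2 (h E hE)
  by_cases q : ∀ E, F.IsEssential p E → ⁅⁅S, S⁆, S⁆ ≤ Phi E
  swap
  · push Not at q
    obtain ⟨E₁, hE₁, q⟩ := q
    obtain ⟨E₂, hE₂, hne⟩ := exists_ess_ne hS hF hO hS1 E₁
    obtain ⟨k1, k2, k3, k4, -⟩ := jlemma_top hS hF h2 hR hE₁ (hN _ hE₁) hE₂ (hN _ hE₂) hne.symm q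
    exact ⟨k1, E₂, hE₂, k2, k3, k4⟩
  obtain ⟨E₁, hE₁, -⟩ := exists_ess_ne hS hF hO hS1 ⊥
  have e : ∀ E, F.IsEssential p E → Phi E = Phi E₁ := fun E hE => by
    by_cases hne : E₁ = E
    · rw [hne]
    obtain ⟨_, _, _, _, k⟩ := exists_TP' hS hF h2 hR hE₁ (hN _ hE₁) hE (hN _ hE) hne (q _ hE₁) (q _ hE)
    exact k.phi₂
  have e1 : Phi E₁ ≤ ⊥ := hO ▸ le_core (sat_isNormal_of_aut hS hF (by
    rintro P (rfl | hP)
    · refine ⟨(Phi_le _).trans (ess_le hE₁), fun g hg x hx => ?_⟩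
      obtain ⟨β, hβ, e'⟩ := hg.exists_aut
      exact e' x (ess_le hE₁ (Phi_le _ hx)) ▸ (e _ (ess_img hE₁ (iso_of_mem_autGroup le_rfl hβ))).le
        (ext_mem_Phi_img hS (ess_le hE₁) β hx)
    · exact e P hP ▸ ⟨Phi_le P, fun g hg x hx => (autInv_Phi F P).iso (Phi_le P) hg hx⟩))
  obtain ⟨E₂, hE₂, hne⟩ := exists_ess_ne hS hF hO hS1 E₁
  obtain ⟨_, _, _, _, k⟩ := exists_TP' hS hF h2 hR hE₁ (hN _ hE₁) hE₂ (hN _ hE₂) hne.symm (q _ hE₁) (q _ hE₂)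
  have := k.h₁.finE
  have := k.h₂.finE
  exact (hsr (k.sectional hS hF h2 hO ((comm_le_Phi (hS.to_le (ess_le hE₁))).trans e1)
    ((comm_le_Phi (hS.to_le (ess_le hE₂))).trans (k.phi₂.trans_le e1)))).elim

theorem two_char (hsr : ¬ SectionalPRankLE p 2 S) (hO : F.core = ⊥) (hE₁ : F.IsEssential p E₁)
    (hE₂ : F.IsEssential p E₂) (hne : E₁ ≠ E₂) (c₁ : ∀ β ∈ F.autGroup S, Iv β E₁) (c₂ : ∀ β ∈ F.autGroup S, Iv β E₂) :
    (∃ P : Sylow p (Matrix.symplecticGroup (Fin 2) (ZMod p)), Nonempty (S ≃* P)) ∧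
      ((IsExtraspecial p E₁ ∧ Nat.card E₁ = p ^ 3 ∧ (∀ x ∈ E₁, x ^ p = 1) ∧
        IsElementaryAbelian p E₂ ∧ Nat.card E₂ = p ^ 3) ∨
      (IsExtraspecial p E₂ ∧ Nat.card E₂ = p ^ 3 ∧ (∀ x ∈ E₂, x ^ p = 1) ∧
        IsElementaryAbelian p E₁ ∧ Nat.card E₁ = p ^ 3)) := by
  have hN : ∀ E ≤ S, (∀ β ∈ F.autGroup S, Iv β E) → normalizerIn S E = S := fun E hE c =>
    inf_eq_left.2 (Subgroup.le_normalizer_iff.2 fun g hg x hx => ext_conjAut (Subgroup.le_normalizer hg) (hE hx) ▸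
      c _ (autInducedBy_le_autGroup F le_rfl le_rfl (conjAut_mem_autInducedBy hg _)) x hx)
  have n₁ := hN _ (ess_le hE₁) c₁
  have n₂ := hN _ (ess_le hE₂) c₂
  by_cases q₁ : ⁅⁅S, S⁆, S⁆ ≤ Phi E₁
  swap
  · exact (jlemma_top hS hF h2 hR hE₁ n₁ hE₂ n₂ hne q₁).imp_right .inr
  by_cases q₂ : ⁅⁅S, S⁆, S⁆ ≤ Phi E₂
  swap
  · exact (jlemma_top hS hF h2 hR hE₂ n₂ hE₁ n₁ hne.symm q₂).imp_right .inl
  obtain ⟨_, _, _, _, k⟩ := exists_TP' hS hF h2 hR hE₁ n₁ hE₂ n₂ hne q₁ q₂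
  exact (hsr (k.sectional hS hF h2 hO (k.abelian hS hF h2 hR c₁) (k.symm.abelian hS hF h2 hR c₂))).elim

end Cfsg.Agent.H5
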