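import Mathlib
import Cfsg.Agent.H5.SR3
import Cfsg.Agent.H89.XSBasic

/-!
# Fusion systems on `p`-groups of sectional rank three: non-normal essential subgroups
-/

set_option autoImplicit false

namespace Cfsg.Agent.H5

open Cfsg Cfsg.FusionSystem Cfsg.Agent.H97 Cfsg.Agent.H98 Cfsg.Agent.H96 Cfsg.Agent.S5264
open scoped commutatorElement

variable {Ω : Type*} [Group Ω] {p : ℕ} {S : Subgroup Ω} {F : FusionSystem S} {N E A B D M X R : Subgroup Ω}
  [Finite S] [hp : Fact p.Prime] (hS : IsPGroup p S) (hF : F.IsSaturated p) (h2 : p ≠ 2) (hR : R3 p S)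
include hS hF h2 hR

theorem conj_pair (hE : F.IsEssential p E) (hN : normalizerIn S E = N) {u : Ω} (hu : u ∈ normalizerIn S N)
    (huN : u ∉ N) : ∃ E', F.IsEssential p E' ∧ normalizerIn S E' = N ∧ E ≠ E' ∧ ⁅⁅N, N⁆, N⁆ ≤ Phi E ∧
      ⁅⁅N, N⁆, N⁆ ≤ Phi E' ∧ ∀ x ∈ Phi E, u * x * u⁻¹ ∈ Phi E' := by
  have hES := ess_le hE
  have := finite_of_le hES
  have hu' := Subgroup.le_normalizer hu.1
  have hβ := iso_of_mem_autGroup le_rfl (autInducedBy_le_autGroup F le_rfl le_rfl (conjAut_mem_autInducedBy hu.1 hu'))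
  have hE' := ess_img hE hβ
  have i1 := iso_restrict hβ.mor hES
  have hNS : N ≤ S := hN ▸ H97.normalizerIn_le
  have := finite_of_le hNS
  have hN' : normalizerIn S (img E (ext (conjAut S hu'))) = N := by
    have := (i1.iso_normalizerIn hβ.mor H97.normalizerIn_le hE.2.1).img_eq
    rw [hN] at this
    exact this.symm.trans (img_ext_of_inv (iv_conj hu' hNS hu.2))
  have hne : E ≠ img E (ext (conjAut S hu')) := fun e => huN (hN.le ⟨hu.1, mem_normalizer_of_conj_mem fun x hx =>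
    ext_conjAut hu' (hES hx) ▸ e.ge (i1.mem x hx)⟩)
  obtain ⟨e, -⟩ := i1.exists_equiv
  have k : ∀ {G H : Subgroup Ω}, G ≃* H → IsElementaryAbelian p G → ¬ IsExtraspecial p H := fun e k1 k2 =>
    H89.not_isMulCommutative_of_isExtraspecial k2 ⟨⟨fun a b => e.symm.injective (by rw [map_mul, map_mul]; exact k1.1.1.1 _ _)⟩⟩
  refine ⟨_, hE', hN', hne, by_contra fun q => ?_, by_contra fun q => ?_, fun x hx =>
    ext_conjAut hu' (hES (Phi_le E hx)) ▸ ext_mem_Phi_img hS hES _ hx⟩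
  · obtain ⟨k1, -, k2, -⟩ := jlemma hS hF h2 hR hE hN hE' hN' hne q
    exact k e k1 k2
  · obtain ⟨k1, -, k2, -⟩ := jlemma hS hF h2 hR hE' hN' hE hN hne.symm q
    exact k e.symm k1 k2

theorem pearl_of_rank_two (hE : F.IsEssential p E) (hn : ¬ S ≤ Subgroup.normalizer (E : Set Ω))
    (hr : (Phi E).relIndex E ∣ p ^ 2) : (IsElementaryAbelian p E ∧ Nat.card E = p ^ 2) ∨
    (IsExtraspecial p E ∧ Nat.card E = p ^ 3 ∧ ∀ x ∈ E, x ^ p = 1) := by
  obtain ⟨u, hu, huN⟩ := SetLike.exists_of_lt (lt_normalizerIn hS (lt_of_le_of_ne H97.normalizerIn_le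
    fun e => hn (e.ge.trans inf_le_right) : normalizerIn S E < S))
  obtain ⟨E', hE', hN', hne, q, q', -⟩ := conj_pair hS hF h2 hR hE rfl hu huN
  obtain ⟨_, _, _, _, k⟩ := exists_TP' hS hF h2 hR hE rfl hE' hN' hne q q'
  exact k.pearl hS hF h2 hR hr

omit hR h2 in
theorem false_of_rank_three_aux (h5 : 5 ≤ p) (hR : R3 p S) (h : TT p F N E A B D) (hfn : F.IsFullyNormalized N)
    (hR' : normalizerIn S N = R) (hlt : ¬ R ≤ N) (hX : Phi E = X) (nX : R ≤ Subgroup.normalizer (X : Set Ω))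
    (hpow : ∀ x ∈ N, x ^ p ∈ X) (hr : ¬ A ≤ D) : False := by
  have h2 : p ≠ 2 := by omega
  have hRS : R ≤ S := hR' ▸ H97.normalizerIn_le
  have hNR : N ≤ R := hR' ▸ le_inf h.leS Subgroup.le_normalizer
  have nN : R ≤ Subgroup.normalizer (N : Set Ω) := hR' ▸ inf_le_right
  have := finite_of_le hRS
  have := h.finN
  have := h.finE
  have hRp := hS.to_le hRS
  have hNp := hS.to_le h.leS
  have hEp := hNp.to_le h.le
  have hXD : X ≤ D := hX ▸ h.leD
  have hAN := h.Ale.trans h.le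
  have hDN := h.Dle.trans h.le
  have cA : ⁅A, N⁆ ≤ X := hX ▸ h.commA
  have eD : Phi N = D := le_antisymm (Phi_le_of' h.commN fun x hx => hXD (hpow x hx)) (h.le_PhiN hS)
  have nD : R ≤ Subgroup.normalizer (D : Set Ω) := eD ▸ nN.trans (normalizer_le_normalizer_Phi N)
  obtain ⟨x, hxB, hxD⟩ := h.exists_B
  have hx := h.Ble hxB
  have hxA : x ∉ A := fun e => hxD (h.inf_eq.le ⟨hxB, e⟩)
  have eE := sup_zpowers_eq_of_relIndex_dvd h.Ale h.iA.dvd hx hxA
  have eA : cmod N N X = A := le_antisymm (fun a ha => by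
    obtain ⟨g, hg, hgE⟩ := h.exists_not_mem hS hF
    exact h.memA a (by_contra fun e => h.comm_not_mem hxB hxD ha.1 e (hX.ge (comm_swap_mem (ha.2.2 x (h.le hx)))))
      g hg hgE (hX.ge (ha.2.2 g hg))) (le_cmod (hNR.trans nX) hAN cA)
  have nA : R ≤ Subgroup.normalizer (A : Set Ω) := Subgroup.le_normalizer_iff.2 fun u hu y hy =>
    ext_conjAut (nN hu) (hAN hy) ▸ eA.le (iv_cmod iv_top iv_top (iv_conj (nN hu) (hXD.trans hDN) (nX hu)) le_rfl le_rfl
      (hNR.trans nX) y (eA.ge hy))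
  have memN : ∀ u ∈ R, x⁻¹ * (u * x * u⁻¹) ∈ A → u ∈ N := fun u hu e => h.hN.le ⟨hRS hu,
    mem_normalizer_of_conj_mem fun y hy => (homOn_conj _ u).mem_of_sup (fun z hz => h.Ale (nconj (nA hu) hz)) (by
      rintro _ ⟨k, rfl⟩
      simp only [← conj_zpow]
      exact zpow_mem (by simpa using mul_mem hx (h.Ale e)) k) y (eE.ge hy)⟩
  have iAN : A.relIndex N = p ^ 2 := by
    rw [← Subgroup.relIndex_mul_relIndex _ _ _ h.Ale h.le, h.iA,
      relIndex_eq_of_dvd_of_not_le hNp (h.not_le hS hF) h.idx, sq]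
  obtain ⟨x₀, hx₀, hx₀A, hx₀p, hx₀c⟩ := exists_central_mod' hRp hNR nA nN (not_le_of_relIndex iAN)
  have iAM := relIndex_sup_zpowers_eq hNp hAN hx₀ (nA (hNR hx₀)) hx₀p hx₀A
  have hMN := sup_le hAN (Subgroup.zpowers_le_of_mem hx₀)
  have cM : ⁅A ⊔ Subgroup.zpowers x₀, R⁆ ≤ A := comm_sup_le (hMN.trans (hNR.trans nA)) (comm_le_of_le_normalizer nA)
    (comm_zpowers_le (nA (hNR hx₀)) hx₀c)
  have hAM : A ≤ A ⊔ Subgroup.zpowers x₀ := le_sup_left
  generalize A ⊔ Subgroup.zpowers x₀ = M at *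
  have := finite_of_le hMN
  have iMN : M.relIndex N ∣ p :=
    (relIndex_mul_dvd' (b := 1) hAM hMN iAN.dvd (iAM.trans (pow_one p).symm)).trans (pow_one p).dvd
  have nM := le_normalizer_of_comm_le (cM.trans hAM)
  have cN : ⁅N, R⁆ ≤ M := comm_le_of_normal hRp hMN hNR iMN nM nN
  have cA' : ⁅A, R⁆ ≤ D := comm_le_of_normal hRp h.leA (hAN.trans hNR) h.iDA nD nA
  have cD : ⁅D, R⁆ ≤ X := comm_le_of_normal hRp hXD (hDN.trans hNR) (hX ▸ h.iD.dvd) nX nD
  obtain ⟨s, hs, hsN⟩ := SetLike.not_le_iff_exists.1 hlt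
  have hm := cN (conj_mem_comm (h.le hx) hs)
  have hmA : x⁻¹ * (s * x * s⁻¹) ∉ A := fun e => hsN (memN s hs e)
  have hxM : x ∉ M := fun e => hmA (cM (conj_mem_comm e hs))
  have eM := sup_zpowers_eq_of_relIndex_dvd hAM iAM.dvd hm hmA
  have eEM : E ⊓ M = A := eq_of_relIndex_dvd_of_lt (le_inf h.Ale hAM) inf_le_left
    (fun e => hxM (e hx).2) h.iA.dvd
  have iNR : N.relIndex R ∣ p := relIndex_dvd_of_le_prime hRp (iAM ▸ relIndex_le_relIndex_of_map
    (fun u => x⁻¹ * (u * x * u⁻¹)) (fun u hu => cN (conj_mem_comm (h.le hx) hu)) fun u hu v hv e =>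
      memN _ (mul_mem (inv_mem hu) hv) (by simpa [mul_assoc] using nconj' (nA hu) e))
  have ivM : ∀ β ∈ F.autGroup N, Iv β A → Iv β M := fun β hβ hA => by
    have i1 := iso_restrict (mor_of_mem_autGroup h.leS hβ) hMN
    have l1 : A ≤ img M (ext β) := (img_ext_of_inv hA).ge.trans (img_mono _ hAM)
    have l2 := img_ext_le hMN β
    refine img_le_iff.1 (by_contra fun hc => ?_)
    generalize img M (ext β) = Y at *
    have := finite_of_le l2
    obtain ⟨m, hm', y, hy, e⟩ := (mem_sup_iff_of_le_normalizer (l2.trans (hNR.trans nM))).1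
      ((eq_of_relIndex_dvd_of_gt le_sup_left (sup_le hMN l2) (fun e => hc (le_sup_right.trans e)) iMN).ge (h.le hx))
    obtain ⟨a, ha, t, e'⟩ := (mem_sup_zpowers_iff_nat (nA (hNR (hMN hm))) (isOfFinOrder_of_mem hm)).1
      (eM.ge (nconj' (nM (hNR (l2 hy))) (inv_mem hm')))
    have k := ext_pow_mem_mul le_rfl hAN (hNR.trans nA) (conjAut N (nN hs)) (iv_conj _ hAN (nA hs)) (h.le hx)
      (by rw [ext_conjAut _ (h.le hx)]; exact hMN hm) (by
        rw [ext_conjAut _ (h.le hx), ext_conjAut _ (hMN hm)]; exact cM (conj_mem_comm hm hs)) t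
    rw [ext_conjAut _ (h.le hx)] at k
    have hγ := pow_mem (autInducedBy_le_autGroup F h.leS le_rfl (conjAut_mem_autInducedBy (hRS hs) (nN hs))) t
    have i2 := (mor_of_mem_autGroup h.leS hγ).mono h.le
    have k1 : ext (conjAut N (nN hs) ^ t) x ∈ Y := by
      have k2 : x * (x⁻¹ * (s * x * s⁻¹)) ^ t ∈ Y := by
        rw [← inv_mul_eq_iff_eq_mul.2 e', show x * (a⁻¹ * (y⁻¹ * m⁻¹ * y)) = x * a⁻¹ * x⁻¹ * y by rw [e]; group]
        exact mul_mem (l1 (nconj (nA (hNR (h.le hx))) (inv_mem ha))) hy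
      have := mul_mem k2 (l1 k)
      rwa [mul_inv_cancel_left] at this
    obtain ⟨f, i3, -⟩ := i1.exists_inv
    have i4 := (iso_of_card_le i2 (fun z hz => (i2.homOn.mono eE.le).mem_of_sup
      (fun z hz => l1 (iv_pow (iv_conj _ hAN (nA hs)) t z hz)) (by
        rintro _ ⟨j, rfl⟩
        rw [i2.map_zpow hx]
        exact zpow_mem k1 j) z (eE.ge hz)) (by
      rw [← i1.card_eq, ← card_mul_relIndex' hAM, ← card_mul_relIndex' h.Ale, iAM, h.iA])).trans i3
    have := finite_of_le (H97.normalizerIn_le : normalizerIn S M ≤ S)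
    exact ((h.ess.2.1.2 M i4.isConj).trans_lt (h.hN.symm ▸ card_lt_of_lt (lt_of_le_not_ge hNR hlt) hRS)).not_ge
      (Subgroup.card_le_of_le (le_inf hRS nM))
  obtain ⟨g, hg, hgE⟩ := h.exists_not_mem hS hF
  obtain ⟨γ, hγ, hγ1⟩ := ess_exists_not_mem_extAut hS hF h.ess
  have wt : ∀ a b : ℕ, a * b ≡ 1 [MOD p] → ∃ (β : MulAut R) (l : ℕ), (l : ZMod p) = a ^ 3 ∧ Iv β X ∧ Iv β M ∧
      Sc (ext β) N R l ∧ Sc (ext β) A M (a ^ 2) ∧ Sc (ext β) D A 1 ∧ Sc (ext β) X D a := fun a b hab => by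
    obtain ⟨w, hw, -⟩ := h.torus hS hF hg hgE hγ
      (ess_not_pt_pair hS hF h.ess hγ hγ1 (h.hN.ge hg) hgE (h.hN.ge hg) hgE) hab
    have wA := h.ivA hS hF hw.iv
    have wM := ivM w hw.mem wA
    have hT := sat_sylIn hS hF hfn
    have step : ∀ {U V : Subgroup Ω}, V ≤ N → Iv w U → Iv w V → ⁅V, R⁆ ≤ U →
        ∀ α ∈ {α | ∃ c ∈ autInducedBy S N, α = c ∨ α = w * c * w⁻¹}, ∀ x ∈ N, x ∈ V → x⁻¹ * ext α x ∈ U := by
      rintro U V k1 k2 k3 k4 _ ⟨c, hc, e⟩ y - hy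
      obtain ⟨u, hu, e'⟩ := mem_autInducedBy_iff'.1 hc
      have k5 : ∀ y ∈ V, y⁻¹ * ext c y ∈ U := fun y hy => (e' y (k1 hy)).symm ▸ k4 (conj_mem_comm hy (hR'.le hu))
      rcases e with rfl | rfl
      · exact k5 y hy
      · exact triv_conj k1 (fun z hz => (ext_mem_iff_of_inv k3).1 (by rwa [ext_ext_inv])) k2 k5 y hy
    obtain ⟨f, hf, e⟩ := exists_ext_normalizerIn hS hF (isCentric_of_le h.ess.1 h.le h.leS) hw.mem fun c hc =>
      (hT.eq_of_le ((Subgroup.closure_le _).2 (by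
        rintro _ ⟨c, hc, rfl | rfl⟩
        exacts [hT.le hc, mul_mem (mul_mem hw.mem (hT.le hc)) (inv_mem hw.mem)]))
        (UniChain.isPGroup hNp ((((UniChain.base eD.ge).step h.leA (step hAN (h.ivD hw.iv) wA cA')).step hAM
          (step hMN wA wM cM)).step hMN (step le_rfl wM iv_top cN)) le_rfl)
        fun c hc => Subgroup.subset_closure ⟨c, hc, .inl rfl⟩).le (Subgroup.subset_closure ⟨c, hc, .inr rfl⟩)
    rw [hR'] at hf
    obtain ⟨β, -, e'⟩ := hf.exists_aut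
    have e1 : ∀ y ∈ N, ext w y = ext β y := fun y hy => ((e' y (hNR hy)).trans (e y hy)).symm
    have iv : ∀ {U : Subgroup Ω}, U ≤ N → Iv w U → Iv β U := fun k1 k2 y hy => e1 y (k1 hy) ▸ k2 y hy
    obtain ⟨l, hl, -⟩ := exists_sc hRp hNR le_rfl iNR (iv le_rfl iv_top) iv_top
    have s1 : Sc (ext β) A M (a ^ 2) := (eEM ▸ hw.scN.inf hMN wM).congr fun y hy => e1 y (hMN hy)
    have := Sc.comm (p := p) (homOn_ext β) nA hNR le_rfl hMN hNR cN cM (h.commN.trans h.leA) (comm_le_symm cM)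
      (fun z hz => h.leA (hXD (hpow z (hMN hz)))) ((Sc.of_mem hNp hMN iMN (homOn_ext w) wM (h.le hx) hxM
        (hAM (hw.scE x hx))).congr e1) hl s1 fun e => hmA (e (conj_mem_comm (h.le hx) hs))
    have hab' : (a : ZMod p) * b = 1 := by exact_mod_cast (ZMod.natCast_eq_natCast_iff _ _ _).2 hab
    exact ⟨β, l, by push_cast at this; linear_combination a * this - l * hab', iv (hXD.trans hDN)
      (hX ▸ h.ivPhi hw.iv), iv hMN wM, hl, s1, hw.scA.congr fun y hy => e1 y (hAN hy),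
      (hX ▸ hw.scD).congr fun y hy => e1 y (hDN hy)⟩
  obtain ⟨b, hb⟩ := exists_half h2
  obtain ⟨β, l, el, βX, βM, s1, s2, s3, s4⟩ := wt _ _ (neg_mul_neg_modEq (p := p))
  obtain ⟨β', l', el', βX', βM', s1', s2', s3', s4'⟩ := wt _ _ hb
  have n2 : (2 : ZMod p) ≠ 0 := fun e => h2 (eq_of_cast Nat.prime_two (by exact_mod_cast e))
  have n3 : (3 : ZMod p) ≠ 0 := fun e => by
    have := eq_of_cast (p := p) Nat.prime_three (by exact_mod_cast e); omega
  have n6 : (l' : ZMod p) ≠ 2 := fun e => mul_ne_zero n2 n3 (by push_cast at el'; linear_combination e - el')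
  rw [cast_pred] at el
  have c1 : ⁅A, R⁆ ≤ X := by_contra fun e => n6 (by
    simpa using Sc.comm (p := p) (homOn_ext β') nX (hAN.trans hNR) le_rfl h.leA hNR cA' cD cA (comm_le_symm cD)
      (fun z hz => hpow z (hDN hz)) s3' s1' s4' e)
  have c2 : ⁅M, R⁆ ≤ D := by_contra fun e => n2 (by
    have := Sc.comm (p := p) (homOn_ext β) nD (hMN.trans hNR) le_rfl hAM hNR cM cA'
      ((Subgroup.commutator_mono hMN le_rfl).trans h.commN) (comm_le_symm cA')
      (fun z hz => hXD (hpow z (hAN hz))) s2 s1 s3 e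
    rw [Nat.cast_pow, cast_pred, el] at this
    push_cast at this
    linear_combination -this)
  have hMK : M ≤ cmod R M X := le_cmod nX (hMN.trans hNR) (comm_le_of_relIndex_dvd (hMN.trans (hNR.trans nX)) hAM
    iAM.dvd ((Subgroup.commutator_mono le_rfl hMN).trans cA))
  have eK : N ⊓ cmod R M X = M := eq_of_relIndex_dvd_of_lt (le_inf hMN hMK) inf_le_left (fun e =>
    h.comm_not_mem hxB hxD (hMN hm) (fun e' => hmA (eEM.le ⟨e', hm⟩)) (hX.ge ((e (h.le hx)).2.2.2 _ hm))) iMN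
  have := finite_of_le hDN
  have iK : (cmod R M X).relIndex R ≤ p := (hX ▸ h.iD : X.relIndex D = p) ▸ relIndex_le_relIndex_of_map
    (fun u => ⁅x⁻¹ * (s * x * s⁻¹), u⁆) (fun u hu => c2 (Subgroup.commutator_mem_commutator hm hu)) fun u hu v hv e => by
      have k := mul_mem (inv_mem hu) hv
      refine ⟨k, nX k, comm_mem_sup_zpowers (hMN.trans (hNR.trans nX)) eM (nX k) (fun y hy => comm_swap_mem
        (c1 (Subgroup.commutator_mem_commutator hy k))) (comm_swap_mem ?_)⟩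
      generalize x⁻¹ * (s * x * s⁻¹) = m at e ⊢
      simpa [commutatorElement_def, mul_assoc] using nconj' (nX hu) e
  have cK : ⁅M, cmod R M X⁆ ≤ X := comm_le_symm comm_cmod_le
  have kβ := iv_cmod iv_top βM βX le_rfl (hMN.trans hNR) nX
  have kβ' := iv_cmod iv_top βM' βX' le_rfl (hMN.trans hNR) nX
  have hKR : cmod R M X ≤ R := cmod_le
  generalize cmod R M X = K at *
  have := finite_of_le hKR
  have iMK : M.relIndex K ∣ p := eK ▸ relIndex_inf_dvd hRp hKR iNR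
  have hKM : ¬ K ≤ M := fun e => by
    rw [le_antisymm e hMK, ← Subgroup.relIndex_mul_relIndex _ _ _ hMN hNR, relIndex_eq_of_dvd_of_not_le hRp hlt iNR,
      relIndex_eq_of_dvd_of_not_le hNp (fun e => hxM (e (h.le hx))) iMN] at iK
    nlinarith
  have cKK := comm_le_of_relIndex_dvd (hKR.trans nX) hMK iMK cK
  have hXA := hXD.trans h.leA
  obtain ⟨t, ht, htp⟩ : ∃ t ∈ K, t ^ p ∉ X := by
    by_contra! e
    have := finite_of_le hAN
    have := hR.relIndex_dvd (hKR.trans hRS) cKK e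
    rw [← Subgroup.relIndex_mul_relIndex _ _ _ (hXA.trans hAM) hMK, ← Subgroup.relIndex_mul_relIndex _ _ _ hXA hAM,
      ← Subgroup.relIndex_mul_relIndex _ _ _ hXD h.leA, iAM, (hX ▸ h.iD : X.relIndex D = p),
      relIndex_eq_of_dvd_of_not_le (hNp.to_le hAN) hr h.iDA,
      relIndex_eq_of_dvd_of_not_le (hRp.to_le hKR) hKM iMK] at this
    exact not_sq_dvd (p := p) (Nat.dvd_of_mul_dvd_mul_right (pow_pos hp.out.pos 2) (by
      convert this using 1 <;> ring))
  have hz := pow_mem_of_relIndex_dvd (hRp.to_le hKR) hMK iMK ht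
  have key : ∀ (β : MulAut R) (l : ℕ), Iv β K → Sc (ext β) N R l → ((t ^ p) ^ l)⁻¹ * ext β (t ^ p) ∈ X :=
    fun β l k1 k2 => by
    have k3 := eK.le (k2.inf hKR k1 t ht)
    have := mul_mem (hpow _ (hMN k3)) (mul_pow_of_comm_le (p := p) cKK _ (pow_mem ht l) _ (hMK k3))
    rwa [mul_inv_cancel_left, ← (homOn_ext β).map_pow (hKR ht), ← mul_assoc, mul_inv_rev, mul_inv_cancel_left,
      ← pow_mul, mul_comm l, pow_mul] at this
  have hzp := hpow _ (hMN hz)
  have k1 : t ^ p ∈ A := by_contra fun e => n2 (by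
    have := eig_unique e (hXA hzp) (hXA (key β l kβ s1)) (s2 _ hz)
    rw [Nat.cast_pow, cast_pred, el] at this
    linear_combination -this)
  have k2 : t ^ p ∈ D := by_contra fun e => n2 (by
    have := eig_unique e (hXD hzp) (hXD (key β l kβ s1)) (s3 _ k1)
    rw [el] at this
    push_cast at this
    linear_combination -this)
  exact n6 (by simpa using eig_unique htp hzp (key β' l' kβ' s1') (s4' _ k2))

omit h2 in
theorem normal_of_rank_three (h5 : 5 ≤ p) (hE : F.IsEssential p E) (hr : ¬ (frattini E).index ∣ p ^ 2) :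
    S ≤ Subgroup.normalizer (E : Set Ω) := by_contra fun hn => by
  have h2 : p ≠ 2 := by omega
  have hNS : normalizerIn S E ≤ S := H97.normalizerIn_le
  obtain ⟨N, f, hfn, hf, i1, -⟩ := sat_exists_normalizer_map hS hF hNS
  have hEN := (ess_lt_normalizerIn hS hF hE).le
  have i2 := iso_restrict i1.mor hEN
  have hN := (i2.iso_normalizerIn i1.mor le_rfl hE.2.1).img_eq.symm.trans i1.img_eq
  have hE' := ess_of_iso hE i2 (i2.fullyNormalized_of_mor i1.mor le_rfl hE.2.1)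
  obtain ⟨e, -⟩ := i2.exists_equiv
  replace hr : ¬ (Phi (img E f)).relIndex (img E f) ∣ p ^ 2 := fun k => hr (by
    rw [relIndex_Phi] at k
    rw [← Subgroup.index_comap_of_surjective _ (f := e.symm.toMonoidHom) e.symm.surjective]
    exact (Subgroup.index_dvd_of_le (frattini_le_comap_frattini_of_surjective e.symm.surjective)).trans k)
  generalize img E f = E' at *
  have hlt := lt_normalizerIn hS (lt_of_le_of_ne i1.le' fun e => hn
    ((eq_of_le_of_card_ge' hNS (e ▸ i1.card_eq.ge)).ge.trans inf_le_right))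
  obtain ⟨u, hu, huN⟩ := SetLike.exists_of_lt hlt
  obtain ⟨-, -, -, -, q, -⟩ := conj_pair hS hF h2 hR hE' hN hu huN
  obtain ⟨A, B, D, h⟩ := exists_TT hS hF h2 hE' hN (hR _ (ess_le hE')) q
  have key : ∀ u ∈ normalizerIn S N, u ∉ N → (∀ x ∈ N, x ^ p ∈ Phi E') ∧ ∀ x ∈ Phi E', u * x * u⁻¹ ∈ Phi E' :=
    fun u hu huN => by
    obtain ⟨E₂, hE₂, hN₂, hne, q, q', k⟩ := conj_pair hS hF h2 hR hE' hN hu huN
    obtain ⟨_, _, _, _, k'⟩ := exists_TP' hS hF h2 hR hE' hN hE₂ hN₂ hne q q'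
    exact ⟨k'.pow, fun x hx => k'.phi₂.le (k x hx)⟩
  refine false_of_rank_three_aux hS hF h5 hR h hfn rfl hlt.not_ge rfl (Subgroup.le_normalizer_iff.2 fun v hv x hx => ?_)
    (key u hu huN).1 fun e => hr ?_
  · by_cases hvN : v ∈ N
    exacts [nconj (h.nPhi hvN) hx, (key v hv hvN).2 x hx]
  · rw [← Subgroup.relIndex_mul_relIndex _ _ _ h.leD h.Dle, h.iD, ← le_antisymm e h.leA, h.iA, sq]

end Cfsg.Agent.H5
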