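import Cfsg.Agent.H17.TwA

/-! The alternating fusion pattern on the elementary abelian group of order 64. -/

set_option autoImplicit false
set_option maxRecDepth 100000
set_option exponentiation.threshold 10000
set_option synthInstance.maxSize 100000

namespace Cfsg.Agent.H5.TwP

open Equiv Subgroup Cfsg.Agent.H89.TG Cfsg.Agent.H89.Rec Cfsg.Agent.H17.Ya Cfsg.Agent.H17.Tw

universe u

/-- the number of non-zero digits -/
def wg (a : ℕ) : ℕ := min (a % 4) 1 + min (a / 4 % 4) 1 + min (a / 16) 1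

/-- the position of the leading digit -/
def bk (a : ℕ) : Fin 3 := if a < 4 then 0 else if a < 16 then 1 else 2

theorem f1_wg : ∀ a < 64, f1 (bt mA) a = nthD 0 [27, 18, 12, 8] (wg a) ∧ wg a ≤ 3 := by
  decide +kernel

theorem mem_E_wg : ∀ a < 64, (av a ∈ E0 ↔ wg a + wg (a ^^^ 21) = 3) := by kdt

theorem blk1 : ∀ x < 64, wg x = 1 → ∀ y < 64, wg y ≤ 1 → wg (x ^^^ y) ≤ 1 →
    ∃ b < 4, y = 4 ^ (bk x).val * b := by decide +kernel

theorem blk2 : ∀ x < 64, wg x = 1 → ∀ y < 64, wg y = 1 → bk x = bk y → wg (x ^^^ y) ≤ 1 := by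
  decide +kernel

theorem blk3 : ∀ i : Fin 3, 4 ^ i.val < 64 ∧ wg (4 ^ i.val) = 1 ∧ (∀ a < 4, 4 ^ i.val * a < 64 ∧
    wg (4 ^ i.val * a) ≤ 1 ∧ wg (4 ^ i.val ^^^ 4 ^ i.val * a) ≤ 1) ∧
    ∀ l : Fin 3, wg (4 ^ i.val ^^^ 4 ^ l.val) ≤ 1 → i = l := by decide +kernel

theorem nh_A : ∀ m < 24, ∀ a < 64, nh m * av a * (nh m)⁻¹ ∈ A0 := by kdt

theorem nh_tr : ∀ p < 64, wg p = 1 → ∀ q < 64, wg q = 1 → wg (p ^^^ q) = 1 → ∀ r < 64, wg r = 1 →
    wg (p ^^^ r ^^^ 21) = 1 → ∃ m < 24, nh m * av 1 * (nh m)⁻¹ = av p ∧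
      nh m * av 2 * (nh m)⁻¹ = av q ∧ nh m * av 4 * (nh m)⁻¹ = av r ∧
      nh m * av 16 * (nh m)⁻¹ = av (p ^^^ r ^^^ 21) := by kdt

theorem two8 : ∀ x < 64, wg x = 1 → (wg (4 ^^^ x) = 1 → x = 8 ∨ x = 12) ∧
    (wg (16 ^^^ x) = 1 → x = 32 ∨ x = 48) := by decide +kernel

variable {G : Type u} [Group G] {j : T →* G}

theorem cj_xor {g : G} {a b c d : ℕ} (ha : a < 64) (hb : b < 64) (hc : c < 64) (hd : d < 64)
    (h : Cj j g (tv a) (tv b)) (h' : Cj j g (tv c) (tv d)) : Cj j g (tv (a ^^^ c)) (tv (b ^^^ d)) :=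
  (h.mul h').of_eq (tv_mul ha hc) (tv_mul hb hd)

theorem cx {g : G} {a b c d : ℕ} (h : Cj j g (tv a) (tv b)) (h' : Cj j g (tv c) (tv d)) (x y : ℕ)
    (e : a < 64 ∧ b < 64 ∧ c < 64 ∧ d < 64 ∧ a ^^^ c = x ∧ b ^^^ d = y := by decide) :
    Cj j g (tv x) (tv y) :=
  (cj_xor e.1 e.2.1 e.2.2.1 e.2.2.2.1 h h').of_eq (congrArg tv e.2.2.2.2.1) (congrArg tv e.2.2.2.2.2)

theorem sigma (hi : Function.Injective j) {n : G} (hn : NmA j n) :
    ∃ σ : ℕ → ℕ, (∀ c < 64, σ c < 64) ∧ (∀ c < 64, Cj j n (tv c) (tv (σ c))) ∧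
      (∀ c < 64, ∀ d < 64, σ c = σ d → c = d) ∧
      ∀ c < 64, ∀ e < 64, σ (Nat.xor c e) = Nat.xor (σ c) (σ e) := by
  choose! σ h1 h2 using hn
  exact ⟨σ, h1, h2, fun c hc d hd e => tv_inj hc hd
    (((h2 c hc).eq_iff hi (h2 d hd)).2 (congrArg tv e)), fun c hc e he =>
      tv_inj (h1 _ (xor_lt hc he)) (xor_lt (h1 c hc) (h1 e he)) ((h2 _ (xor_lt hc he)).uniq hi
        (cj_xor hc (h1 c hc) he (h1 e he) (h2 c hc) (h2 e he)))⟩

theorem wg_eq (hi : Function.Injective j) (hp : PatT j mA) {n : G} (hn : NmA j n) {a b : ℕ}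
    (ha : a < 64) (hb : b < 64) (e : Cj j n (tv a) (tv b)) : wg b = wg a := by
  obtain ⟨σ, h1, h2, h3, h4⟩ := sigma hi hn
  have := (f_inv h1 h3 h4 (d := bt mA) (fun c hc => by
    rw [Bool.eq_iff_iff, ← hp c hc, ← hp _ (h1 c hc)]
    exact ⟨(h2 c hc).inD, (h2 c hc).inD'⟩) ha).1
  rw [← tv_inj hb (h1 a ha) (e.uniq hi (h2 a ha)), (f1_wg a ha).1, (f1_wg b hb).1] at this
  have k1 := (f1_wg a ha).2
  have k2 := (f1_wg b hb).2
  generalize wg a = x, wg b = y at *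
  revert this
  interval_cases x <;> interval_cases y <;> decide

theorem patA (B : BurnStmt.{u}) : PatAStmt.{u} := by
  intro G _ _ j mf hp
  have hi := mf.fr.inj
  obtain ⟨-, b2, b3, -, b5, -⟩ := B G j mf.fr
  refine ⟨fun g hg c a ha b hb e => ?_, fun g hg => ?_, ?_⟩
  · rw [mem_ET, mem_ET, tv_val, tv_val, mem_E_wg a ha, mem_E_wg b hb, wg_eq hi hp hg ha hb e,
      wg_eq hi hp hg (xor_lt ha (by decide)) (xor_lt hb (by decide))
        (cj_xor ha hb (by decide) (by decide) e (Cj.of_commute c))]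
  · obtain ⟨σ, h1, h2, -, -⟩ := sigma hi hg
    have w : ∀ a < 64, ∀ b < 64, wg (σ a ^^^ σ b) = wg (a ^^^ b) := fun a ha b hb =>
      wg_eq hi hp hg (xor_lt ha hb) (xor_lt (h1 a ha) (h1 b hb))
        (cj_xor ha (h1 a ha) hb (h1 b hb) (h2 a ha) (h2 b hb))
    have w1 : ∀ a < 64, wg (σ a) = wg a := fun a ha => wg_eq hi hp hg ha (h1 a ha) (h2 a ha)
    have w2 : ∀ i : Fin 3, wg (σ (4 ^ i.val)) = 1 := fun i => (w1 _ (blk3 i).1).trans (blk3 i).2.1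
    refine ⟨Equiv.ofBijective (fun i => bk (σ (4 ^ i.val))) (Finite.injective_iff_bijective.1
      fun i l e => (blk3 i).2.2.2 l ?_), fun i a ha => ?_⟩
    · rw [← w _ (blk3 i).1 _ (blk3 l).1]
      exact blk2 _ (h1 _ (blk3 i).1) (w2 i) _ (h1 _ (blk3 l).1) (w2 l) e
    · obtain ⟨k1, k2, k3⟩ := (blk3 i).2.2.1 a ha
      obtain ⟨b, hb, e⟩ := blk1 _ (h1 _ (blk3 i).1) (w2 i) _ (h1 _ k1) (w1 _ k1 ▸ k2)
        (w _ (blk3 i).1 _ k1 ▸ k3)
      exact ⟨b, hb, (h2 _ k1).of_eq rfl (congrArg tv e)⟩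
  obtain ⟨g0, e0⟩ := (hp 22 (by decide)).2 (by decide +kernel)
  obtain ⟨n, -, hn, e⟩ := b5 ⊤ le_top _ trivial 21 (by decide) 22 (by decide) e0.symm
  obtain ⟨p, hp', e1⟩ := b2 n hn 2 (by decide)
  obtain ⟨q, hq, e2⟩ := b2 n hn 3 (by decide)
  obtain ⟨r, hr, e3⟩ := b2 n hn 4 (by decide)
  have e4 : Cj j n⁻¹ (tv 16) (tv (p ^^^ r ^^^ 21)) :=
    (cj_xor (by decide) (xor_lt hp' hr) (by decide) (by decide)
      (cj_xor (by decide) hp' (by decide) hr e1 e3) e.symm).of_eq (congrArg tv (by decide)) rfl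
  have w := fun {a b} => @wg_eq G _ j hi hp _ (b2 n hn) a b
  obtain ⟨m, hm, f1, f2, f3, f4⟩ := nh_tr p hp' (w (by decide) hp' e1) q hq (w (by decide) hq e2)
    (w (by decide) (xor_lt hp' hq) (cj_xor (by decide) hp' (by decide) hq e1 e2)) r hr
    (w (by decide) hr e3) (w (by decide) (xor_lt (xor_lt hp' hr) (by decide)) e4)
  obtain ⟨k, -, hk⟩ := mf.mf (nh m)
  have kA : NmA j k := fun a ha => by
    obtain ⟨b, hb, e⟩ := nh_A m hm a ha
    exact ⟨b, hb, hk (tv a) (tv b) e⟩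
  have gA := b3 n k hn kA
  have c1 : Cj j (n * k) (tv 1) (tv 2) := (hk (tv 1) (tv p) f1).trans e1.symm'
  have c2 : Cj j (n * k) (tv 2) (tv 3) := (hk (tv 2) (tv q) f2).trans e2.symm'
  have c4 : Cj j (n * k) (tv 4) (tv 4) := (hk (tv 4) (tv r) f3).trans e3.symm'
  have c16 : Cj j (n * k) (tv 16) (tv 16) := (hk (tv 16) (tv (p ^^^ r ^^^ 21)) f4).trans e4.symm'
  generalize n * k = g at gA c1 c2 c4 c16
  have c3 : Cj j g (tv 3) (tv 1) := cx c1 c2 3 1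
  have c8 : Cj j (g * g) (tv 8) (tv 8) := by
    obtain ⟨x, hx, e⟩ := gA 8 (by decide)
    rcases (two8 x hx (wg_eq hi hp gA (by decide) hx e)).1 (wg_eq hi hp gA (by decide)
      (xor_lt (by decide) hx) (cj_xor (by decide) (by decide) (by decide) hx c4 e)) with rfl | rfl
    · exact e.trans e
    · exact e.trans (cx c4 e 12 8)
  have c32 : Cj j (g * g) (tv 32) (tv 32) := by
    obtain ⟨x, hx, e⟩ := gA 32 (by decide)
    rcases (two8 x hx (wg_eq hi hp gA (by decide) hx e)).2 (wg_eq hi hp gA (by decide)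
      (xor_lt (by decide) hx) (cj_xor (by decide) (by decide) (by decide) hx c16 e)) with rfl | rfl
    · exact e.trans e
    · exact e.trans (cx c16 e 48 32)
  have c0 : Cj j (g * g) (tv 0) (tv 0) := (Cj.one _).of_eq tv0.symm tv0.symm
  have A : ∀ x < 4, Cj j (g * g) (tv (4 * x)) (tv (4 * x)) := fun x hx => by
    interval_cases x
    exacts [cx c0 c0 _ _, cx c0 (c4.trans c4) _ _, cx c0 c8 _ _, cx (c4.trans c4) c8 _ _]
  have C : ∀ x < 4, Cj j (g * g) (tv (16 * x)) (tv (16 * x)) := fun x hx => by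
    interval_cases x
    exacts [cx c0 c0 _ _, cx c0 (c16.trans c16) _ _, cx c0 c32 _ _, cx (c16.trans c16) c32 _ _]
  refine ⟨(g * g)⁻¹, b2 _ (b3 g g gA gA), (c2.trans c3).symm, (c3.trans c1).symm, fun a ha => ?_⟩
  have e : 4 * a = 4 * (a % 4) ^^^ 16 * (a / 4) := by revert a; decide
  rw [e]
  exact (cj_xor (by omega) (by omega) (by omega) (by omega) (A _ (by omega)) (C _ (by omega))).symm

end Cfsg.Agent.H5.TwP
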