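import Cfsg.Agent.H5.U4W9k

/-!
The finite computations for the groups `H3 j`.
-/

set_option autoImplicit false

namespace Cfsg.Agent.H5.W9

open Cfsg.Agent.H97 Cfsg.Agent.H97.U4 Cfsg.Agent.H28 Subgroup

/-- the generators of `G3 k` -/
def GA : Fin 5 → List ℕ := ![[14408983, 5137428, 33717392, 18154531],
  [14408983, 9743250, 28816156, 38677424, 18154531],
  [14408983, 5137428, 28757350, 18179380],
  [14408983, 9743250, 28816156, 28757350, 18179380],
  [14408983, 19545872, 24151450, 28757350, 17671214]]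

/-- the generators of `H3 j` -/
def HA : Fin 4 → List ℕ := ![[14408983, 571590], GA 0, GA 2, GA 4]

/-- their inverses -/
def HI : Fin 4 → List ℕ := ![[14409685, 1084050],
  [14409685, 9743172, 24387808, 17117893],
  [14409685, 9743172, 28757350, 17101900],
  [14409685, 33953584, 38559650, 28757350, 31961314]]

/-- codes and words -/
def ce0 : List (ℕ × List ℕ × Bool) := [
  (14408983, [], false),
  (14409685, [], true),
  (14979007, [1], false),
  (15490765, [1], true),
  (572078, [0, 1], false),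
  (29899962, [0, 1], true),
  (29387502, [0, 0, 1], false),
  (1084538, [0, 0, 1], true)]

/-- codes -/
def S0 : List ℕ := [
  14408983, 14409685, 14979007, 15490765, 572078, 29899962, 29387502, 1084538]

/-- codes and words -/
def ce1 : List (ℕ × List ℕ × Bool) := [
  (14408983, [], false),
  (14409685, [], true),
  (34741848, [3], false),
  (10610792, [3], true),
  (6105776, [0, 3], false),
  (39253452, [0, 3], true),
  (11121848, [2, 3], false),
  (34230792, [2, 3], true),
  (20514910, [0, 0, 3], false),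
  (24844318, [0, 0, 3], true),
  (25357498, [0, 2, 3], false),
  (20001730, [0, 2, 3], true),
  (37408548, [3, 0, 3], false),
  (12753332, [3, 0, 3], true),
  (39763788, [0, 0, 2, 3], false),
  (5595440, [0, 0, 2, 3], true),
  (18154531, [0, 3, 0, 3], false),
  (17117893, [0, 3, 0, 3], true),
  (13788548, [1, 3, 0, 3], false),
  (36373332, [1, 3, 0, 3], true)]

/-- codes -/
def S1 : List ℕ := [
  14408983, 14409685, 34741848, 10610792, 6105776, 39253452, 11121848, 34230792,
  20514910, 24844318, 25357498, 20001730, 37408548, 12753332, 39763788, 5595440,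
  18154531, 17117893, 13788548, 36373332]

/-- codes and words -/
def ce2 : List (ℕ × List ℕ × Bool) := [
  (14408983, [], false),
  (14409685, [], true),
  (36466905, [3], false),
  (13688387, [3], true),
  (12611681, [0, 3], false),
  (37543611, [0, 3], true),
  (40916049, [1, 3], false),
  (9239243, [1, 3], true),
  (17101900, [0, 0, 3], false),
  (18179380, [0, 0, 3], true),
  (16589440, [0, 1, 3], false),
  (18691840, [0, 1, 3], true),
  (7140425, [1, 0, 3], false),
  (43014867, [1, 0, 3], true),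
  (29899962, [3, 1, 3], false),
  (572078, [3, 1, 3], true),
  (1084538, [0, 3, 1, 3], false),
  (29387502, [0, 3, 1, 3], true),
  (20452450, [3, 0, 1, 3], false),
  (24900190, [3, 0, 1, 3], true),
  (11006441, [3, 1, 0, 3], false),
  (34352787, [3, 1, 0, 3], true),
  (34861665, [3, 3, 1, 3], false),
  (10497563, [3, 3, 1, 3], true),
  (15490765, [0, 0, 3, 1, 3], false),
  (14979007, [0, 0, 3, 1, 3], true),
  (25412650, [0, 3, 1, 0, 3], false),
  (19939990, [0, 3, 1, 0, 3], true),
  (6048419, [0, 3, 3, 1, 3], false),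
  (39310809, [0, 3, 3, 1, 3], true),
  (5535185, [1, 3, 1, 0, 3], false),
  (39824043, [1, 3, 1, 0, 3], true)]

/-- codes -/
def S2 : List ℕ := [
  14408983, 14409685, 36466905, 13688387, 12611681, 37543611, 40916049, 9239243,
  17101900, 18179380, 16589440, 18691840, 7140425, 43014867, 29899962, 572078,
  1084538, 29387502, 20452450, 24900190, 11006441, 34352787, 34861665, 10497563,
  15490765, 14979007, 25412650, 19939990, 6048419, 39310809, 5535185, 39824043]

/-- codes and words -/
def ce3 : List (ℕ × List ℕ × Bool) := [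
  (14408983, [], false),
  (14409685, [], true),
  (19939990, [4], false),
  (25412650, [4], true),
  (5535185, [0, 4], false),
  (39824043, [0, 4], true),
  (1202150, [1, 4], false),
  (29269890, [1, 4], true),
  (14979007, [4, 4], false),
  (15490765, [4, 4], true),
  (34352787, [0, 0, 4], false),
  (11006441, [0, 0, 4], true),
  (15433417, [0, 1, 4], false),
  (15038542, [0, 1, 4], true),
  (572078, [0, 4, 4], false),
  (29899962, [0, 4, 4], true),
  (29839698, [1, 0, 4], false),
  (630155, [1, 0, 4], true),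
  (24900190, [1, 1, 4], false),
  (20452450, [1, 1, 4], true),
  (689690, [3, 1, 4], false),
  (29782350, [3, 1, 4], true),
  (9239243, [4, 0, 4], false),
  (40916049, [4, 0, 4], true),
  (29387502, [0, 0, 4, 4], false),
  (1084538, [0, 0, 4, 4], true),
  (10497563, [0, 1, 1, 4], false),
  (34861665, [0, 1, 1, 4], true),
  (29327967, [0, 3, 1, 4], false),
  (1141886, [0, 3, 1, 4], true),
  (18691840, [0, 4, 0, 4], false),
  (16589440, [0, 4, 0, 4], true),
  (39310809, [1, 0, 1, 4], false),
  (6048419, [1, 0, 1, 4], true),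
  (29821473, [1, 4, 0, 4], false),
  (591518, [1, 4, 0, 4], true),
  (14507155, [2, 4, 0, 4], false),
  (14370562, [2, 4, 0, 4], true),
  (14920930, [3, 0, 1, 4], false),
  (15551029, [3, 0, 1, 4], true),
  (13688387, [3, 4, 0, 4], false),
  (36466905, [3, 4, 0, 4], true),
  (4046720, [4, 0, 1, 4], false),
  (31766010, [4, 0, 1, 4], true),
  (17101900, [4, 0, 4, 4], false),
  (18179380, [4, 0, 4, 4], true),
  (7614560, [4, 1, 0, 4], false),
  (42015870, [4, 1, 0, 4], true),
  (43014867, [4, 4, 0, 4], false),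
  (7140425, [4, 4, 0, 4], true),
  (1123661, [0, 1, 4, 0, 4], false),
  (29289330, [0, 1, 4, 0, 4], true),
  (14447620, [0, 2, 4, 0, 4], false),
  (14427910, [0, 2, 4, 0, 4], true),
  (37543611, [0, 3, 4, 0, 4], false),
  (12611681, [0, 3, 4, 0, 4], true),
  (26866282, [0, 4, 1, 0, 4], false),
  (23295598, [0, 4, 1, 0, 4], true),
  (15472540, [1, 0, 4, 0, 4], false),
  (14940370, [1, 0, 4, 0, 4], true),
  (31036980, [1, 4, 0, 1, 4], false),
  (4775750, [1, 4, 0, 1, 4], true),
  (37784700, [1, 4, 1, 0, 4], false),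
  (11845730, [1, 4, 1, 0, 4], true),
  (14389543, [2, 4, 4, 0, 4], false),
  (14488174, [2, 4, 4, 0, 4], true),
  (2633930, [4, 1, 4, 0, 4], false),
  (33178800, [4, 1, 4, 0, 4], true),
  (35642880, [4, 2, 4, 0, 4], false),
  (13987550, [4, 2, 4, 0, 4], true),
  (21710014, [0, 1, 4, 0, 1, 4], false),
  (28451866, [0, 1, 4, 0, 1, 4], true),
  (26315914, [0, 4, 2, 4, 0, 4], false),
  (23845966, [0, 4, 2, 4, 0, 4], true),
  (40977810, [1, 1, 4, 0, 1, 4], false),
  (8652620, [1, 1, 4, 0, 1, 4], true),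
  (32804070, [1, 1, 4, 1, 0, 4], false),
  (3008660, [1, 1, 4, 1, 0, 4], true),
  (27901498, [0, 1, 1, 4, 1, 0, 4], false),
  (22260382, [0, 1, 1, 4, 1, 0, 4], true)]

/-- codes -/
def S3 : List ℕ := [
  14408983, 14409685, 19939990, 25412650, 5535185, 39824043, 1202150, 29269890,
  14979007, 15490765, 34352787, 11006441, 15433417, 15038542, 572078, 29899962,
  29839698, 630155, 24900190, 20452450, 689690, 29782350, 9239243, 40916049,
  29387502, 1084538, 10497563, 34861665, 29327967, 1141886, 18691840, 16589440,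
  39310809, 6048419, 29821473, 591518, 14507155, 14370562, 14920930, 15551029,
  13688387, 36466905, 4046720, 31766010, 17101900, 18179380, 7614560, 42015870,
  43014867, 7140425, 1123661, 29289330, 14447620, 14427910, 37543611, 12611681,
  26866282, 23295598, 15472540, 14940370, 31036980, 4775750, 37784700, 11845730,
  14389543, 14488174, 2633930, 33178800, 35642880, 13987550, 21710014, 28451866,
  26315914, 23845966, 40977810, 8652620, 32804070, 3008660, 27901498, 22260382]

/-- codes and words -/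
def ce : Fin 4 → List (ℕ × List ℕ × Bool) := ![ce0, ce1, ce2, ce3]

/-- the codes of the members of `Sig (H3 j)` -/
def SS : Fin 4 → List ℕ := ![S0, S1, S2, S3]

/-- letters -/
def Bs : Fin 4 → List ℕ := ![[14408983, 14979007], [14408983, 34741848, 11121848], [14408983, 36466905], [14408983, 19939990, 1202150, 14979007]]

/-- words -/
def Bw : Fin 4 → List (List ℕ) := ![[[0], [0, 1, 0]],
  [[0], [3, 3, 3], [1, 1, 2, 3, 1], [0, 0, 2, 0, 1, 0, 0]],
  [[0], [2, 2, 2], [0, 2, 1, 0, 0, 1], [0, 0, 1, 1, 0]],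
  [[0], [0, 1, 2, 0, 3, 0, 1, 3], [0, 1, 2, 4, 3, 0, 1, 3], [0, 3, 1, 0, 3, 1, 4], [2, 2, 3, 1, 0, 2, 2]]]

/-- test elements -/
def few : Fin 4 → List ℕ := ![[14979007], [37408548], [36466905], [4046720, 1202150]]

/-- words -/
def Lw : Fin 4 → List (List ℕ) := ![[[], [1, 1]],
  [[1], [1, 1, 1], [], [1, 1, 2], [1, 2], [1, 1], [2, 1], [2]],
  [[1], [1, 2], [1, 1, 1], [2, 1], [], [2], [1, 1], [1, 1, 2]],
  [[1, 1], [1, 1, 3], [1, 1, 1, 2], [2, 3, 1], [2, 2], [2, 2, 3], [1, 2, 2, 2], [1, 3, 2], [], [3], [1, 2], [1, 2, 3], [2], [2, 3], [1, 2, 2], [1, 2, 2, 3], [2, 2, 2], [3, 2], [1, 1, 1, 1, 1], [1, 1, 3, 1], [1, 1, 1, 1], [1, 3, 1], [4, 1, 2, 4], [1, 1, 2, 3, 1], [1, 1, 2], [1, 1, 2, 3], [1], [1, 3], [1, 1, 1, 1, 2], [1, 2, 3, 1], [1, 1, 1], [3, 1]]]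

/-- the codes of the members of `Lam` in `H3 j` -/
def Lm : Fin 4 → List ℕ := ![[14408200, 28816400],
  [5137428, 9743172, 14408200, 24387808, 38677750, 28816400, 19427450, 33717392],
  [5137428, 9920316, 9743172, 4960284, 14408200, 28757350, 28816400, 14467250],
  [9743250, 4960200, 5137428, 9920316, 5137350, 9920400, 9743172, 4960284, 14408200, 28757350, 28816156, 14467492, 24151450, 33717550, 33953584, 24387808, 19545550, 38677750, 38559328, 19427776, 28816400, 14467250, 14408444, 28757108, 38559650, 19427450, 19545872, 38677424, 33953750, 24387650, 24151616, 33717392]]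

/-- the code of `uW i` -/
def sM : ℕ := 14408983
/-- the code of `uW (-i)` -/
def sM' : ℕ := 14409685
/-- the code of `w9 (1, 7, false)` -/
def dM : ℕ := 9743172
/-- the code of `w9 (0, 2, false)` -/
def mM : ℕ := 9743250

/-- the code of `tauW r` -/
def tM (r : F9) : ℕ := (1 + 9 * r.re.val + 27 * r.im.val) +
  81 * (3 + 9 * r.im.val + 27 * (-r.re).val) + 6561 * 9 + 531441 * 27

/-- the code of a vector -/
def cV (a b : F9) : ℕ := a.re.val + 3 * a.im.val + 9 * b.re.val + 27 * b.im.val

/-- a sign -/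
def sn (n : Bool) : F9 := if n then -1 else 1

/-- the code of a member of `Lam` -/
def lM (a : F9) (n e : Bool) : ℕ := cV a 0 + 81 * cV (a * s9 e ⟨0, 1⟩) 0 + 6561 * cV 0 (sn n * a) +
  531441 * cV 0 (sn n * a * s9 e ⟨0, 1⟩)

/-- the code of the inverse -/
def lI (a : F9) (n e : Bool) : ℕ := lM (s9 e (star a) * (a * star a)) n e

/-- the projection -/
def piR (j : Fin 4) (r : F9) : F9 := if j = 2 then ⟨0, r.im⟩ else r

theorem ap_tM : ∀ (r : F9) (w : W F9), (w.1, w.2 + r * star w.1) = ap (tM r) w := by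
  decide +kernel

theorem ap_lM : ∀ (a : F9) (n e : Bool) (w : W F9),
    (a * s9 e w.1, sn n * a * s9 e w.2) = ap (lM a n e) w := by
  decide +kernel

theorem lM_lt : ∀ (a : F9) (n e : Bool), lM a n e < 43046721 ∧
    (a ≠ 0 → mul (lM a n e) (lI a n e) = one) := by
  decide +kernel

theorem tM_inv : ∀ r : F9, mul (tM r) (tM (-r)) = one := by decide +kernel

theorem S_lt : ∀ j, ∀ m ∈ SS j, m < 43046721 := by decide +kernel

theorem S_s : ∀ j, sM ∈ SS j ∧ sM' ∈ SS j := by decide +kernel

theorem c_nor : ∀ j, ∀ p ∈ (HA j).zip (HI j), mul p.1 p.2 = one ∧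
    ∀ k ∈ SS j, mul (mul p.1 k) p.2 ∈ SS j := by decide +kernel

theorem c_len : ∀ j, HA j = ((HA j).zip (HI j)).map Prod.fst := by decide +kernel

theorem c_ce : ∀ j, SS j = (ce j).map Prod.fst ∧ ∀ p ∈ ce j,
    mul (ev (HA j) p.2.1) (if p.2.2 then sM' else sM) = mul p.1 (ev (HA j) p.2.1) := by
  decide +kernel

theorem c_B : ∀ j, (∀ m ∈ Bs j, m ∈ SS j) ∧ (∀ m ∈ few j, m ∈ SS j) ∧
    HA j = (Bw j).map (ev (Bs j ++ [dM])) ∧ Lm j = (Lw j).map (ev (HA j)) := by decide +kernel

theorem c_up1 : GA 0 ++ [mM] = [[0], [1, 2], [1, 3], [4], [1]].map (ev (GA 1)) ∧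
    GA 1 = [[0], [4], [1, 1, 1, 4], [2, 4], [3]].map (ev (GA 0 ++ [mM])) := by decide +kernel

theorem c_up2 : GA 2 ++ [mM] = [[0], [1, 2], [3], [4], [1]].map (ev (GA 3)) ∧
    GA 3 = [[0], [4], [1, 1, 1, 4], [2], [3]].map (ev (GA 2 ++ [mM])) := by decide +kernel

theorem c_tau : ∀ r : F9, ∀ k ∈ SS 2,
    mul (mul (tM (piR 2 r - r)) k) (tM (-(piR 2 r - r))) ∈ SS 2 := by decide +kernel

theorem c_dt : ∀ r : F9, mul (tM r) dM = mul dM (tM r) ∧ mul (tM r) sM = mul sM (tM r) := by
  decide +kernel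

/-- the conclusion of the main check -/
def St (j : Fin 4) (l : ℕ) : Prop :=
  j = 0 ∨ l ∈ Lm j ∨ ((j = 1 ∨ j = 2) ∧ ∃ k ∈ Lm j, l = mul k mM)

instance (j : Fin 4) (l : ℕ) : Decidable (St j l) := by unfold St; infer_instance

/-- the main check -/
def Chk (j : Fin 4) (t t' u l l' : ℕ) : Prop :=
  (∀ x ∈ few j, mul (mul (mul t' (mul l t)) x) (mul t' (mul l' t)) ∈ SS j) →
    mul u l = mul l u ∧ St j l

instance (j : Fin 4) (t t' u l l' : ℕ) : Decidable (Chk j t t' u l l') := by
  unfold Chk; infer_instance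

theorem c_main : ∀ (j : Fin 4) (r a : F9) (n e : Bool), a ≠ 0 →
    Chk j (tM r) (tM (-r)) (tM (piR j r)) (lM a n e) (lI a n e) := by decide +kernel

end Cfsg.Agent.H5.W9
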