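import Cfsg.Agent.H97.U5Defs

/-! Automizers of the subgroup `R` of the Sylow subgroup of `PSU₅(q)`. -/

set_option autoImplicit false
set_option linter.unusedSectionVars false

namespace Cfsg.Agent.H5.U5R

open Cfsg.Agent.H97 Cfsg.Agent.H96.VB Cfsg.Agent.H97.U5 Subgroup

universe u

variable {K : Type u} [Field K] [Finite K] {T : Hm K} {p : ℕ} [Fact p.Prime] [CharP K p]

/-- conjugation -/
def cA (s : U5.U T) : MulAut (U5.R T) := MulAut.conjNormal s

theorem ext_cA (s : U5.U T) {x : U5.U T} (hx : x ∈ U5.R T) : ext (cA s) x = s * x * s⁻¹ := by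
  rw [ext_apply _ hx]; rfl

/-- the action on `R / V` -/
def Act (α : MulAut (U5.R T)) (f : K × K → K × K) : Prop :=
  ∀ x ∈ U5.R T, ((ext α x).v1, (ext α x).v2) = f (x.v1, x.v2)

variable {α β : MulAut (U5.R T)} {f g k : K × K → K × K} {A : Subgroup (MulAut (U5.R T))}

theorem Act.mul (h : Act α f) (h' : Act β g) (e : ∀ q, f (g q) = k q) : Act (α * β) k :=
  fun x hx => by rw [ext_mul, h _ (ext_mem β hx), h' x hx, e]

theorem act_cA (s : U5.U T) : Act (cA s) fun q => (q.1 + s.t * q.2, q.2) := fun x hx => by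
  rw [ext_cA _ hx, (conj_R s hx).1, (conj_R s hx).2]

theorem act_xt (t : K) : Act (cA (xt T t)) fun q => (q.1 + t * q.2, q.2) := act_cA _

theorem Act.conj (h : Act α f) (h' : Act β g) (e : ∀ q, f (g q) = k (f q)) :
    Act (α * β * α⁻¹) k := fun x hx => by
  have h1 := ext_mem α⁻¹ hx
  have h2 := h _ h1
  rw [ext_ext_inv] at h2
  rw [ext_mul, ext_mul, h _ (ext_mem β h1), h' _ h1, e, h2]

theorem act_id : Act α id ↔ ∀ x ∈ U5.R T, (ext α x).v1 = x.v1 ∧ (ext α x).v2 = x.v2 :=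
  forall₂_congr fun _ _ => Prod.ext_iff

theorem cA_mem (hA : U5.LA p (U5.R T) A) (s : U5.U T) : cA s ∈ A :=
  hA.cj s _ fun _ hx => ext_cA s hx

theorem kerR (H : AR1 T p) (hA : U5.LA p (U5.R T) A) : KerR A := fun α hα h => by
  let M : Subgroup (MulAut (U5.R T)) :=
    { carrier := {β | β ∈ A ∧ Act β id}
      one_mem' := ⟨one_mem _, fun w _ => by simp⟩
      mul_mem' := fun ha hb => ⟨mul_mem ha.1 hb.1, ha.2.mul hb.2 fun _ => rfl⟩
      inv_mem' := fun {a} ha => ⟨inv_mem ha.1, fun w hw => by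
        have := ha.2 _ (ext_mem a⁻¹ hw)
        rw [ext_ext_inv] at this
        exact this.symm⟩ }
  have h1 : ∀ g ∈ A, ∀ β ∈ M, g * β * g⁻¹ ∈ M := fun g hg β hβ => by
    obtain ⟨φ, a, b, c, d, -, h2⟩ := H.sem g
    have h3 : Act g fun q => (a * φ q.1 + b * φ q.2, c * φ q.1 + d * φ q.2) :=
      fun x hx => Prod.ext (h2 x hx).1 (h2 x hx).2
    exact ⟨mul_mem (mul_mem hg hβ.1) (inv_mem hg), h3.conj hβ.2 fun _ => rfl⟩
  obtain ⟨s, hs⟩ := hA.two M (fun _ h => h.1) (fun g hg => mem_normalizer_iff.2 fun β =>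
    ⟨h1 g hg β, fun hβ => by simpa [mul_assoc] using h1 _ (inv_mem hg) _ hβ⟩)
    (fun β => ⟨1, Subtype.ext (by simpa using (H.ker β.1 (act_id.1 β.2.2)).2)⟩) α ⟨hα, act_id.2 h⟩
  refine ⟨s, ?_, hs⟩
  have hx : rv T 0 1 ∈ U5.R T := rfl
  have h2 := (h _ hx).1
  rw [hs _ hx, (conj_R s hx).1] at h2
  simpa [mem_R] using h2

theorem nm_of (H : AR1 T p) (hA : U5.LA p (U5.R T) A) (hα : α ∈ A) {φ : RingAut K} {a b d : K}
    (hd : d ≠ 0) (h : Act α fun q => (a * φ q.1 + b * φ q.2, d * φ q.2)) : Nm α := fun s => by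
  have h1 : Act (α * cA s * α⁻¹) fun q => (q.1 + a * φ s.t / d * q.2, q.2) :=
    h.conj (act_cA s) fun q => by
      simp only [map_add, map_mul, Prod.mk.injEq, and_true]
      field_simp
      ring
  have h2 : Act (cA (xt T (-(a * φ s.t / d))) * (α * cA s * α⁻¹)) id :=
    (act_xt _).mul h1 fun q => Prod.ext (by simp only [id]; ring) rfl
  obtain ⟨e, -, he⟩ := kerR H hA _ (mul_mem (cA_mem hA _)
    (mul_mem (mul_mem hα (cA_mem hA s)) (inv_mem hα))) (act_id.1 h2)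
  refine ⟨(xt T (-(a * φ s.t / d)))⁻¹ * e, fun x hx => ?_⟩
  have h3 := he _ (ext_mem α hx)
  have h4 : s * x * s⁻¹ ∈ U5.R T := nR.conj_mem x hx s
  rw [ext_mul, ext_mul, ext_mul, ext_inv_ext, ext_cA _ hx, ext_cA _ (ext_mem α h4)] at h3
  calc _ = (xt T (-(a * φ s.t / d)))⁻¹ * (e * ext α x * e⁻¹) * xt T (-(a * φ s.t / d)) := by
        rw [← h3]; group
    _ = _ := by group

theorem cases (H : AR1 T p) (hA : U5.LA p (U5.R T) A) (hα : α ∈ A) :
    Nm α ∨ ∃ (t : K) (φ : RingAut K) (b c d : K), b ≠ 0 ∧ c ≠ 0 ∧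
      Act (cA (xt T t) * α) fun q => (b * φ q.2, c * φ q.1 + d * φ q.2) := by
  obtain ⟨φ, a, b, c, d, h1, h2⟩ := H.sem α
  have h3 : Act α fun q => (a * φ q.1 + b * φ q.2, c * φ q.1 + d * φ q.2) :=
    fun x hx => Prod.ext (h2 x hx).1 (h2 x hx).2
  by_cases hc : c = 0
  · subst hc
    exact .inl (nm_of H hA hα (d := d) (fun e => h1 (by simp [e])) (by simpa using h3))
  refine .inr ⟨-(a / c), φ, b - a / c * d, c, d, fun e => h1 ?_, hc, (act_xt _).mul h3 fun q =>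
    Prod.ext ?_ rfl⟩
  · field_simp at e
    linear_combination -e
  · simp only
    field_simp
    ring

/-- **AR2** -/
theorem ar2 (H : AR1 T p) : ARStmt T p := fun A hA => by
  refine ⟨kerR H hA, fun n hn sw α hα => (cases H hA hα).imp_right ?_, ?_⟩
  · rintro ⟨t, φ, b, c, d, hb, -, h⟩
    refine ⟨xt T t, cA (xt T t), fun _ hx => ext_cA _ hx, ?_⟩
    have h1 : Act n fun q => (q.2, -q.1) := fun x hx => Prod.ext (sw x hx).1 (sw x hx).2
    rw [mul_assoc]
    exact nm_of H hA (mul_mem hn (mul_mem (cA_mem hA _) hα)) (neg_ne_zero.2 hb)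
      (h1.mul h fun _ => Prod.ext rfl (neg_mul _ _).symm)
  rintro ⟨α, hα, hN⟩
  obtain ⟨t, φ, b, c, d, hb, hc, h⟩ := (cases H hA hα).resolve_left hN
  have hm := mul_mem (cA_mem hA (xt T t)) hα
  have key : ∀ s : K, ∃ γ ∈ A, Act γ fun q => (q.1, q.2 + s * q.1) := fun s =>
    ⟨_, mul_mem (mul_mem hm (cA_mem hA _)) (inv_mem hm),
      h.conj (act_xt (φ.symm (s * b / c))) fun q => by
        simp only [map_add, map_mul, RingEquiv.apply_symm_apply, Prod.mk.injEq, true_and]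
        field_simp
        ring⟩
  obtain ⟨n, hn, an⟩ : ∃ n ∈ A, Act n fun q => (q.2, -q.1) := by
    obtain ⟨γ, h1, h2⟩ := key (-1)
    refine ⟨_, mul_mem (cA_mem hA _) (mul_mem h1 (cA_mem hA _)),
      (act_xt 1).mul (h2.mul (act_xt 1) fun _ => rfl) fun q => Prod.ext ?_ ?_⟩ <;>
      (simp only; ring)
  refine ⟨⟨n, hn, fun x hx => Prod.ext_iff.1 (an x hx)⟩, fun c => ?_⟩
  obtain ⟨γ, h1, h2⟩ := key (-(c : K)⁻¹)
  have h3 := mul_mem (cA_mem hA (xt T c)) (mul_mem h1 (mul_mem (cA_mem hA (xt T c))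
    (mul_mem hn (mul_mem hn hn))))
  have c0 := c.ne_zero
  have h4 : Act (cA (xt T c) * (γ * (cA (xt T c) * (n * (n * n)))))
      fun q => (c * q.1, (c : K)⁻¹ * q.2) :=
    (act_xt _).mul (h2.mul ((act_xt _).mul (an.mul (an.mul an fun _ => rfl) fun _ => rfl)
      fun _ => rfl) fun _ => rfl) fun q => Prod.ext
      (by simp only; field_simp; ring) (by simp only; field_simp; ring)
  exact ⟨_, h3, nm_of H hA h3 (φ := 1) (a := c) (b := 0) (inv_ne_zero c0) (by simpa using h4),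
    fun x hx => Prod.ext_iff.1 (h4 x hx)⟩

end Cfsg.Agent.H5.U5R
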