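import Cfsg.Agent.H74.UVDefs
import Cfsg.Agent.H13.UgWr

/-! Project UV: the data extracted from the Weil representation. -/

set_option autoImplicit false

namespace Cfsg.Agent.H5.UvWr

open Module Cfsg.Agent.H31 Cfsg.Agent.H53.Uw Cfsg.Agent.H50.UwWeil Cfsg.Agent.H77.Sg
open Cfsg.Agent.H13.UgWr (rep_ex aa aa_conj S_eq)
open scoped ComplexConjugate

universe u

open Cfsg.Agent.H74.UV in
theorem wr : WrStmt.{u} := by
  intro E K _ _ _ _ _ σ B q R t kt
  classical
  have := Fintype.ofFinite K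
  have hs := kt.st
  obtain ⟨ψ, hk⟩ := (kit E K σ B q hs).1
  obtain ⟨e, h0, he, ht, hc⟩ := H15.UwTw.tw E K σ B q hs ψ hk
  have hd : (finrank ℂ (Fin (q ^ finrank E K) → ℂ) : ℂ) = (q : ℂ) ^ finrank E K := by simp
  obtain ⟨ρ, h1, h2⟩ := rep_ex hs hk h0 he ht hc hd
  have hq0 : (q : ℂ) ≠ 0 := by have := kt.q2; simp; omega
  refine ⟨ψ⁻¹, aa B q ψ, fun g u => if h : g ∈ isom B then
    LinearMap.trace ℂ _ (ρ ⟨g, h⟩ * e u) else 0, ?_, fun g _ k hk u => aa_conj g hk u,
    fun g hg g' hg' => ?_, fun s hs' s1 u => ?_⟩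
  · obtain ⟨a, ha, ha'⟩ := hk
    exact ⟨-a, by rw [map_neg, ← neg_add, ha, neg_zero], by rwa [AddChar.inv_apply, neg_neg]⟩
  · have e1 : wo q (g' * g) = om B q (⟨g', hg'⟩ * ⟨g, hg⟩) := by
      rw [wo, om, kt.rk]
      norm_num
      rfl
    rw [e1, ← h2, h1 ⟨g, hg⟩, S_eq, Finset.mul_sum, map_sum, finsum_eq_sum_of_fintype]
    refine Finset.sum_congr rfl fun u _ => ?_
    rw [dif_pos hg', mul_smul_comm, map_smul, smul_eq_mul]
  · have hi := (kt.iso s).2 hs'
    have s2 : (s : K) - 1 ≠ 0 := sub_ne_zero.2 fun c => s1 (Units.ext c)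
    have f0 : fx (mulH E K s) = ⊥ := by
      refine eq_bot_iff.2 fun v hv => ?_
      rw [mem_fx, mulH_apply] at hv
      have : ((s : K) - 1) * v = 0 := by rw [sub_mul, hv, one_mul, sub_self]
      exact (mul_eq_zero.1 this).resolve_left s2
    rw [dif_pos hi, h1, smul_mul_assoc, map_smul, S, Finset.sum_mul, map_sum,
      Finset.sum_eq_single (-u / ((s : K) - 1))]
    · have e1 : mulH E K s (-u / ((s : K) - 1)) - -u / ((s : K) - 1) = -u := by
        rw [mulH_apply]
        field_simp
        ring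
      dsimp only
      rw [e1, smul_mul_assoc, he, smul_smul, neg_add_cancel, h0, map_smul, LinearMap.trace_one, hd,
        f0, finrank_bot, add_zero, kt.rk, ← AddChar.map_add_eq_mul, AddChar.inv_apply]
      have e2 : -B (-u) (-u / ((s : K) - 1)) + B (-u) u =
          -Algebra.trace E K (u ^ (q ^ 11 + 1) * kap s) := by
        rw [neg_left, neg_left, neg_neg, ← sub_eq_add_neg, ← map_sub, kt.form, ← map_neg]
        congr 1
        rw [kap]
        field_simp
        ring
      rw [e2, smul_eq_mul, smul_eq_mul]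
      field_simp
    · intro w _ hw
      dsimp only
      rw [smul_mul_assoc, he, smul_smul, map_smul, ht, smul_zero]
      intro c
      apply hw
      rw [mulH_apply] at c
      rw [eq_div_iff s2]
      linear_combination c
    · intro h
      exact absurd (Finset.mem_univ _) h

end Cfsg.Agent.H5.UvWr
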