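import Cfsg.Agent.H96.VbDefs
import Cfsg.Agent.H92.UL3

/-!
Automorphisms of the subgroup `Q` of the Sylow subgroup of the large Ree groups.
-/

set_option autoImplicit false
set_option linter.unusedSimpArgs false
set_option linter.unnecessarySeqFocus false

namespace Cfsg.Agent.H5.VB

open Cfsg.Agent.H39 Cfsg.Agent.H15.O8 Cfsg.Agent.H97 Cfsg.Agent.H96.VB Cfsg.Agent.H92.UL Subgroup
open scoped commutatorElement

universe u

section general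

variable {G : Type u} [Group G] {P : Subgroup G}

/-- An automorphism which is trivial on the factors of a chain has 2-power order. -/
theorem two_of_chain [Finite G] (hG : IsPGroup 2 G) (p : MulAut P → Prop)
    (hp : ∀ α, p α → ∀ n : ℕ, p (α ^ n)) (L : List (Subgroup G))
    (hL : ∀ α, p α → List.IsChain (fun X Y : Subgroup G => X ≤ P ∧ ∀ x ∈ X, x⁻¹ * ext α x ∈ Y)
      (P :: L ++ [⊥])) (α : MulAut P) (h : p α) : ∃ k, α ^ 2 ^ k = 1 := by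
  obtain ⟨k, m, hm, e⟩ := Nat.exists_eq_two_pow_mul_odd (orderOf_pos α).ne'
  refine ⟨k, ?_⟩
  set β := α ^ 2 ^ k with hβ
  have ho : Odd (orderOf β) := by
    refine hm.of_dvd_nat (orderOf_dvd_of_pow_eq_one ?_)
    rw [hβ, ← pow_mul, ← e, pow_orderOf_eq_one]
  have key : ∀ (M : List (Subgroup G)) (X : Subgroup G),
      List.IsChain (fun X Y : Subgroup G => X ≤ P ∧ ∀ x ∈ X, x⁻¹ * ext β x ∈ Y) (X :: M ++ [⊥]) →
      ∀ x ∈ X, ext β x = x := by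
    intro M
    induction M with
    | nil =>
      intro X hX x hx
      have := (List.isChain_pair.1 hX).2 x hx
      rw [mem_bot, inv_mul_eq_one] at this
      exact this.symm
    | cons Y M ih =>
      intro X hX x hx
      obtain ⟨⟨h1, h2⟩, h3⟩ := List.isChain_cons_cons.1 hX
      have h4 := ih Y h3 _ (h2 x hx)
      have h5 : β ((⟨x, h1 hx⟩ : P)⁻¹ * β ⟨x, h1 hx⟩) = (⟨x, h1 hx⟩ : P)⁻¹ * β ⟨x, h1 hx⟩ := by
        apply Subtype.ext
        rw [← ext_coe]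
        simpa [← ext_apply] using h4
      rw [ext_apply β (h1 hx), odd_fix (hG.to_subgroup P) ho h5]
  exact aut_eq_one (key L P (hL β (hp α h _)))

theorem Ch.quot {X : Subgroup G} (h : Ch P X) (α : MulAut P) {x y : G} (hx : x ∈ P) (hy : y ∈ P) :
    (ext α x)⁻¹ * ext α y ∈ X ↔ x⁻¹ * y ∈ X := by
  have hm := mul_mem (P.inv_mem hx) hy
  rw [← ext_map_inv α hx, ← ext_map_mul α (P.inv_mem hx) hy]
  exact ⟨fun e => by simpa using h.2 α⁻¹ _ (ext_mem α hm) e, h.2 α _ hm⟩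

theorem Ch.mem {X : Subgroup G} (h : Ch P X) (α : MulAut P) {x : G} (hx : x ∈ X) : ext α x ∈ X :=
  h.2 α x (h.1 hx) hx

theorem triv_pow {X : Subgroup G} (α : MulAut P) (e : ∀ x ∈ P, x⁻¹ * ext α x ∈ X)
    (n : ℕ) : ∀ x ∈ P, x⁻¹ * ext (α ^ n) x ∈ X := by
  induction n with
  | zero => intro x _; simp
  | succ n ih =>
    intro x hx
    have := mul_mem (e x hx) (ih _ (ext_mem α hx))
    rwa [mul_assoc, mul_inv_cancel_left, ← ext_mul, ← pow_succ] at this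

end general

variable {K : Type u} [Field K] {T : Tits K}

/-- the image in `Q / D` -/
def bar (x : U T) : K × K × K × K := (x.a1, x.b2, x.b6, x.a7)

/-- the image in `V / Z` -/
def vbar (x : U T) : K × K × K × K := (x.a2, x.a3, x.a5, x.a6)

/-- the symplectic form -/
def fm (w v : K × K × K × K) : K :=
  w.1 * v.2.2.2 + w.2.1 * v.2.2.1 + w.2.2.1 * v.2.1 + w.2.2.2 * v.1

variable (T) in
/-- the squaring map -/
def sqm (w : K × K × K × K) : K × K × K × K :=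
  (w.2.1 * T.θ w.2.1 + T.θ w.1 * w.2.2.1, w.1 * T.θ w.2.2.1 + T.θ w.1 * w.2.2.2,
    w.1 * T.θ w.2.2.2 + T.θ w.2.1 * w.2.2.2, w.2.2.1 * T.θ w.2.2.1 + w.2.1 * T.θ w.2.2.2)

variable (T) in
/-- a section of `bar` -/
def lf (w : K × K × K × K) : U T := ⟨w.1, w.2.1, 0, 0, 0, 0, 0, w.2.2.1, 0, w.2.2.2, 0, 0⟩

variable (T) in
/-- a section of `vbar` -/
def vlf (w : K × K × K × K) : U T := ⟨0, 0, w.1, w.2.1, 0, 0, w.2.2.1, 0, w.2.2.2, 0, 0, 0⟩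

theorem lf_mem (w : K × K × K × K) : lf T w ∈ Q T := ⟨rfl, rfl⟩

theorem vlf_mem (w : K × K × K × K) : vlf T w ∈ V T := ⟨rfl, rfl, rfl, rfl, rfl, rfl, rfl⟩

@[simp] theorem bar_lf (w : K × K × K × K) : bar (lf T w) = w := rfl

@[simp] theorem vbar_vlf (w : K × K × K × K) : vbar (vlf T w) = w := rfl

theorem V_le_D : V T ≤ D T := fun _ ⟨h1, h2, _, h4, h5, h6, h7⟩ => ⟨h1, h2, h4, h5, h6, h7⟩

theorem D_le_Q : D T ≤ Q T := fun _ h => ⟨h.2.2.2.2.1, h.2.2.2.2.2⟩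

theorem V_le_Q : V T ≤ Q T := V_le_D.trans D_le_Q

theorem Z_le_V : Z T ≤ V T := fun _ ⟨h1, h2, _, _, h5, _, h7, _, h9, h10, h11⟩ =>
  ⟨h1, h2, h5, h7, h9, h10, h11⟩

theorem bar_mul {x y : U T} (hx : x ∈ Q T) (hy : y ∈ Q T) : bar (x * y) = bar x + bar y := by
  obtain ⟨h1, h2⟩ := hx
  obtain ⟨k1, k2⟩ := hy
  simp only [bar, Prod.mk_add_mk, Prod.mk.injEq]
  o8s
  simp only [h1, h2, k1, k2]
  refine ⟨?_, ?_, ?_, ?_⟩ <;> o8ring T

theorem barD {x y : U T} (hx : x ∈ Q T) (hy : y ∈ Q T) : x⁻¹ * y ∈ D T ↔ bar x = bar y := by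
  obtain ⟨h1, h2⟩ := hx
  obtain ⟨k1, k2⟩ := hy
  simp only [bar, Prod.mk.injEq]
  o8s
  simp only [h1, h2, k1, k2]
  o8g T

theorem barZ {x y : U T} (hx : x ∈ V T) (hy : y ∈ V T) : x⁻¹ * y ∈ Z T ↔ vbar x = vbar y := by
  obtain ⟨h1, h2, h3, h4, h5, h6, h7⟩ := hx
  obtain ⟨k1, k2, k3, k4, k5, k6, k7⟩ := hy
  simp only [vbar, Prod.mk.injEq]
  o8s
  simp only [h1, h2, h3, h4, h5, h6, h7, k1, k2, k3, k4, k5, k6, k7]
  o8g T

theorem barV {x y : U T} (hx : x ∈ D T) (hy : y ∈ D T) : x⁻¹ * y ∈ V T ↔ x.b4 = y.b4 := by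
  obtain ⟨h1, h2, h3, h4, h5, h6⟩ := hx
  obtain ⟨k1, k2, k3, k4, k5, k6⟩ := hy
  o8s
  simp only [h1, h2, h3, h4, h5, h6, k1, k2, k3, k4, k5, k6]
  o8g T

theorem b4_mul {x y : U T} (hx : x ∈ D T) : (x * y).b4 = x.b4 + y.b4 := by
  obtain ⟨h1, h2, h3, h4, h5, h6⟩ := hx
  o8s
  simp only [h5, h6]
  o8ring T

theorem cmQV {x v : U T} (hx : x ∈ Q T) (hv : v ∈ V T) : ⁅x, v⁆ = x4 T (fm (bar x) (vbar v)) := by
  obtain ⟨h1, h2, h3, h4, h5, h6, h7⟩ := hv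
  obtain ⟨k1, k2⟩ := hx
  rw [commutatorElement_def, mul_inv_eq_iff_eq_mul, mul_inv_eq_iff_eq_mul]
  simp only [fm, bar, vbar]
  ext <;> o8s <;> (try simp only [h1, h2, h3, h4, h5, h6, h7, k1, k2]) <;> o8ring T

theorem cmQD {x d : U T} (hx : x ∈ Q T) (hd : d ∈ D T) :
    ⁅x, d⁆ ∈ V T ∧ vbar ⁅x, d⁆ = d.b4 • bar x := by
  obtain ⟨h1, h2, h3, h4, h5, h6⟩ := hd
  obtain ⟨k1, k2⟩ := hx
  simp only [bar, vbar, Prod.smul_mk, smul_eq_mul, Prod.mk.injEq]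
  o8s
  simp only [h1, h2, h3, h4, h5, h6, k1, k2]
  refine ⟨⟨?_, ?_, ?_, ?_, ?_, ?_, ?_⟩, ?_, ?_, ?_, ?_⟩ <;> o8ring T

theorem sqQ {x : U T} (hx : x ∈ Q T) :
    x * x ∈ V T ∧ vbar (x * x) = sqm T (bar x) + x.b4 • bar x := by
  obtain ⟨k1, k2⟩ := hx
  simp only [bar, vbar, sqm, Prod.smul_mk, smul_eq_mul, Prod.mk_add_mk, Prod.mk.injEq]
  o8s
  simp only [k1, k2]
  refine ⟨⟨?_, ?_, ?_, ?_, ?_, ?_, ?_⟩, ?_, ?_, ?_, ?_⟩ <;> o8ring T

theorem sqD' {d : U T} (hd : d ∈ D T) : d * d = x4 T (d.b4 * T.θ d.b4) := by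
  obtain ⟨h1, h2, h3, h4, h5, h6⟩ := hd
  ext <;> o8s <;> (try simp only [h1, h2, h3, h4, h5, h6]) <;> o8ring T

theorem eq_x4 {z : U T} (hz : z ∈ Z T) : z = x4 T z.a4 := by
  obtain ⟨h1, h2, h3, h4, h5, h6, h7, h8, h9, h10, h11⟩ := hz
  ext <;> first | assumption | rfl

theorem x4_mem (t : K) : x4 T t ∈ Z T := by o8s

theorem y4_mem (t : K) : y4 T t ∈ D T := by o8s

theorem chQZ : Ch (Q T) (Z T) :=
  Ch.of_iff IvS.one.commP fun g =>
    ⟨fun h => ⟨V_le_Q (Z_le_V h), fun x _ =>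
      commutatorElement_eq_one_iff_mul_comm.2 (cZ g h x).symm⟩,
    fun h => cQ g fun u hu => commutatorElement_eq_one_iff_mul_comm.1 (h.2 u hu)⟩

theorem chQV : Ch (Q T) (V T) :=
  Ch.of_iff chQZ.2.commP fun g =>
    ⟨fun h => ⟨V_le_Q h, fun x hx => by
      rw [← commutatorElement_inv, cmQV hx h]; exact (Z T).inv_mem (x4_mem _)⟩,
    fun ⟨h, e⟩ => by
      have e1 := (cmQD h (y4_mem 1)).2
      obtain ⟨-, -, a2, a3, -, a5, -, a6, -⟩ := e _ (D_le_Q (y4_mem 1))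
      rw [vbar, a2, a3, a5, a6] at e1
      simp only [bar, y4, one_smul, Prod.mk.injEq] at e1
      have hD : g ∈ D T := ⟨e1.1.symm, e1.2.1.symm, e1.2.2.1.symm, e1.2.2.2.symm, h.1, h.2⟩
      have e2 := congrArg Prod.fst (cmQD (x := x1 T 1) ⟨rfl, rfl⟩ hD).2
      have e3 := ((Z T).inv_mem (e (x1 T 1) ⟨rfl, rfl⟩)).2.2.1
      rw [commutatorElement_inv] at e3
      rw [vbar, e3] at e2
      simp only [bar, x1, Prod.smul_mk, smul_eq_mul, mul_one] at e2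
      exact ⟨hD.1, hD.2.1, e2.symm, hD.2.2.1, hD.2.2.2.1, h.1, h.2⟩⟩

theorem chQD : Ch (Q T) (D T) := by
  have : D T = Q T ⊓ centralizer (V T : Set (U T)) := by
    ext g
    exact ⟨fun h => ⟨D_le_Q h, fun v hv => ((cV g).1 h v hv).symm⟩,
      fun h => (cV g).2 fun v hv => (h.2 v hv).symm⟩
  exact this ▸ chQV.cent

theorem quoD (α : MulAut (Q T)) {x y : U T} (hx : x ∈ Q T) (hy : y ∈ Q T) :
    bar (ext α x) = bar (ext α y) ↔ bar x = bar y := by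
  rw [← barD hx hy, ← barD (ext_mem α hx) (ext_mem α hy), Ch.quot chQD α hx hy]

theorem quoZ (α : MulAut (Q T)) {x y : U T} (hx : x ∈ V T) (hy : y ∈ V T) :
    vbar (ext α x) = vbar (ext α y) ↔ vbar x = vbar y := by
  rw [← barZ hx hy, ← barZ (Ch.mem chQV α hx) (Ch.mem chQV α hy),
    Ch.quot chQZ α (V_le_Q hx) (V_le_Q hy)]

theorem quoV (α : MulAut (Q T)) {x y : U T} (hx : x ∈ D T) (hy : y ∈ D T) :
    (ext α x).b4 = (ext α y).b4 ↔ x.b4 = y.b4 := by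
  rw [← barV hx hy, ← barV (Ch.mem chQD α hx) (Ch.mem chQD α hy),
    Ch.quot chQV α (D_le_Q hx) (D_le_Q hy)]

theorem bar_one : bar (1 : U T) = 0 := rfl

theorem bar_ext_eq_zero (α : MulAut (Q T)) {x : U T} (hx : x ∈ Q T) :
    bar (ext α x) = 0 ↔ bar x = 0 := by
  rw [← bar_one (T := T), ← quoD α hx (one_mem _), ext_map_one]

theorem bar_ext_add (α : MulAut (Q T)) {x y z : U T} (hx : x ∈ Q T) (hy : y ∈ Q T) (hz : z ∈ Q T)
    (h : bar z = bar x + bar y) : bar (ext α z) = bar (ext α x) + bar (ext α y) := by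
  rw [← bar_mul (ext_mem α hx) (ext_mem α hy), ← ext_map_mul α hx hy, quoD α hz (mul_mem hx hy),
    bar_mul hx hy, h]

theorem fm_smul (c : K) (w v : K × K × K × K) : fm w (c • v) = c * fm w v := by
  simp only [fm, Prod.smul_fst, Prod.smul_snd, smul_eq_mul]; ring

/-- The invariants of an automorphism of `Q`. -/
structure Dat (γ : U T → U T) (c : K) (φ : RingAut K) : Prop where
  ne : c ≠ 0
  b4 : ∀ d ∈ D T, (γ d).b4 = c * φ d.b4
  z : ∀ t, γ (x4 T t) = x4 T (c * T.θ c * φ t)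
  v : ∀ x ∈ Q T, ∀ v ∈ V T, vbar v = bar x → vbar (γ v) = c • bar (γ x)
  sm : ∀ x ∈ Q T, ∀ y ∈ Q T, ∀ b : K, bar y = b • bar x → bar (γ y) = φ b • bar (γ x)
  fm : ∀ x ∈ Q T, ∀ y ∈ Q T, fm (bar (γ x)) (bar (γ y)) = T.θ c * φ (fm (bar x) (bar y))
  sq : ∀ x ∈ Q T, ∀ y ∈ Q T, bar y = sqm T (bar x) →
    ∃ l : K, c • bar (γ y) = sqm T (bar (γ x)) + l • bar (γ x)

theorem exists_dat [Finite K] (α : MulAut (Q T)) : ∃ c φ, Dat (ext α) c φ := by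
  have _o8 := T.charP
  let g : K → K := fun b => (ext α (y4 T b)).b4
  have gd : ∀ d ∈ D T, (ext α d).b4 = g d.b4 := fun d hd => (quoV α hd (y4_mem _)).2 rfl
  have ga : ∀ a b, g (a + b) = g a + g b := fun a b => by
    have h := gd _ (mul_mem (y4_mem a) (y4_mem b))
    rw [ext_map_mul α (D_le_Q (y4_mem a)) (D_le_Q (y4_mem b)), b4_mul (Ch.mem chQD α (y4_mem a)),
      b4_mul (y4_mem a)] at h
    exact h.symm
  have g0 : g 0 = 0 := by simpa using ga 0 0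
  have hc : g 1 ≠ 0 := fun h =>
    one_ne_zero (α := K) ((quoV α (y4_mem 1) (y4_mem 0)).1 (h.trans g0.symm))
  have r1 : ∀ x ∈ Q T, ∀ b : K, ∀ v ∈ V T, vbar v = b • bar x →
      vbar (ext α v) = g b • bar (ext α x) := fun x hx b v hv h => by
    obtain ⟨h1, h2⟩ := cmQD hx (y4_mem b)
    rw [(quoZ α hv h1).2 (h.trans h2.symm), ext_map_comm α hx (D_le_Q (y4_mem b)),
      (cmQD (ext_mem α hx) (Ch.mem chQD α (y4_mem b))).2]
  have sm : ∀ x ∈ Q T, ∀ y ∈ Q T, ∀ b : K, bar y = b • bar x →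
      bar (ext α y) = (g b / g 1) • bar (ext α x) := fun x hx y hy b h => by
    have e := (r1 y hy 1 _ (vlf_mem (bar y)) (by simp)).symm.trans (r1 x hx b _ (vlf_mem (bar y)) h)
    rw [div_eq_inv_mul, mul_smul, ← e, inv_smul_smul₀ hc]
  let φ0 : K →+* K :=
    { toFun := fun b => g b / g 1
      map_one' := div_self hc
      map_zero' := by rw [g0, zero_div]
      map_add' := fun a b => by rw [ga, add_div]
      map_mul' := fun a b => by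
        have m : ∀ t, x1 T t ∈ Q T := fun _ => ⟨rfl, rfl⟩
        have h0 : bar (ext α (x1 T 1)) ≠ 0 := fun h => by
          simpa [bar, x1] using (bar_ext_eq_zero α (m 1)).1 h
        refine smul_left_injective K h0 ?_
        show _ • _ = (_ * _) • _
        rw [← sm _ (m 1) _ (m (a * b)) (a * b) (by simp [bar, x1]), mul_smul,
          ← sm _ (m 1) _ (m b) b (by simp [bar, x1]), ← sm _ (m b) _ (m (a * b)) a (by simp [bar, x1])] }
  let φ : RingAut K := RingEquiv.ofBijective φ0 (Finite.injective_iff_bijective.1 φ0.injective)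
  have gφ : ∀ b, g b = g 1 * φ b := fun b => (mul_div_cancel₀ _ hc).symm
  have hz : ∀ t, ext α (x4 T t) = x4 T (g 1 * T.θ (g 1) * φ t) := fun t => by
    obtain ⟨b, rfl⟩ := nrm_surj (T := T) t
    have h := sqD' (Ch.mem chQD α (y4_mem b))
    rw [← ext_map_mul α (D_le_Q (y4_mem b)) (D_le_Q (y4_mem b)), sq4] at h
    rw [h, map_mul, aut_θ]
    show x4 T (g b * T.θ (g b)) = _
    rw [gφ b, map_mul]; congr 1; ring
  have hv : ∀ x ∈ Q T, ∀ v ∈ V T, vbar v = bar x → vbar (ext α v) = g 1 • bar (ext α x) :=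
    fun x hx v hv h => r1 x hx 1 v hv (by simpa using h)
  refine ⟨g 1, φ, hc, fun d hd => (gd d hd).trans (gφ _), hz, hv, sm, fun x hx y hy => ?_,
    fun x hx y hy h => ?_⟩
  · have h := ext_map_comm α hx (V_le_Q (vlf_mem (bar y)))
    rw [cmQV hx (vlf_mem _), hz, cmQV (ext_mem α hx) (Ch.mem chQV α (vlf_mem _)),
      hv y hy _ (vlf_mem _) rfl, fm_smul] at h
    refine mul_left_cancel₀ hc ?_
    rw [← mul_assoc]
    exact (congrArg U.a4 h).symm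
  · obtain ⟨h1, h2⟩ := sqQ hx
    have m := lf_mem (T := T) (x.b4 • bar x)
    have e := hv _ (mul_mem hy m) _ h1 (by rw [bar_mul hy m, h2, h, bar_lf])
    rw [ext_map_mul α hx hx, (sqQ (ext_mem α hx)).2, ext_map_mul α hy m,
      bar_mul (ext_mem α hy) (ext_mem α m), sm x hx _ m x.b4 rfl, smul_add, smul_smul] at e
    refine ⟨(ext α x).b4 - g 1 * (g x.b4 / g 1), ?_⟩
    rw [sub_smul, ← add_sub_assoc, e, add_sub_cancel_right]

theorem bar_ext_eq {α : MulAut (Q T)} {c : K} {φ : RingAut K} (h : Dat (ext α) c φ) {x : U T}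
    (hx : x ∈ Q T) : bar (ext α x) = φ x.a1 • bar (ext α (x1 T 1)) + φ x.b2 • bar (ext α (y2 T 1)) +
      φ x.b6 • bar (ext α (y6 T 1)) + φ x.a7 • bar (ext α (x7 T 1)) := by
  have m1 : ∀ t, x1 T t ∈ Q T := fun _ => ⟨rfl, rfl⟩
  have m2 : ∀ t, y2 T t ∈ Q T := fun _ => ⟨rfl, rfl⟩
  have m6 : ∀ t, y6 T t ∈ Q T := fun _ => ⟨rfl, rfl⟩
  have m7 : ∀ t, x7 T t ∈ Q T := fun _ => ⟨rfl, rfl⟩
  rw [← h.sm _ (m1 1) _ (m1 x.a1) _ (by simp [bar, x1]), ← h.sm _ (m2 1) _ (m2 x.b2) _ (by simp [bar, y2]),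
    ← h.sm _ (m6 1) _ (m6 x.b6) _ (by simp [bar, y6]), ← h.sm _ (m7 1) _ (m7 x.a7) _ (by simp [bar, x7]),
    ← bar_ext_add α (m1 _) (m2 _) (lf_mem (x.a1, x.b2, 0, 0)) (by simp [bar, lf, x1, y2]),
    ← bar_ext_add α (lf_mem _) (m6 _) (lf_mem (x.a1, x.b2, x.b6, 0)) (by simp [bar, lf, y6]),
    ← bar_ext_add α (lf_mem _) (m7 _) hx (by simp [bar, lf, x7])]

theorem semQ [Finite K] (α : MulAut (Q T)) (h1 : ∃ t, (x1 T t)⁻¹ * ext α (x1 T 1) ∈ D T)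
    (h7 : ∃ t, (x7 T t)⁻¹ * ext α (x7 T 1) ∈ D T) :
    ∃ c φ, ∀ x ∈ Q T, (tor T c (fld T φ x))⁻¹ * ext α x ∈ D T := by
  have _o8 := T.charP
  have m1 : ∀ t, x1 T t ∈ Q T := fun _ => ⟨rfl, rfl⟩
  have m2 : ∀ t, y2 T t ∈ Q T := fun _ => ⟨rfl, rfl⟩
  have m6 : ∀ t, y6 T t ∈ Q T := fun _ => ⟨rfl, rfl⟩
  have m7 : ∀ t, x7 T t ∈ Q T := fun _ => ⟨rfl, rfl⟩
  obtain ⟨c1, h1⟩ := h1
  obtain ⟨c7, h7⟩ := h7
  obtain ⟨c, φ, h⟩ := exists_dat α
  replace h1 := ((barD (m1 _) (ext_mem α (m1 1))).1 h1).symm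
  replace h7 := ((barD (m7 _) (ext_mem α (m7 1))).1 h7).symm
  have key := fun x (hx : x ∈ Q T) => bar_ext_eq h hx
  have f17 := h.fm _ (m1 1) _ (m7 1)
  have f12 := h.fm _ (m1 1) _ (m2 1)
  have f16 := h.fm _ (m1 1) _ (m6 1)
  have f72 := h.fm _ (m7 1) _ (m2 1)
  have f76 := h.fm _ (m7 1) _ (m6 1)
  have f26 := h.fm _ (m2 1) _ (m6 1)
  obtain ⟨l2, s2⟩ := h.sq _ (m2 1) _ (m1 1) (by simp [bar, sqm, x1, y2])
  obtain ⟨l6, s6⟩ := h.sq _ (m6 1) _ (m7 1) (by simp [bar, sqm, x7, y6])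
  have hc := h.ne
  have hc' := T.θ_ne_zero.2 hc
  clear h
  rw [h1, h7] at *
  generalize bar (ext α (y2 T 1)) = p at *
  generalize bar (ext α (y6 T 1)) = r at *
  obtain ⟨p1, p2, p3, p4⟩ := p
  obtain ⟨r1, r2, r3, r4⟩ := r
  simp only [fm, bar, sqm, x1, y2, y6, x7, Prod.smul_mk, Prod.mk_add_mk, Prod.mk.injEq, smul_eq_mul,
    mul_zero, zero_mul, add_zero, zero_add, mul_one, map_one, map_zero] at f17 f12 f16 f72 f76 f26 s2 s6
  have n1 : c1 ≠ 0 := left_ne_zero_of_mul (f17 ▸ hc')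
  have n7 : c7 ≠ 0 := right_ne_zero_of_mul (f17 ▸ hc')
  obtain rfl : p4 = 0 := (mul_eq_zero.1 f12).resolve_left n1
  obtain rfl : r4 = 0 := (mul_eq_zero.1 f16).resolve_left n1
  obtain rfl : p1 = 0 := (mul_eq_zero.1 f72).resolve_left n7
  obtain rfl : r1 = 0 := (mul_eq_zero.1 f76).resolve_left n7
  obtain rfl : p3 = 0 := nrm_eq_zero (T := T) (by simpa using s2.2.2.2.symm)
  obtain rfl : r2 = 0 := nrm_eq_zero (T := T) (by simpa using s6.1.symm)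
  have e6 : c * c7 = r3 * T.θ r3 := by simpa using s6.2.2.2
  have e2 : p2 * r3 = T.θ c := by simpa using f26
  have n6 : r3 ≠ 0 := right_ne_zero_of_mul (e2 ▸ hc')
  have n6' := T.θ_ne_zero.2 n6
  refine ⟨(Units.mk0 c hc, Units.mk0 r3 n6), φ, fun x hx => ?_⟩
  have hm : tor T (Units.mk0 c hc, Units.mk0 r3 n6) (fld T φ x) ∈ Q T := by
    simp [tor_apply, fld_apply, fmap, sc, mem_Q, hx.1, hx.2]
  rw [barD hm (ext_mem α hx), key x hx]
  simp only [tor_apply, fld_apply, fmap, sc, bar, x1, x7, Units.val_mk0, Prod.smul_mk, Prod.mk_add_mk,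
    Prod.mk.injEq, smul_eq_mul, mul_zero, add_zero, zero_add, map_inv₀]
  refine ⟨?_, ?_, ?_, ?_⟩
  · rw [← f17]; field_simp; rw [← e6]
  · rw [← e2]; field_simp
  · ring
  · rw [← e6]; field_simp

theorem kerQ0 [Finite K] (α : MulAut (Q T)) (hα : ∀ x ∈ Q T, x⁻¹ * ext α x ∈ D T) :
    (∀ d ∈ D T, d⁻¹ * ext α d ∈ V T) ∧ (∀ v ∈ V T, v⁻¹ * ext α v ∈ Z T) ∧
      ∀ z ∈ Z T, ext α z = z := by
  have m1 : ∀ t, x1 T t ∈ Q T := fun _ => ⟨rfl, rfl⟩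
  have m6 : ∀ t, y6 T t ∈ Q T := fun _ => ⟨rfl, rfl⟩
  have m7 : ∀ t, x7 T t ∈ Q T := fun _ => ⟨rfl, rfl⟩
  obtain ⟨c, φ, h⟩ := exists_dat α
  have hb : ∀ x ∈ Q T, bar (ext α x) = bar x := fun x hx =>
    ((barD hx (ext_mem α hx)).1 (hα x hx)).symm
  have hφ : ∀ t, φ t = t := fun t => by
    have := h.sm _ (m1 1) _ (m1 t) t (by simp [bar, x1])
    rw [hb _ (m1 _), hb _ (m1 _)] at this
    simpa [bar, x1] using this.symm
  obtain rfl : c = 1 := by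
    obtain ⟨l, s⟩ := h.sq _ (m6 1) _ (m7 1) (by simp [bar, sqm, x7, y6])
    rw [hb _ (m6 _), hb _ (m7 _)] at s
    simpa [bar, sqm, x7, y6] using congrArg (fun w => w.2.2.2) s
  refine ⟨fun d hd => (barV hd (Ch.mem chQD α hd)).2 ?_, fun v hv => (barZ hv (Ch.mem chQV α hv)).2 ?_,
    fun z hz => ?_⟩
  · rw [h.b4 d hd, hφ, one_mul]
  · rw [h.v _ (lf_mem (vbar v)) v hv rfl, hb _ (lf_mem _), one_smul, bar_lf]
  · rw [eq_x4 hz, h.z, hφ, map_one, one_mul, one_mul]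

theorem aq1 [Finite K] : AQ1 T where
  chZ := chQZ
  chV := chQV
  chD := chQD
  sem := semQ
  ker α hα := ⟨(kerQ0 α hα).2.1, (kerQ0 α hα).2.2,
    two_of_chain isPGroup_U (fun β => ∀ x ∈ Q T, x⁻¹ * ext β x ∈ D T) (fun β h n => triv_pow β h n)
      [D T, V T, Z T] (fun β h => by
        obtain ⟨h1, h2, h3⟩ := kerQ0 β h
        refine .cons_cons ⟨le_rfl, h⟩ (.cons_cons ⟨D_le_Q, h1⟩ (.cons_cons ⟨V_le_Q, h2⟩
          (.cons_cons ⟨Z_le_V.trans V_le_Q, fun z hz => ?_⟩ (.singleton _))))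
        rw [h3 z hz, inv_mul_cancel]; exact one_mem _) α hα⟩

end Cfsg.Agent.H5.VB
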