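import Mathlib
import Cfsg.Agent.H5.PE7
import Cfsg.Agent.H97.XSBase

/-!
# Pearls in a `p`-group with an extraspecial subgroup of index `p`
-/

set_option autoImplicit false

namespace Cfsg.Agent.H5.PE

open Cfsg Cfsg.FusionSystem Cfsg.Agent.H97 Cfsg.Agent.H98 Cfsg.Agent.H96 Cfsg.Agent.S5264 Cfsg.Agent.H97.XS
open scoped commutatorElement

universe u

theorem xs_pearl : PearlStmt.{u} := by
  intro Ω _ p hp S Q E _ F z _ h hE
  obtain ⟨n, hn⟩ := IsPGroup.iff_card.1 h.pS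
  have h6 := h.six
  rw [hn, Nat.pow_le_pow_iff_right hp.out.one_lt] at h6
  obtain ⟨c, rfl⟩ : ∃ c, n = c + 2 := ⟨n - 2, by omega⟩
  have k : EX p F E c := ⟨⟨mxC_of_pearl h.ES h.cE (Or.inl hE) hn, by omega⟩, h.sat, h.ess⟩
  have := k.fin
  have ec : c - 1 + 1 = c := by omega
  have hz : Subgroup.zpowers z = PP S c := zpowers_eq_of_card_eq (by simpa using k.card_PP c.le_succ)
    (k.center_eq'.le (mem_centralizerIn_comm.2 ⟨h.le h.zQ, fun g hg => (h.zc g hg).symm.eq⟩)) h.z1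
  have h1 : lc S 1 ≤ Q := (comm_le_Phi k.pg).trans (Phi_le_of_relIndex_dvd k.pg h.le h.idx.dvd)
  have hQ : PP S 0 = Q := k.eq_Kc_of_le h.idx le_rfl k.c2 fun x hx => ⟨h.le hx, fun y hy =>
    PP_anti (i := 3) (by omega) (hz.le (comm_inv_eq y x ▸ h.comm _ (Q.inv_mem (h1 hy)) x hx))⟩
  subst hQ
  have hx : Kc S (c - 1) ≠ PP S 0 := fun e => k.not_le (i := c - 1) (by omega) (by omega) fun y hy =>
    hz.le (h.cen y (PP_le0 _ hy) fun x hx => mul_inv_eq_iff_eq_mul.1 (k.Q_conj' (e.ge hx) hy))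
  obtain ⟨-, -, c5⟩ := k.exc hx
  have ne : ∀ {i}, 2 < i → Nat.card E ≠ p ^ i := fun hi e => by
    have := Nat.pow_right_injective hp.out.two_le (e.symm.trans hE)
    omega
  obtain ⟨e, heE, hu⟩ := (k.tri k.sat k.ess).resolve_right fun e =>
    e.elim (fun e => ne (by omega) (e ▸ k.card_PP (by omega))) fun e => ne (by omega) (e ▸ k.card_Q)
  have h2 := (k.uni_inf heE hu).resolve_right fun e => ne (by omega) (k.card_of heE (k.uni0 hu) e (by omega))
  have hi := k.rel_dvd' h2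
  have h3 := eq_of_relIndex_dvd_of_lt bot_le (Phi_le_of_relIndex_dvd k.pgE k.ZE hi) (fun e => ess_not_relIndex_Phi_dvd
    k.pg k.sat k.ess ((Subgroup.relIndex_dvd_of_le_left _ e).trans hi)) (by simpa [k.bot le_rfl] using k.rel_dvd c)
  obtain ⟨g, hg, hg'⟩ := k.exists_lev (i := c - 1) (by omega)
  have gE : g ∉ E := fun e => hg' (ec.symm ▸ h2.le ⟨e, PP_le0 _ hg⟩)
  obtain ⟨l, hl⟩ := exists_gen p
  have l0 : l ≠ 0 := by rintro rfl; rw [orderOf_zero] at hl; omega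
  have l2 : l ≠ l⁻¹ := fun e => absurd (gen_inj hl (i := 2) (j := 0) (by omega) (by omega)
    (by rw [sq, pow_zero]; exact (mul_eq_one_iff_eq_inv₀ l0).2 e)) (by omega)
  obtain ⟨w, w1, -, w3, w4, ⟨x, x1, x2, x3⟩, -⟩ := (tv_of_le k.pg k.ess (k.le_T (ec.symm ▸ k.ZE) hg) gE h3.le bot_le k.ZE
    (autInv_bot F E) (by simpa [k.bot le_rfl] using k.rel_dvd c) (fun x hx => ec ▸ k.commS _ (conj_mem_comm hx hg))
    (fun x hx => by simp [k.Z_conj (PP_le _ hg) hx]) fun x hx => by simp [Subgroup.mem_bot.1 hx]).torus' k.pg k.sat k.ess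
      (a := l.val) (b := (l⁻¹).val) ((ZMod.natCast_eq_natCast_iff _ _ _).1 (by simp [l0]))
  obtain ⟨β, -, hβ⟩ := exists_aut_of_not_le k.pg k.sat (fun E' hE' e => by
    have h4 := e (Subgroup.mem_sup_left heE)
    have h5 := ((k.of hE').uni_inf h4 hu).resolve_left fun e' => hg' (ec.symm ▸ e'.le
      ⟨e (Subgroup.mem_sup_right (Subgroup.mem_zpowers g)), PP_le0 _ hg⟩)
    exact (k.of hE').exc_pearl hx h4 hu (((k.of hE').card_of h4 (k.uni0 hu) h5 (by omega)).trans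
      (by congr 1; omega))) w1
  obtain ⟨α, u, v⟩ := k.exists_wt β
  have hw : ∀ {y}, y ∈ E → w y = ext β y := fun hy => hβ _ (Subgroup.mem_sup_left hy)
  have u1 : u c = l := by
    obtain ⟨y, hy, hy'⟩ := k.exists_lev (le_refl c)
    exact (k.wt_eq v hy hy' (hw (k.ZE hy) ▸ bot_le (a := PP S _) (w4 y hy))).trans (ZMod.natCast_zmod_val l)
  have u2 : u (c - 1) = l ^ 2 := by
    rw [hβ g (Subgroup.mem_sup_right (Subgroup.mem_zpowers g))] at w3
    have := nconj' (PP_normal _ (S.pow_mem (PP_le _ hg) (l.val ^ 2)))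
      (h2.le ⟨w3, PP_le0 _ (mul_mem (iv_PP β _ g hg) ((PP S _).inv_mem (pow_mem hg _)))⟩)
    rw [k.wt_eq v hg hg' (k := l.val ^ 2) (by simpa [mul_assoc, ec] using this), Nat.cast_pow, ZMod.natCast_zmod_val]
  have u3 : α = l⁻¹ := by
    exact (k.wt_top v (k.leS x1) (fun e => x2 (by simp [k.Z_conj (PP_le _ hg) (h2.le ⟨x1, e⟩)]))
      (hw x1 ▸ bot_le (a := PP S _) x3)).trans (ZMod.natCast_zmod_val _)
  have u4 : u 0 = l⁻¹ := by
    have := k.wt_exc v hx (i := 0) (j := c - 1) (by omega)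
    rw [u1, u2] at this
    field_simp
    exact mul_left_cancel₀ l0 (by linear_combination -this)
  have h4 : c + 2 = p - 1 := by
    have := k.wt_add v k.ce (by omega) (i := 0) (j := c - 1) (by omega)
    rw [zero_add, u2, u3, u4, ← pow_succ, ec, inv_pow, ← mul_eq_one_iff_eq_inv₀ (pow_ne_zero _ l0), ← pow_add] at this
    obtain ⟨m, hm⟩ := hl ▸ orderOf_dvd_of_pow_eq_one this
    rcases m with _ | _ | m
    · omega
    · omega
    · rw [mul_add, mul_add] at hm; omega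
  have h5 : ∀ y ∈ PP S 0, y ^ p = 1 := fun y hy => by
    by_contra h5
    have h6 := v.lev 0 y hy
    have := k.wt_eq v (hz.le (h.pow y hy)) (by rwa [k.bot le_rfl]) (k := (u 0).val) (by
      rw [(homOn_ext β).map_pow (PP_le 0 hy), ← mul_inv_cancel_left (y ^ (u 0).val) (ext β y),
        h.mul_pow (pow_mem hy _) (PP_le0 1 h6), k.eq_one le_rfl (k.pow_mem' h6 (by omega) (Or.inr le_rfl)),
        mul_one, ← pow_mul, ← pow_mul, mul_comm, inv_mul_cancel]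
      exact one_mem _)
    rw [u1, ZMod.natCast_zmod_val, u4] at this
    exact l2 this
  have h7 : ∀ x : S, x ^ p = 1 := fun x => by
    obtain ⟨A, -, -, -, hA, -⟩ := H90.exists_omega_mod k.pg (B := ⊤) (Z := ⊥) bot_le fun y hy =>
      Subtype.ext ((k.lc_eq_bot (by omega)).le (mem_lc.1 hy))
    have : S ≤ A.map S.subtype := (sup_zpowers_eq_of_relIndex_dvd (PP_le 0) k.rel0.dvd hu.1 (k.uni0 hu)).ge.trans
      (sup_le (fun y hy => ⟨⟨y, PP_le 0 hy⟩, (hA _).2 ⟨trivial, Subtype.ext (h5 y hy)⟩, rfl⟩) (Subgroup.zpowers_le.2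
        ⟨⟨e, hu.1⟩, (hA _).2 ⟨trivial, Subtype.ext (h3.le (pow_mem_Phi k.pgE heE))⟩, rfl⟩))
    obtain ⟨y, hy, e⟩ := this x.2
    exact Subtype.ext e ▸ ((hA y).1 hy).2
  by_cases h8 : p = 7
  · obtain rfl : c = 4 := by omega
    obtain ⟨t, ht, ht'⟩ := k.exists_mem_Kc (i := 3) (by omega) le_rfl
    have t0 : t ∉ PP S 0 := fun e => ht' ((k.inf_Q hx).le ⟨ht, e⟩)
    have st : ∀ i, i + 1 ≤ 3 → ∀ y, y ∈ PP S i ∧ y ∉ PP S (i + 1) → ⁅y, t⁆ ∈ PP S (i + 1) ∧ ⁅y, t⁆ ∉ PP S (i + 2) :=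
      fun i hi y hy => ⟨PP_commS i (Subgroup.commutator_mem_commutator hy.1 ht.1), fun e =>
        hy.2 (k.un ht.1 t0 i hi y hy.1 ((comm_mem_iff_conj (PP_normal _ (PP_le _ hy.1))).1 e))⟩
    obtain ⟨y, hy⟩ := k.exists_lev (i := 0) (by omega)
    have := st 2 le_rfl _ (st 1 (by omega) _ (st 0 (by omega) y hy))
    exact Or.inl ⟨h8, t, ⟨h.toXQ, hn, h5, ht.1, t0, congrArg Subtype.val (h7 ⟨t, ht.1⟩)⟩, y, hy.1, hz ▸ this.2,
      mul_inv_eq_one.2 (k.Q_conj' ht this.1)⟩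
  refine Or.inr ⟨?_, h4 ▸ hn, h7, le_antisymm (Subgroup.lowerCentralSeries_eq_bot_iff_nilpotencyClass_le.1
    (eq_bot_iff.2 fun y hy => Subtype.ext ((k.lc_eq_bot (by omega)).le (mem_lc.1 hy)))) (le_of_not_gt fun e =>
      k.ne_top (Subgroup.lowerCentralSeries_eq_bot_iff_nilpotencyClass_le.2 (by omega)))⟩
  by_contra h9
  have h10 := hp.out
  have : p = 8 ∨ p = 9 ∨ p = 10 := by omega
  rcases this with rfl | rfl | rfl <;> norm_num at h10

end Cfsg.Agent.H5.PE
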