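import Cfsg.Agent.H56.ZCBk

/-! Blocks: a good element which commutes with its conjugates under a point modulo the centre. -/

set_option autoImplicit false

namespace Cfsg.Agent.H5.ZcP

open Subgroup Cfsg.Agent.H56.FS Cfsg.Agent.H56.ZC
open scoped commutatorElement

universe u

theorem cp : CpStmt.{u} := by
  intro G _ _ p D h ce ζ hζ
  have m := h.toMz.toMc
  obtain ⟨Y, hY, nY⟩ := m.exists_out hζ.1
  obtain ⟨u, hu, uZ, -, wc, -, dd⟩ := m.dd (d := ζ) (by rw [m.gz_sq hζ]; exact one_mem _) hY nY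
  have hY' := m.inv Y hY ζ
  have sL := m.sv_pair hY hY'
  by_cases hz : ZZ D (Y ⊔ cj ζ Y) ≤ center G
  · refine ⟨ζ, hζ, Y, hY, nY, fun a ha => ?_⟩
    rw [dd a ha]
    exact hz (m.cm _ sL u hu _ (conj_mem_RR (le_normalizer (le_LL hY le_sup_left ha)) hu))
  obtain ⟨w, hw, wu, eZ⟩ : ∃ w ∈ RR D (Y ⊔ cj ζ Y), Commute w u ∧ w * w ∉ center G := by
    by_contra hn
    push Not at hn
    refine hz ((m.uu Y hY _ hY' u hu uZ).trans ((closure_le _).2 ?_))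
    rintro _ ⟨w, hw, c, rfl⟩
    exact hn w hw c
  have eL := m.sq _ sL w hw
  have ge := gz_of_Z eL eZ
  have wζ : Commute w ζ := by simpa using wu.mul_right (wc w hw)
  have wN := norm_of_commute m.inv wζ
  obtain ⟨A, hA, Aζ⟩ := exists_pt hζ
  have sB := m.sv_Ce hζ.1
  refine ⟨w * w, ge, A, hA, fun k => nY ?_, fun a ha => ?_⟩
  · have := m.blk_eq hζ eZ (h.n1 _ ge _ (Ce_ne_top hζ.1) A hA Aζ k (mul_mem wN wN))
    exact (le_LL hY ((le_LL hY le_sup_left).trans (LL_le_Ce_of_Z eL))).trans (this.le.trans (LL_le _))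
  obtain ⟨ρ, hρ, Aτ, τN, τ2⟩ := m.split sB hA Aζ wN
  obtain ⟨τ, rfl⟩ : ∃ τ, w = ρ * τ := ⟨ρ⁻¹ * w, by group⟩
  rw [inv_mul_cancel_left] at Aτ τN τ2
  replace τ2 := τ2 ⟨2, by rw [← m.e2 _ sL _ eL, show 2 ^ 2 = 2 + 2 from rfl, pow_add, sq]⟩
  have t0 := m.t0 _ sB A hA Aζ (τ * τ) (τ2.imp fun k e => by rw [← sq, ← pow_mul, pow_mul', e, one_pow])
    (fun b hb => mem_Ce.2 ((show Commute b τ from mem_Ce.1 (Aτ hb)).mul_right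
      (mem_Ce.1 (Aτ hb))).eq) (mul_mem τN τN) fun ε hε => mem_Ce.2 (by
        have z1 := ce ζ hζ τ τ2 τN ε hε
        have z2 := m.Ez_sq hζ (comm_mem_ZZ τN hε)
        have e1 : τ * ε = ⁅τ, ε⁆ * (ε * τ) := by rw [commutatorElement_def]; group
        generalize ⁅τ, ε⁆ = z at z1 z2 e1
        have c := mem_center_iff.1 z1
        calc ε * (τ * τ) = z * z * (ε * τ) * τ := by rw [z2]; group
          _ = z * (τ * ε) * τ := by rw [e1]; group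
          _ = τ * (z * (ε * τ)) := by rw [← mul_assoc z, ← c τ]; group
          _ = τ * τ * ε := by rw [← e1]; group)
  have aB : a ∈ Bk D ζ := le_LL hA Aζ ha
  have hn : ρ⁻¹ * (τ * ρ * τ⁻¹) ∈ RR D (Ce ζ) := mul_mem (inv_mem hρ) (conj_mem_RR τN hρ)
  have cτ : ∀ b ∈ Bk D ζ, Commute b (τ * τ) := fun b hb => mem_Ce.1 (t0 hb)
  have cρ : ∀ b ∈ Bk D ζ, Commute b (ρ * ρ) := fun b hb => Ez_comm (m.sq _ sB ρ hρ) hb
  have n1 : τ * (ρ⁻¹ * (τ * ρ * τ⁻¹)) * τ⁻¹ = (ρ⁻¹ * (τ * ρ * τ⁻¹))⁻¹ := by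
    rw [show τ * (ρ⁻¹ * (τ * ρ * τ⁻¹)) * τ⁻¹ = τ * ρ⁻¹ * τ⁻¹ * (τ * τ * ρ) * (τ * τ)⁻¹ by group,
      ← (cτ ρ (RR_le _ hρ)).eq]
    group
  have n2 : ρ * τ * (ρ * τ) = ρ * ρ * (ρ⁻¹ * (τ * ρ * τ⁻¹)) * (τ * τ) := by group
  have t1 := m.t1 _ sB τ τN ρ hρ
  generalize ρ⁻¹ * (τ * ρ * τ⁻¹) = n at hn n1 n2 t1
  have n3 : n⁻¹ * (ρ * τ * (ρ * τ)) = ρ * ρ * (τ * τ) := by
    rw [n2, ← (cρ n (RR_le _ hn)).eq]; group
  have cc : ∀ b ∈ Bk D ζ, Commute b (n⁻¹ * (ρ * τ * (ρ * τ))) := fun b hb =>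
    n3 ▸ (cρ b hb).mul_right (cτ b hb)
  have hy := conj_mem_RR (le_normalizer aB) hn
  rw [comm_eq_of_cen (cc n (RR_le _ hn)) (cc a aB), t1 _ hy ?_]
  · exact ce ζ hζ τ τ2 τN _ (m.cm _ sB ρ hρ _ hy)
  · have aτ : a * τ = τ * a := mem_Ce.1 (Aτ ha)
    rw [show ⁅τ, a * n * a⁻¹⁆ = a * (n⁻¹ * n⁻¹) * a⁻¹ by
      rw [commutatorElement_def, show a * (n⁻¹ * n⁻¹) * a⁻¹ = a * (τ * n * τ⁻¹) * n⁻¹ * a⁻¹ by
        rw [n1]; group]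
      calc _ = τ * a * n * (τ * a)⁻¹ * (a * n⁻¹ * a⁻¹) := by group
        _ = _ := by rw [← aτ]; group]
    exact conj_mem_ZZ (le_normalizer aB) (m.sq _ sB _ (inv_mem hn))

end Cfsg.Agent.H5.ZcP
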