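import Cfsg.Agent.H56.ZCDefs
import Cfsg.Agent.S0550

/-! Primitive groups with a doubly transitive subconstituent: two minimal normal subgroups. -/

set_option autoImplicit false

namespace Cfsg.Agent.H5.ZcH

open Subgroup MulAction Cfsg.Agent.H56.ZC

universe u v

theorem core_bot {G : Type u} {Ω : Type v} [Group G] [MulAction G Ω] [FaithfulSMul G Ω]
    [IsPretransitive G Ω] (α : Ω) : (stabilizer G α).normalCore = ⊥ := by
  refine (eq_bot_iff_forall _).2 fun g hg => eq_of_smul_eq_smul (α := Ω) fun ω => ?_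
  obtain ⟨k, rfl⟩ := exists_smul_eq G α ω
  have : (k⁻¹ * g * k⁻¹⁻¹) • α = α := hg k⁻¹
  rw [one_smul, ← mul_smul, show g * k = k * (k⁻¹ * g * k⁻¹⁻¹) by group, mul_smul, this]

theorem hs (z : Zc1Stmt.{u, v}) : HsStmt.{u, v} := by
  intro G Ω _ _ _ _ α β P A B hA hB
  by_contra ne
  have := P.fa
  have := P.prim
  have := hA.1
  have := hB.1
  have : Nontrivial Ω := ⟨⟨β, α, P.ne⟩⟩
  have : Nontrivial ↥(orbit (stabilizer G α) β) := Finite.one_lt_card_iff_nontrivial.1 P.two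
  obtain ⟨-, cA, kA, kB, na, -⟩ := Cfsg.Agent.S0550.result (stabilizer G α)
    (IsPreprimitive.isCoatom_stabilizer_of_isPreprimitive G α) (core_bot α) A B hA.2.1 hB.2.1
    hA.2.2 hB.2.2 ne
  have AB : ∀ x ∈ A, x ∈ B → x = 1 := fun x h1 h2 => by
    rcases hA.2.2 (A ⊓ B) inferInstance inf_le_left with e | e
    · exact mem_bot.1 (e.le ⟨h1, h2⟩)
    · exact absurd ((hB.2.2 A hA.1 (inf_eq_left.1 e)).resolve_left hA.2.1) ne
  have AH : ∀ x ∈ A, x ∈ stabilizer G α → x = 1 := fun x h1 h2 =>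
    mem_bot.1 (kA.disjoint.le_bot ⟨h1, h2⟩)
  have BH : ∀ x ∈ B, x ∈ stabilizer G α → x = 1 := fun x h1 h2 =>
    mem_bot.1 (kB.disjoint.le_bot ⟨h1, h2⟩)
  have dec : ∀ {X : Subgroup G}, IsComplement' X (stabilizer G α) → ∀ g : G,
      ∃ x ∈ X, ∃ h ∈ stabilizer G α, x * h = g := fun k g => by
    obtain ⟨⟨x, h⟩, e⟩ := (k.existsUnique g).exists
    exact ⟨x, x.2, h, h.2, e⟩
  have cm : ∀ x ∈ A, ∀ y ∈ B, Commute x y := fun x hx y hy =>
    mem_centralizer_iff.1 (cA.ge hy) x hx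
  have par : ∀ x ∈ A, ∃ y ∈ B, x * y ∈ stabilizer G α := fun x _ => by
    obtain ⟨y, hy, h, hh, e⟩ := dec kB x⁻¹
    refine ⟨y, hy, ?_⟩
    rw [show x * y = h⁻¹ by rw [← inv_inv x, ← e]; group]
    exact inv_mem hh
  have key : ∀ x ∈ A, ∀ y ∈ B, ∀ x' ∈ A, ∀ y' ∈ B, Commute (x * y) (x' * y') → Commute x x' :=
    fun x hx y hy x' hx' y' hy' c => by
      have e : x * x' * (y * y') = x' * x * (y' * y) := by
        rw [← (cm x' hx' y hy).symm.mul_mul_mul_comm, ← (cm x hx y' hy').symm.mul_mul_mul_comm, c.eq]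
      have := AB ((x' * x)⁻¹ * (x * x')) (mul_mem (inv_mem (mul_mem hx' hx)) (mul_mem hx hx')) (by
        rw [show (x' * x)⁻¹ * (x * x') = y' * y * (y * y')⁻¹ by
          rw [inv_mul_eq_iff_eq_mul, ← mul_assoc, ← e]; group]
        exact mul_mem (mul_mem hy' hy) (inv_mem (mul_mem hy hy')))
      exact (inv_mul_eq_one.1 this).symm
  obtain ⟨g, hg⟩ := exists_smul_eq G α β
  obtain ⟨x, hx, h0, hh0, rfl⟩ := dec kA g
  rw [mul_smul, mem_stabilizer_iff.1 hh0] at hg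
  obtain ⟨y, hy, hd⟩ := par x hx
  have d1 : (⟨x * y, hd⟩ : stabilizer G α) ≠ 1 := fun e => by
    have e' : x * y = 1 := congrArg Subtype.val e
    rw [AB x hx (eq_inv_of_mul_eq_one_left e' ▸ inv_mem hy), one_smul] at hg
    exact P.ne hg.symm
  have dN : (⟨x * y, hd⟩ : stabilizer G α) ∈ (A ⊔ B).subgroupOf (stabilizer G α) :=
    mul_mem_sup hx hy
  have st : ∀ h : stabilizer G α, h ∈ stabilizer (stabilizer G α)
      (⟨β, mem_orbit_self β⟩ : orbit (stabilizer G α) β) ↔ Commute (h : G) x := fun h => by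
    rw [mem_stabilizer_iff, Subtype.ext_iff]
    change (h : G) • β = β ↔ _
    rw [← hg, ← mul_smul]
    refine ⟨fun e => ?_, fun c => by rw [c.eq, mul_smul, mem_stabilizer_iff.1 h.2]⟩
    have h1 : x⁻¹ * (h * x) ∈ stabilizer G α := by
      rw [mem_stabilizer_iff, mul_smul, e, inv_smul_smul]
    have := AH (x⁻¹ * (h * x * (h : G)⁻¹)) (mul_mem (inv_mem hx) (hA.1.conj_mem x hx h))
      (by simpa [mul_assoc] using mul_mem h1 (inv_mem h.2))
    exact mul_inv_eq_iff_eq_mul.1 (inv_mul_eq_one.1 this).symm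
  have cen : ∀ h : stabilizer G α, Commute (h : G) x →
      h ∈ centralizer (zpowers (⟨x * y, hd⟩ : stabilizer G α) : Set (stabilizer G α)) :=
    fun h c => by
      have h1 : (h : G) * (x * y) * (h : G)⁻¹ = x * (h * y * (h : G)⁻¹) := by
        rw [← mul_assoc, c.eq]; group
      have := BH (y⁻¹ * (h * y * (h : G)⁻¹)) (mul_mem (inv_mem hy) (hB.1.conj_mem y hy h)) (by
        have := mul_mem (inv_mem hd) (h1 ▸ mul_mem (mul_mem h.2 hd) (inv_mem h.2))
        simpa [mul_assoc] using this)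
      have c' : Commute (h : G) y := mul_inv_eq_iff_eq_mul.1 (inv_mul_eq_one.1 this).symm
      rintro _ ⟨m, rfl⟩
      exact (Commute.zpow_left (show Commute (⟨x * y, hd⟩ : stabilizer G α) h from
        Subtype.ext (c.mul_right c').symm.eq) m).eq
  refine z _ _ P.tr2 ⟨β, mem_orbit_self β⟩ ((A ⊔ B).subgroupOf (stabilizer G α))
    (zpowers ⟨x * y, hd⟩) ⟨inferInstance, fun e => d1 (mem_bot.1 (e.le dN)), fun K hK le => ?_⟩
    (fun c => na ⟨⟨fun a a' => Subtype.ext ?_⟩⟩) (zpowers_le.2 dN) (zpowers_ne_bot.2 d1)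
    (fun h hh => centralizer_le_normalizer _ (cen h ((st h).1 hh))) (le_antisymm
      (fun h hh => ⟨hh.1, cen h ((st h).1 hh.2)⟩) fun h hh => ⟨hh.1, (st h).2 ?_⟩)
  · have nK : (K.map (stabilizer G α).subtype ⊔ B).Normal := by
      rw [← normalizer_eq_top_iff, eq_top_iff, ← kB.sup_eq_top]
      refine sup_le (le_sup_right.trans le_normalizer) fun h hh => mem_normalizer_fintype ?_
      intro t ht
      obtain ⟨_, ⟨k, hk, rfl⟩, b, hb, rfl⟩ := mem_sup_of_normal_right.1 ht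
      rw [show h * ((stabilizer G α).subtype k * b) * h⁻¹ = h * k * h⁻¹ * (h * b * h⁻¹) by
        simp [mul_assoc]]
      exact mul_mem_sup ⟨_, hK.conj_mem k hk ⟨h, hh⟩, rfl⟩ (hB.1.conj_mem b hb h)
    rcases hA.2.2 (A ⊓ (K.map (stabilizer G α).subtype ⊔ B)) inferInstance inf_le_left with e | e
    · refine Or.inl ((eq_bot_iff_forall _).2 fun k hk => Subtype.ext ?_)
      obtain ⟨a, ha, b, hb, e'⟩ := mem_sup_of_normal_right.1 (mem_subgroupOf.1 (le hk))
      have a1 : a = 1 := mem_bot.1 (e.le ⟨ha, by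
        rw [eq_mul_inv_of_mul_eq e']
        exact mul_mem_sup ⟨k, hk, rfl⟩ (inv_mem hb)⟩)
      rw [a1, one_mul] at e'
      exact BH _ (e' ▸ hb) k.2
    · refine Or.inr (le_antisymm le fun d hd' => ?_)
      obtain ⟨_, ⟨k, hk, rfl⟩, b, hb, e'⟩ := mem_sup_of_normal_right.1
        (sup_le (inf_eq_left.1 e) le_sup_right (mem_subgroupOf.1 hd'))
      rw [BH b hb (by
        rw [eq_inv_mul_of_mul_eq e']; exact mul_mem (inv_mem k.2) d.2), mul_one] at e'
      exact (Subtype.ext e' : k = d) ▸ hk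
  · obtain ⟨b, hb, h1⟩ := par a a.2
    obtain ⟨b', hb', h2⟩ := par a' a'.2
    exact key _ a.2 b hb _ a'.2 b' hb' (congrArg (fun t : (A ⊔ B).subgroupOf (stabilizer G α) =>
      (t.1.1 : G)) (c.is_comm.comm ⟨⟨_, h1⟩, mul_mem_sup a.2 hb⟩ ⟨⟨_, h2⟩, mul_mem_sup a'.2 hb'⟩))
  · obtain ⟨a, ha, b, hb, e⟩ := mem_sup_of_normal_right.1 (mem_subgroupOf.1 hh.1)
    have c : x * y * h = h * (x * y) :=
      congrArg Subtype.val (mem_centralizer_iff.1 hh.2 _ (mem_zpowers _))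
    rw [← e] at c ⊢
    exact (key x hx y hy a ha b hb c).symm.mul_left (cm x hx b hb).symm

end Cfsg.Agent.H5.ZcH
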